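import Mathlib
import Cfsg.Agent.Lib.Helper22.FStar

set_option autoImplicit false

universe u

namespace Cfsg.Agent.Lib.Helper1

open Subgroup
open scoped commutatorElement

section Chief
variable {G : Type u} [Group G]

/-- `U / V` is a chief factor of `G`. -/
def IsChief (U V : Subgroup G) : Prop :=
  U.Normal ∧ V.Normal ∧ V < U ∧ ∀ W : Subgroup G, W.Normal → V ≤ W → W ≤ U → W = V ∨ W = U

/-- If `X = [X, F]` with `F` normal nilpotent, then `X = 1`. -/
theorem eq_bot_of_commutator_eq (X F : Subgroup G) [F.Normal] (hF : Group.IsNilpotent F)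
    (h : ⁅X, F⁆ = X) : X = ⊥ := by
  obtain ⟨n, hn⟩ := (Subgroup.isNilpotent_iff_lowerCentralSeries F).mp hF
  have key : ∀ k, X ≤ F.lowerCentralSeries k := by
    intro k
    induction k with
    | zero =>
      rw [Subgroup.lowerCentralSeries_zero, ← h]
      exact Subgroup.commutator_le_right X F
    | succ k ih =>
      rw [Subgroup.lowerCentralSeries_succ]
      conv_lhs => rw [← h]
      exact Subgroup.commutator_mono ih le_rfl
  have := key n
  rw [hn] at this
  exact le_bot_iff.mp this

/-- A nilpotent normal subgroup centralises every chief factor. -/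
theorem commutator_le_of_isChief (F : Subgroup G) [F.Normal] (hF : Group.IsNilpotent F)
    (U V : Subgroup G) (h : IsChief U V) : ⁅U, F⁆ ≤ V := by
  obtain ⟨hU, hV, hVU, hmax⟩ := h
  set π := QuotientGroup.mk' V with hπ
  have hsurj : Function.Surjective π := QuotientGroup.mk'_surjective V
  set X := U.map π with hX
  set Fb := F.map π with hFb
  have hXn : X.Normal := Subgroup.Normal.map hU π hsurj
  have hFbn : Fb.Normal := Subgroup.Normal.map inferInstance π hsurj
  have hFbnil : Group.IsNilpotent Fb :=
    Group.nilpotent_of_surjective (π.subgroupMap F) (π.subgroupMap_surjective F)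
  set Y := ⁅X, Fb⁆ with hY
  have hYn : Y.Normal := Subgroup.commutator_normal X Fb
  have hYX : Y ≤ X := Subgroup.commutator_le_left X Fb
  set W := Y.comap π with hW
  have hWn : W.Normal := Subgroup.Normal.comap hYn π
  have hVW : V ≤ W := by
    conv_lhs => rw [← QuotientGroup.ker_mk' V]
    exact Subgroup.ker_le_comap _ _
  have hWU : W ≤ U := by
    have h1 : W ≤ X.comap π := Subgroup.comap_mono hYX
    rw [hX, hπ, QuotientGroup.comap_map_mk', sup_of_le_right hVU.le] at h1
    exact h1
  have hmapcomm : (⁅U, F⁆).map π = Y := Subgroup.map_commutator U F π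
  rcases hmax W hWn hVW hWU with h1 | h1
  · -- `Y = ⊥`
    have hYbot : Y = ⊥ := by
      have h2 : W.map π = Y := Subgroup.map_comap_eq_self_of_surjective hsurj Y
      rw [h1] at h2
      rw [← h2, hπ, QuotientGroup.map_mk'_self]
    rw [hYbot, Subgroup.map_eq_bot_iff, hπ, QuotientGroup.ker_mk'] at hmapcomm
    exact hmapcomm
  · exfalso
    have hYX' : Y = X := by
      have h2 : W.map π = Y := Subgroup.map_comap_eq_self_of_surjective hsurj Y
      rw [h1] at h2
      exact h2.symm
    have hXbot : X = ⊥ := eq_bot_of_commutator_eq X Fb hFbnil hYX'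
    rw [hX, Subgroup.map_eq_bot_iff, hπ, QuotientGroup.ker_mk'] at hXbot
    exact absurd hXbot (not_le_of_gt hVU)

/-- Existence of a chief factor below a nontrivial normal subgroup. -/
theorem exists_isChief_below [Finite G] (L : Subgroup G) [hL : L.Normal] (hne : L ≠ ⊥) :
    ∃ V : Subgroup G, IsChief L V := by
  classical
  have : Fintype (Subgroup G) := Fintype.ofFinite _
  set s : Finset (Subgroup G) := Finset.univ.filter (fun W => W.Normal ∧ W < L) with hs
  have hsne : s.Nonempty := ⟨⊥, by
    simp only [hs, Finset.mem_filter, Finset.mem_univ, true_and]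
    exact ⟨inferInstance, bot_lt_iff_ne_bot.mpr hne⟩⟩
  obtain ⟨V, hVs, hVmax⟩ := Finset.exists_max_image s (fun W => Nat.card W) hsne
  simp only [hs, Finset.mem_filter, Finset.mem_univ, true_and] at hVs
  refine ⟨V, hL, hVs.1, hVs.2, ?_⟩
  intro W hWn hVW hWL
  by_cases hWL' : W = L
  · exact Or.inr hWL'
  · left
    have hW : W ∈ s := by
      simp only [hs, Finset.mem_filter, Finset.mem_univ, true_and]
      exact ⟨hWn, lt_of_le_of_ne hWL hWL'⟩
    exact (Subgroup.eq_of_le_of_card_ge hVW (hVmax W hW)).symm

/-- Nilpotency criterion via chief factors. -/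
theorem isNilpotent_of_centralizes_chief [Finite G] (M R : Subgroup G) [hM : M.Normal]
    (hMR : ⁅M, M⁆ ≤ R)
    (hcent : ∀ U V : Subgroup G, IsChief U V → U ≤ R → ⁅U, M⁆ ≤ V) :
    Group.IsNilpotent M := by
  rw [Subgroup.isNilpotent_iff_lowerCentralSeries]
  set L := M.lowerCentralSeries with hL
  have hLn : ∀ k, (L k).Normal := by
    intro k
    induction k with
    | zero => exact hM
    | succ k ih =>
      rw [hL, Subgroup.lowerCentralSeries_succ]
      exact Subgroup.commutator_normal _ _
  have hLanti : ∀ k, L (k + 1) ≤ L k := by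
    intro k
    have := hLn k
    rw [hL, Subgroup.lowerCentralSeries_succ]
    exact Subgroup.commutator_le_left _ _
  have hLR : ∀ k, L (k + 1) ≤ R := by
    intro k
    induction k with
    | zero => exact hMR
    | succ k ih => exact (hLanti (k + 1)).trans ih
  have hstrict : ∀ k, L (k + 1) ≠ ⊥ → L (k + 2) < L (k + 1) := by
    intro k hne
    have := hLn (k + 1)
    obtain ⟨V, hV⟩ := exists_isChief_below (L (k + 1)) hne
    have h1 : ⁅L (k + 1), M⁆ ≤ V := hcent _ _ hV (hLR k)
    exact lt_of_le_of_lt h1 hV.2.2.1
  have hcount : ∀ k, L (k + 1) = ⊥ ∨ Nat.card (L (k + 1)) + k ≤ Nat.card (L 1) := by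
    intro k
    induction k with
    | zero => right; simp
    | succ k ih =>
      rcases ih with h | h
      · left
        show ⁅L (k + 1), M⁆ = ⊥
        rw [h]
        exact le_bot_iff.mp (Subgroup.commutator_le_left ⊥ M)
      · by_cases hne : L (k + 1) = ⊥
        · left
          show ⁅L (k + 1), M⁆ = ⊥
          rw [hne]
          exact le_bot_iff.mp (Subgroup.commutator_le_left ⊥ M)
        · right
          have h1 : Nat.card (L (k + 2)) < Nat.card (L (k + 1)) := by
            have hlt := hstrict k hne
            by_contra hcon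
            rw [not_lt] at hcon
            exact hlt.ne (Subgroup.eq_of_le_of_card_ge hlt.le hcon)
          show Nat.card (L (k + 2)) + (k + 1) ≤ Nat.card (L 1)
          omega
  rcases hcount (Nat.card (L 1)) with h | h
  · exact ⟨_, h⟩
  · exfalso
    have : 0 < Nat.card (L (Nat.card (L 1) + 1)) := Nat.card_pos
    omega

end Chief

end Cfsg.Agent.Lib.Helper1
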