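import Cfsg.Agent.Lib.Helper1.PFrattini
import Cfsg.Agent.Lib.Helper1.ChiefFitting
import Mathlib

set_option autoImplicit false

namespace Cfsg.Agent.Lib.Helper1

open scoped commutatorElement Pointwise

variable {G : Type*} [Group G]

/-- Inside a nontrivial normal subgroup `A` of a finite `p`-group there is a `G`-normal subgroup of
index `p`. -/
theorem exists_normal_index_p [Finite G] {p : ℕ} [Fact p.Prime] (hG : IsPGroup p G)
    (A : Subgroup G) [hAn : A.Normal] (hA : A ≠ ⊥) :
    ∃ A₁ : Subgroup G, A₁.Normal ∧ A₁ ≤ A ∧ Nat.card A = p * Nat.card A₁ := by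
  have hnil : Group.IsNilpotent G := hG.isNilpotent
  have hlt : ⁅A, (⊤ : Subgroup G)⁆ < A := by
    refine lt_of_le_of_ne (Subgroup.commutator_le_left A ⊤) ?_
    intro h
    exact hA (eq_bot_of_commutator_eq A ⊤ inferInstance h)
  have hne : (⁅A, (⊤ : Subgroup G)⁆).subgroupOf A ≠ ⊤ := by
    intro h
    rw [Subgroup.subgroupOf_eq_top] at h
    exact hlt.not_ge h
  rcases eq_top_or_exists_le_coatom ((⁅A, (⊤ : Subgroup G)⁆).subgroupOf A) with h | ⟨M', hM', hle⟩
  · exact absurd h hne
  have hAp : IsPGroup p A := hG.to_subgroup A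
  have hM'n : M'.Normal := coatom_normal_of_isPGroup hAp M' hM'
  have hidx : Nat.card (A ⧸ M') = p := card_quotient_coatom_of_isPGroup hAp M' hM'
  refine ⟨M'.map A.subtype, ?_, Subgroup.map_subtype_le M', ?_⟩
  · constructor
    rintro _ ⟨m, hm, rfl⟩ g
    have hc : ⁅g, (m : G)⁆ ∈ ⁅A, (⊤ : Subgroup G)⁆ := by
      rw [Subgroup.commutator_comm]
      exact Subgroup.commutator_mem_commutator (Subgroup.mem_top g) m.2
    have hcA : ⁅g, (m : G)⁆ ∈ A := hlt.le hc
    have hcM : (⟨⁅g, (m : G)⁆, hcA⟩ : A) ∈ M' := hle (by rw [Subgroup.mem_subgroupOf]; exact hc)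
    refine ⟨⟨⁅g, (m : G)⁆, hcA⟩ * m, mul_mem hcM hm, ?_⟩
    simp [commutatorElement_def]
  · rw [Subgroup.card_map_of_injective A.subtype_injective, ← hidx, ← Subgroup.index_eq_card,
      mul_comm, Subgroup.card_mul_index]

/-- A subgroup strictly between `A₁` and `A` does not exist when `|A| = p |A₁|`. -/
theorem eq_of_le_of_card_eq_prime_mul [Finite G] {p : ℕ} (hp : p.Prime) {A₁ D A : Subgroup G}
    (h1 : A₁ ≤ D) (h2 : D ≤ A) (hcard : Nat.card A = p * Nat.card A₁) (hne : D ≠ A₁) : D = A := by
  obtain ⟨m, hm⟩ := Subgroup.card_dvd_of_le h1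
  obtain ⟨k, hk⟩ := Subgroup.card_dvd_of_le h2
  have hpos : 0 < Nat.card A₁ := Nat.card_pos
  have hmk : m * k = p := by
    have : Nat.card A₁ * (m * k) = Nat.card A₁ * p := by
      rw [← mul_assoc, ← hm, ← hk, hcard, mul_comm]
    exact Nat.eq_of_mul_eq_mul_left hpos this
  have hm1 : m ≠ 1 := by
    intro h
    apply hne
    rw [h, mul_one] at hm
    exact (Subgroup.eq_of_le_of_card_ge h1 hm.le).symm
  have hmp : m = p := by
    rcases (Nat.dvd_prime hp).mp ⟨k, hmk.symm⟩ with h | h
    · exact absurd h hm1
    · exact h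
  apply Subgroup.eq_of_le_of_card_ge h2
  rw [hcard, hm, hmp, mul_comm]

/-- The centraliser of a normal abelian subgroup of order `p ^ a` of a finite `p`-group has index at
most `p ^ (a choose 2)`. -/
theorem index_centralizer_le_of_isPGroup [Finite G] {p : ℕ} [hp : Fact p.Prime]
    (hG : IsPGroup p G) :
    ∀ (a : ℕ) (A : Subgroup G), A.Normal → IsMulCommutative A → Nat.card A = p ^ a →
      (Subgroup.centralizer (A : Set G)).index ≤ p ^ (a.choose 2) := by
  intro a
  induction a with
  | zero =>
    intro A _ _ hc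
    rw [pow_zero] at hc
    have hA : A = ⊥ := Subgroup.card_eq_one.mp hc
    have : Subgroup.centralizer (A : Set G) = ⊤ := by
      rw [hA, Subgroup.coe_bot, Subgroup.centralizer_eq_top_iff_subset]
      intro x hx
      rw [Set.mem_singleton_iff] at hx
      rw [hx]
      exact one_mem _
    rw [this, Subgroup.index_top]
    simp
  | succ a ih =>
    intro A hAn hAc hc
    have hAne : A ≠ ⊥ := by
      intro h
      rw [h, Subgroup.card_bot] at hc
      have h1 : 1 < p ^ (a + 1) := Nat.one_lt_pow (by omega) hp.out.one_lt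
      rw [← hc] at h1
      exact lt_irrefl _ h1
    obtain ⟨A₁, hA₁n, hA₁A, hcard⟩ := exists_normal_index_p hG A hAne
    have hc1 : Nat.card A₁ = p ^ a := by
      have hcard' := hcard
      rw [hc, pow_succ, mul_comm] at hcard'
      exact (Nat.eq_of_mul_eq_mul_left hp.out.pos hcard').symm
    have hA₁c : IsMulCommutative A₁ := by
      rw [← Subgroup.le_centralizer_iff_isMulCommutative]
      exact le_trans hA₁A (le_trans (Subgroup.le_centralizer_iff_isMulCommutative.mpr hAc)
        (Subgroup.centralizer_le (by exact_mod_cast hA₁A)))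
    have ih' := ih A₁ hA₁n hA₁c hc1
    set K := Subgroup.centralizer (A₁ : Set G) with hK
    set C := Subgroup.centralizer (A : Set G) with hC
    have hCK : C ≤ K := Subgroup.centralizer_le (by exact_mod_cast hA₁A)
    -- pick x₀
    have hex : ∃ x₀ ∈ A, x₀ ∉ A₁ := by
      by_contra h
      push Not at h
      have : A ≤ A₁ := h
      have h2 := Subgroup.card_le_of_le this
      rw [hc, hc1] at h2
      have h3 : p ^ a < p ^ (a + 1) := Nat.pow_lt_pow_right hp.out.one_lt (Nat.lt_succ_self a)
      exact absurd h2 (not_le.mpr h3)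
    obtain ⟨x₀, hx₀A, hx₀⟩ := hex
    have hrel : C.relIndex K ≤ p ^ a := by
      -- relIndex is a power of p
      obtain ⟨n, hn⟩ := IsPGroup.iff_card.mp (hG.to_subgroup K)
      have hdvd : C.relIndex K ∣ p ^ n := by rw [← hn]; exact Subgroup.relIndex_dvd_card C K
      obtain ⟨k, _, hk⟩ := (Nat.dvd_prime_pow hp.out).mp hdvd
      -- injection
      let φ : K ⧸ C.subgroupOf K → {y : G // y ∈ A ∧ y ∉ A₁} := fun q =>
        Quotient.liftOn' q
          (fun g => ⟨(g : G) * x₀ * (g : G)⁻¹, hAn.conj_mem x₀ hx₀A g, fun h => hx₀ (by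
            have := hA₁n.conj_mem _ h (g : G)⁻¹
            simpa [mul_assoc] using this)⟩)
          (by
            intro g h hgh
            rw [QuotientGroup.leftRel_apply, Subgroup.mem_subgroupOf] at hgh
            apply Subtype.ext
            have hcomm : x₀ * ((g : G)⁻¹ * (h : G)) = (g : G)⁻¹ * (h : G) * x₀ := by
              simpa using hgh x₀ hx₀A
            show (g : G) * x₀ * (g : G)⁻¹ = (h : G) * x₀ * (h : G)⁻¹
            calc (g : G) * x₀ * (g : G)⁻¹
                = (g : G) * (x₀ * ((g : G)⁻¹ * (h : G))) * (h : G)⁻¹ := by group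
              _ = (g : G) * ((g : G)⁻¹ * (h : G) * x₀) * (h : G)⁻¹ := by rw [hcomm]
              _ = (h : G) * x₀ * (h : G)⁻¹ := by group)
      have hφ : Function.Injective φ := by
        intro q₁ q₂
        refine Quotient.inductionOn₂' q₁ q₂ ?_
        intro g h hgh
        have hval : (g : G) * x₀ * (g : G)⁻¹ = (h : G) * x₀ * (h : G)⁻¹ := by
          have := congrArg Subtype.val hgh
          exact this
        apply Quotient.sound'
        rw [QuotientGroup.leftRel_apply, Subgroup.mem_subgroupOf]
        set c : G := (g : G)⁻¹ * (h : G) with hcdef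
        have hcK : c ∈ K := K.mul_mem (K.inv_mem g.2) h.2
        have hcx : c * x₀ = x₀ * c := by
          rw [hcdef]
          have h1 : x₀ = (g : G)⁻¹ * ((h : G) * x₀ * (h : G)⁻¹) * (g : G) := by
            rw [← hval]; group
          calc (g : G)⁻¹ * (h : G) * x₀
              = ((g : G)⁻¹ * ((h : G) * x₀ * (h : G)⁻¹) * (g : G)) * ((g : G)⁻¹ * (h : G)) := by
                group
            _ = x₀ * ((g : G)⁻¹ * (h : G)) := by rw [← h1]
        -- D = A ⊓ centralizer {c}
        have hD : A ⊓ Subgroup.centralizer ({c} : Set G) = A := by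
          apply eq_of_le_of_card_eq_prime_mul hp.out (A₁ := A₁) _ inf_le_left hcard
          · intro h
            apply hx₀
            rw [← h]
            rw [Subgroup.mem_inf]
            refine ⟨hx₀A, Subgroup.mem_centralizer_iff.mpr ?_⟩
            intro y hy
            rw [Set.mem_singleton_iff] at hy
            rw [hy]
            exact hcx
          · refine le_inf hA₁A ?_
            intro y hy
            rw [Subgroup.mem_centralizer_iff]
            intro z hz
            rw [Set.mem_singleton_iff] at hz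
            rw [hz]
            exact (hcK y hy).symm
        show ((g⁻¹ * h : K) : G) ∈ C
        rw [Subgroup.coe_mul, Subgroup.coe_inv, ← hcdef, hC, Subgroup.mem_centralizer_iff]
        intro y hy
        have hyD : y ∈ A ⊓ Subgroup.centralizer ({c} : Set G) := by rw [hD]; exact hy
        have := Subgroup.mem_centralizer_iff.mp (Subgroup.mem_inf.mp hyD).2
        exact (this c rfl).symm
      have hle : C.relIndex K ≤ Nat.card {y : G // y ∈ A ∧ y ∉ A₁} := by
        rw [Subgroup.relIndex, Subgroup.index_eq_card]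
        exact Nat.card_le_card_of_injective φ hφ
      have hlt : Nat.card {y : G // y ∈ A ∧ y ∉ A₁} < p ^ (a + 1) := by
        rw [← hc]
        let ψ : {y : G // y ∈ A ∧ y ∉ A₁} → A := fun y => ⟨y.1, y.2.1⟩
        have hψ : Function.Injective ψ := by
          intro y z hyz
          apply Subtype.ext
          exact congrArg (fun t : A => (t : G)) hyz
        have hnot : (1 : A) ∉ Set.range ψ := by
          rintro ⟨y, hy⟩
          have : (y : G) = 1 := congrArg (fun t : A => (t : G)) hy
          exact y.2.2 (this ▸ one_mem A₁)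
        have : Fintype {y : G // y ∈ A ∧ y ∉ A₁} := Fintype.ofFinite _
        have : Fintype A := Fintype.ofFinite _
        rw [Nat.card_eq_fintype_card, Nat.card_eq_fintype_card]
        exact Fintype.card_lt_of_injective_of_notMem ψ hψ hnot
      rw [hk] at hle ⊢
      have hkk : p ^ k < p ^ (a + 1) := lt_of_le_of_lt hle hlt
      have : k < a + 1 := (Nat.pow_lt_pow_iff_right hp.out.one_lt).mp hkk
      exact Nat.pow_le_pow_right hp.out.pos (by omega)
    calc C.index = C.relIndex K * K.index := (Subgroup.relIndex_mul_index hCK).symm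
      _ ≤ p ^ a * p ^ (a.choose 2) := Nat.mul_le_mul hrel ih'
      _ = p ^ ((a + 1).choose 2) := by
        rw [← pow_add]
        congr 1
        rw [Nat.choose_succ_succ' a 1, Nat.choose_one_right]

end Cfsg.Agent.Lib.Helper1
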