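import Cfsg.Agent.Lib.Helper18.AutT8
import Cfsg.Agent.Lib.Helper36.ChevChar
import Cfsg.Prelude.Def_KGroupFacts

/-! # O3 for helper18 (S2125/S2122/S2121): an inner field automorphism is trivial (helper1) -/

set_option autoImplicit false

namespace Cfsg.Agent.Lib.Helper18.Au

open Cfsg Cfsg.Lie Cfsg.Agent.Lib.Helper36 Cfsg.Agent.Lib.Helper18

section
variable (D : ChevalleyDatum) (hD : D ∈ [chevG2, chevB2, chevD4, chevF4, chevE6, chevE7, chevE8])
variable (F : Type*) [Field F]

/-- field automorphisms preserve `U` -/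
theorem fieldAut_pres_pos (σ : F ≃+* F) : Pres D F (fieldAut D hD F σ) (D.posUnipotent F) := by
  intro g
  rw [fieldAut_coe]
  constructor
  · intro h
    have h1 : glMap D (σ.symm : F →+* F) (glMap D (σ : F →+* F) (g : GL D.Idx F)) ∈
        D.posUnipotent F :=
      glMap_pos_le D hD (σ.symm : F →+* F) ⟨_, h, rfl⟩
    rwa [glMap_comp_symm D F σ σ.symm (fun t => σ.symm_apply_apply t)] at h1
  · intro h
    exact glMap_pos_le D hD (σ : F →+* F) ⟨_, h, rfl⟩

/-- field automorphisms preserve `V` -/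
theorem fieldAut_pres_neg (σ : F ≃+* F) : Pres D F (fieldAut D hD F σ) (D.negUnipotent F) := by
  intro g
  rw [fieldAut_coe]
  constructor
  · intro h
    have h1 : glMap D (σ.symm : F →+* F) (glMap D (σ : F →+* F) (g : GL D.Idx F)) ∈
        D.negUnipotent F :=
      glMap_neg_le D hD (σ.symm : F →+* F) ⟨_, h, rfl⟩
    rwa [glMap_comp_symm D F σ σ.symm (fun t => σ.symm_apply_apply t)] at h1
  · intro h
    exact glMap_neg_le D hD (σ : F →+* F) ⟨_, h, rfl⟩

/-- O3 with O1 as a hypothesis: a field automorphism which is inner is trivial. -/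
theorem O3_field_inner_of
    (hO1 : ∀ y : ↥(D.group F), Pres D F (MulAut.conj y) (D.posUnipotent F) →
      Pres D F (MulAut.conj y) (D.negUnipotent F) → (y : GL D.Idx F) ∈ D.diagonalSubgroup F)
    (σ : F ≃+* F) (y : ↥(D.group F))
    (h : fieldAut D hD F σ = MulAut.conj y) : σ = RingEquiv.refl F := by
  have hyH : (y : GL D.Idx F) ∈ D.diagonalSubgroup F := by
    apply hO1 y
    · rw [← h]; exact fieldAut_pres_pos D hD F σ
    · rw [← h]; exact fieldAut_pres_neg D hD F σ
  obtain ⟨χ, hχ, hy⟩ := exists_character_of_mem_diagonal D hD F (y : GL D.Idx F) hyH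
  have hrk : 0 < D.rank := rank_pos D hD
  set r := D.simple 0 with hr
  have hrlt : r < D.nroots := simple_lt' D hD ⟨0, hrk⟩
  have key : ∀ t : F, σ t = (χ r : F) * t := by
    intro t
    have h1 : fieldAut D hD F σ (xGr D hD F r t) = xGr D hD F r (σ t) := fieldAut_xGr D hD F σ r t
    have h2 : MulAut.conj y (xGr D hD F r t) = xGr D hD F r ((χ r : F) * t) := by
      apply Subtype.ext
      rw [MulAut.conj_apply]
      show (y : GL D.Idx F) * xGL D hD F r t * ((y⁻¹ : ↥(D.group F)) : GL D.Idx F) = _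
      rw [Subgroup.coe_inv, diag_conj_xGL D hD F (y : GL D.Idx F) χ hχ hy r hrlt t]
      rfl
    rw [h, h2] at h1
    exact (xGr_injective D hD F r hrlt _ _ h1).symm
  have hone : (χ r : F) = 1 := by
    have := key 1
    rw [map_one, mul_one] at this
    exact this.symm
  ext t
  rw [key t, hone, one_mul]
  rfl

end

end Cfsg.Agent.Lib.Helper18.Au
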