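import Mathlib

set_option autoImplicit false

namespace Cfsg.Agent.Lib.Helper1

universe u

open scoped Pointwise commutatorElement

variable {G : Type u} [Group G]

theorem coatom_normal_of_isPGroup [Finite G] {p : ℕ} [Fact p.Prime] (hG : IsPGroup p G)
    (M : Subgroup G) (hM : IsCoatom M) : M.Normal := by
  have : Group.IsNilpotent G := hG.isNilpotent
  exact Subgroup.NormalizerCondition.normal_of_coatom M Group.normalizerCondition_of_isNilpotent hM

theorem card_quotient_coatom_of_isPGroup [Finite G] {p : ℕ} [Fact p.Prime] (hG : IsPGroup p G)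
    (M : Subgroup G) [M.Normal] (hM : IsCoatom M) : Nat.card (G ⧸ M) = p := by
  set π := QuotientGroup.mk' M with hπ
  have hsurj : Function.Surjective π := QuotientGroup.mk'_surjective _
  have hQ : IsPGroup p (G ⧸ M) := hG.to_quotient M
  have hnt : Nontrivial (G ⧸ M) := by
    rw [← not_subsingleton_iff_nontrivial]
    intro hss
    apply hM.1
    rw [eq_top_iff]
    intro x _
    have : π x = 1 := Subsingleton.elim _ _
    rwa [← MonoidHom.mem_ker, hπ, QuotientGroup.ker_mk'] at this
  have hcnt : Nontrivial (Subgroup.center (G ⧸ M)) := hQ.center_nontrivial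
  have hcp : IsPGroup p (Subgroup.center (G ⧸ M)) := hQ.to_subgroup _
  obtain ⟨n, hn0, hn⟩ := hcp.nontrivial_iff_card.mp hcnt
  have hdvd : p ∣ Nat.card (Subgroup.center (G ⧸ M)) := by
    rw [hn]; exact dvd_pow_self p hn0.ne'
  obtain ⟨z, hz⟩ := exists_prime_orderOf_dvd_card' p hdvd
  set Z : Subgroup (G ⧸ M) := Subgroup.zpowers (z : G ⧸ M) with hZ
  have hzord : orderOf (z : G ⧸ M) = p := by rw [Subgroup.orderOf_coe, hz]
  have hMle : M ≤ Z.comap π := by
    intro m hm
    rw [Subgroup.mem_comap]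
    have : π m = 1 := by rwa [← MonoidHom.mem_ker, hπ, QuotientGroup.ker_mk']
    rw [this]; exact Z.one_mem
  have hne : M ≠ Z.comap π := by
    intro h
    have h1 : Z = ⊥ := by
      rw [← Subgroup.map_comap_eq_self_of_surjective hsurj Z, ← h, Subgroup.map_eq_bot_iff,
        hπ, QuotientGroup.ker_mk']
    have : (z : G ⧸ M) ∈ Z := Subgroup.mem_zpowers _
    rw [h1, Subgroup.mem_bot] at this
    rw [this, orderOf_one] at hzord
    exact (Fact.out : p.Prime).one_lt.ne hzord
  have htop : Z.comap π = ⊤ := hM.2 _ (lt_of_le_of_ne hMle hne)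
  have hZtop : Z = ⊤ := by
    rw [← Subgroup.map_comap_eq_self_of_surjective hsurj Z, htop,
      Subgroup.map_top_of_surjective _ hsurj]
  rw [← hzord, ← Nat.card_zpowers, ← hZ, hZtop, Subgroup.card_top]

theorem commutator_le_coatom_of_isPGroup [Finite G] {p : ℕ} [Fact p.Prime] (hG : IsPGroup p G)
    (M : Subgroup G) (hM : IsCoatom M) : commutator G ≤ M := by
  have hn : M.Normal := coatom_normal_of_isPGroup hG M hM
  have hc := card_quotient_coatom_of_isPGroup hG M hM
  have hcyc : IsCyclic (G ⧸ M) := isCyclic_of_prime_card hc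
  rw [commutator_def, Subgroup.commutator_le]
  intro a _ b _
  rw [← QuotientGroup.eq_one_iff]
  change (QuotientGroup.mk' M) ⁅a, b⁆ = 1
  rw [map_commutatorElement, commutatorElement_eq_one_iff_mul_comm]
  obtain ⟨g, hg⟩ := hcyc
  obtain ⟨i, hi⟩ := hg (QuotientGroup.mk' M a)
  obtain ⟨j, hj⟩ := hg (QuotientGroup.mk' M b)
  simp only at hi hj
  rw [← hi, ← hj, ← zpow_add, ← zpow_add, add_comm]

theorem pow_mem_coatom_of_isPGroup [Finite G] {p : ℕ} [Fact p.Prime] (hG : IsPGroup p G)
    (M : Subgroup G) (hM : IsCoatom M) (x : G) : x ^ p ∈ M := by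
  have hn : M.Normal := coatom_normal_of_isPGroup hG M hM
  have hc := card_quotient_coatom_of_isPGroup hG M hM
  rw [← QuotientGroup.eq_one_iff, QuotientGroup.mk_pow, ← hc]
  exact pow_card_eq_one'

end Cfsg.Agent.Lib.Helper1
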