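import Mathlib
import Cfsg.Prelude.Def_OddOrder
import Cfsg.Prelude.Def_OddOrderLocal
import Cfsg.Prelude.Def_Solvable
import Cfsg.Agent.Lib.Helper22.Fitting
import Cfsg.Agent.Lib.Helper32.NarrowCube
import Cfsg.Agent.Lib.Helper68.Omega

/-! # BG157 hive (owner helper91), leaf L4b: the core group theory -/

set_option autoImplicit false
set_option linter.unusedSectionVars false
set_option linter.unusedVariables false
set_option linter.style.haveILetI false

namespace Cfsg.Agent.Lib.Helper91.BG157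

open Subgroup Cfsg

universe u

section l4b

variable {G : Type u} [Group G] [Finite G]

theorem l4b_comm_iff (S : Subgroup G) :
    IsMulCommutative ↥S ↔ ∀ a ∈ S, ∀ b ∈ S, a * b = b * a := by
  constructor
  · intro h a ha b hb
    have := h.is_comm.comm (⟨a, ha⟩ : ↥S) ⟨b, hb⟩
    exact congrArg Subtype.val this
  · intro h
    exact ⟨⟨fun a b => Subtype.ext (h a a.2 b b.2)⟩⟩

/-- in a finite nilpotent group the `p`-elements form `O_p`. -/
theorem l4b_mem_pCore {H : Type u} [Group H] [Finite H] (hnil : Group.IsNilpotent H) (p : ℕ)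
    [Fact p.Prime] (x : H) (hx : ∃ n : ℕ, x ^ p ^ n = 1) : x ∈ pCore p H := by
  have hall : ∀ (q : ℕ) (_ : Fact q.Prime) (P : Sylow q H), (P : Subgroup H).Normal :=
    ((Group.isNilpotent_of_finite_tfae (G := H)).out 0 3).mp hnil
  have hxp : IsPGroup p (Subgroup.zpowers x) := by
    obtain ⟨n, hn⟩ := hx
    rintro ⟨y, hy⟩
    obtain ⟨j, rfl⟩ := Subgroup.mem_zpowers_iff.mp hy
    refine ⟨n, ?_⟩
    apply Subtype.ext
    show (x ^ j) ^ p ^ n = 1
    rw [← zpow_natCast, ← zpow_mul, mul_comm, zpow_mul, zpow_natCast, hn, one_zpow]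
  obtain ⟨Q, hQ⟩ := hxp.exists_le_sylow
  have hQn : (Q : Subgroup H).Normal := hall p inferInstance Q
  have hQle : (Q : Subgroup H) ≤ pCore p H :=
    Cfsg.Agent.Lib.Helper22.le_pCore' hQn Q.isPGroup'
  exact hQle (hQ (Subgroup.mem_zpowers x))

/-- `M_σ` is normalized by `M`. -/
theorem l4b_sigmaCore_normal (M : Subgroup G) : M ≤ normalizer ((sigmaCore M : Subgroup G) : Set G) := by
  intro m hm
  rw [Subgroup.mem_normalizer_iff]
  have key : ∀ (m : G), m ∈ M → ∀ h ∈ sigmaCore M, m * h * m⁻¹ ∈ sigmaCore M := by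
    intro m hm h hh
    unfold sigmaCore at hh ⊢
    obtain ⟨y, hy, rfl⟩ := hh
    have hn : (piCore (sigma M) ↥M).Normal := inferInstance
    refine ⟨(⟨m, hm⟩ : ↥M) * y * (⟨m, hm⟩ : ↥M)⁻¹, hn.conj_mem y hy ⟨m, hm⟩, ?_⟩
    simp
  intro h
  constructor
  · exact key m hm h
  · intro hh
    have := key m⁻¹ (M.inv_mem hm) _ hh
    simpa [mul_assoc] using this

/-- the structure of `P = O_p(M_σ)` in the rank `≤ 2` case: the data extracted from S1412. -/
structure L4bData (p : ℕ) (P P₁ P₂ : Subgroup G) : Prop where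
  sup : P₁ ⊔ P₂ = P
  comm : ∀ a ∈ P₁, ∀ b ∈ P₂, a * b = b * a
  na : ¬ IsMulCommutative ↥P₁
  card : Nat.card ↥P₁ = p ^ 3
  exp : Monoid.exponent ↥P₁ = p
  cyc : IsCyclic ↥P₂
  omega : Subgroup.closure {x : G | x ∈ P₂ ∧ x ^ p = 1} = P₁ ⊓ Subgroup.centralizer (P₁ : Set G)

variable {p : ℕ} [Fact p.Prime] {P P₁ P₂ : Subgroup G}

theorem L4bData.pow_eq_one (d : L4bData p P P₁ P₂) {a : G} (ha : a ∈ P₁) : a ^ p = 1 := by
  have h := Monoid.pow_exponent_eq_one (⟨a, ha⟩ : ↥P₁)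
  rw [d.exp] at h
  exact congrArg Subtype.val h

theorem L4bData.comm₂ (d : L4bData p P P₁ P₂) : ∀ a ∈ P₂, ∀ b ∈ P₂, a * b = b * a := by
  intro a ha b hb
  haveI := d.cyc
  obtain ⟨g, hg⟩ := IsCyclic.exists_generator (α := ↥P₂)
  obtain ⟨i, hi⟩ := Subgroup.mem_zpowers_iff.mp (hg ⟨a, ha⟩)
  obtain ⟨j, hj⟩ := Subgroup.mem_zpowers_iff.mp (hg ⟨b, hb⟩)
  have h1 : (⟨a, ha⟩ : ↥P₂) * ⟨b, hb⟩ = ⟨b, hb⟩ * ⟨a, ha⟩ := by
    rw [← hi, ← hj, ← zpow_add, ← zpow_add, add_comm]
  exact congrArg Subtype.val h1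

/-- `Z(P) = P₂`. -/
theorem L4bData.center_eq (d : L4bData p P P₁ P₂) : P ⊓ centralizer (P : Set G) = P₂ := by
  apply le_antisymm
  · intro x hx
    obtain ⟨hxP, hxC⟩ := Subgroup.mem_inf.mp hx
    rw [← d.sup] at hxP
    obtain ⟨a, ha, b, hb, rfl⟩ := Cfsg.Agent.Lib.Helper32.Narrow.exists_mul_of_mem_sup d.comm hxP
    have haZ : a ∈ P₁ ⊓ Subgroup.centralizer (P₁ : Set G) := by
      refine Subgroup.mem_inf.mpr ⟨ha, ?_⟩
      rw [Subgroup.mem_centralizer_iff]
      intro a' ha'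
      have h1 : a' * (a * b) = a * b * a' := by
        rw [Subgroup.mem_centralizer_iff] at hxC
        apply hxC
        rw [← d.sup]
        exact (le_sup_left : P₁ ≤ P₁ ⊔ P₂) ha'
      have h2 : a' * b = b * a' := d.comm a' ha' b hb
      calc a' * a = a' * (a * b) * b⁻¹ := by group
        _ = a * b * a' * b⁻¹ := by rw [h1]
        _ = a * (b * a') * b⁻¹ := by group
        _ = a * (a' * b) * b⁻¹ := by rw [h2]
        _ = a * a' := by group
    rw [← d.omega] at haZ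
    have haP₂ : a ∈ P₂ := by
      have hle : Subgroup.closure {x : G | x ∈ P₂ ∧ x ^ p = 1} ≤ P₂ := by
        rw [Subgroup.closure_le]
        intro x hx
        exact hx.1
      exact hle haZ
    exact P₂.mul_mem haP₂ hb
  · intro b hb
    refine Subgroup.mem_inf.mpr ⟨?_, ?_⟩
    · rw [← d.sup]
      exact (le_sup_right : P₂ ≤ P₁ ⊔ P₂) hb
    · rw [Subgroup.mem_centralizer_iff]
      intro x hx
      rw [← d.sup] at hx
      obtain ⟨a', ha', b', hb', rfl⟩ :=
        Cfsg.Agent.Lib.Helper32.Narrow.exists_mul_of_mem_sup d.comm hx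
      have h1 : a' * b = b * a' := d.comm a' ha' b hb
      have h2 : b' * b = b * b' := d.comm₂ b' hb' b hb
      calc a' * b' * b = a' * (b' * b) := by group
        _ = a' * (b * b') := by rw [h2]
        _ = a' * b * b' := by group
        _ = b * a' * b' := by rw [h1]
        _ = b * (a' * b') := by group

theorem L4bData.closure_le (d : L4bData p P P₁ P₂) :
    Subgroup.closure {x : G | x ∈ P₂ ∧ x ^ p = 1} ≤ P₂ := by
  rw [Subgroup.closure_le]
  intro x hx
  exact hx.1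

/-- `Z₀ := Z(P₁) = Ω₁(Z(P))`: membership. -/
theorem L4bData.mem_Z0 (d : L4bData p P P₁ P₂) (x : G) :
    x ∈ P₁ ⊓ centralizer (P₁ : Set G) ↔ (x ∈ P ⊓ centralizer (P : Set G) ∧ x ^ p = 1) := by
  constructor
  · intro hx
    have hx1 : x ∈ P₁ := (Subgroup.mem_inf.mp hx).1
    refine ⟨?_, d.pow_eq_one hx1⟩
    rw [d.center_eq]
    rw [← d.omega] at hx
    exact d.closure_le hx
  · rintro ⟨hx, hxp⟩
    rw [d.center_eq] at hx
    rw [← d.omega]
    exact Subgroup.subset_closure ⟨hx, hxp⟩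

/-- `|Z₀| = p`. -/
theorem L4bData.card_Z0 (d : L4bData p P P₁ P₂) :
    Nat.card ↥(P₁ ⊓ centralizer (P₁ : Set G)) = p := by
  classical
  have hp : p.Prime := Fact.out
  have hP₁ : IsPGroup p ↥P₁ := IsPGroup.of_card d.card
  haveI : Nontrivial ↥P₁ := by
    rw [← Finite.one_lt_card_iff_nontrivial, d.card]
    exact Nat.one_lt_pow (by norm_num) hp.one_lt
  haveI hcn : Nontrivial ↥(Subgroup.center ↥P₁) := hP₁.center_nontrivial
  obtain ⟨z, hz⟩ := exists_ne (1 : ↥(Subgroup.center ↥P₁))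
  have hzZ : ((z : ↥P₁) : G) ∈ P₁ ⊓ centralizer (P₁ : Set G) := by
    refine Subgroup.mem_inf.mpr ⟨(z : ↥P₁).2, ?_⟩
    rw [Subgroup.mem_centralizer_iff]
    intro a ha
    have h1 := Subgroup.mem_center_iff.mp z.2 ⟨a, ha⟩
    exact congrArg Subtype.val h1
  have hz1 : ((z : ↥P₁) : G) ≠ 1 := by
    intro h
    apply hz
    apply Subtype.ext
    apply Subtype.ext
    exact h
  -- `|Z₀| ≤ p`
  have hle : Nat.card ↥(P₁ ⊓ centralizer (P₁ : Set G)) ≤ p := by
    haveI := d.cyc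
    haveI : Fintype ↥P₂ := Fintype.ofFinite _
    have h1 : (Finset.univ.filter (fun y : ↥P₂ => y ^ p = 1)).card ≤ p :=
      IsCyclic.card_pow_eq_one_le hp.pos
    have h2 : Nat.card {y : ↥P₂ // y ^ p = 1} =
        (Finset.univ.filter (fun y : ↥P₂ => y ^ p = 1)).card := by
      rw [Nat.card_eq_fintype_card, Fintype.card_subtype]
    have hmem : ∀ x : ↥(P₁ ⊓ centralizer (P₁ : Set G)), (x : G) ∈ P₂ ∧ (x : G) ^ p = 1 := by
      intro x
      have h3 := (d.mem_Z0 x).mp x.2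
      rw [d.center_eq] at h3
      exact h3
    have h3 : Nat.card ↥(P₁ ⊓ centralizer (P₁ : Set G)) ≤ Nat.card {y : ↥P₂ // y ^ p = 1} := by
      apply Nat.card_le_card_of_injective
        (fun x : ↥(P₁ ⊓ centralizer (P₁ : Set G)) =>
          (⟨⟨(x : G), (hmem x).1⟩, Subtype.ext (hmem x).2⟩ : {y : ↥P₂ // y ^ p = 1}))
      intro x y hxy
      apply Subtype.ext
      have := congrArg (fun t : {y : ↥P₂ // y ^ p = 1} => ((t : ↥P₂) : G)) hxy
      exact this
    omega
  have hZp : IsPGroup p ↥(P₁ ⊓ centralizer (P₁ : Set G)) := hP₁.to_le inf_le_left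
  obtain ⟨j, hj⟩ := hZp.exists_card_eq
  have hj0 : j ≠ 0 := by
    intro h0
    rw [h0, pow_zero] at hj
    have hbot := Subgroup.eq_bot_of_card_eq _ hj
    rw [hbot, Subgroup.mem_bot] at hzZ
    exact hz1 hzZ
  have hj1 : j ≤ 1 := by
    by_contra hcon
    push Not at hcon
    have : p ^ 2 ≤ p ^ j := Nat.pow_le_pow_right hp.pos hcon
    have h4 : p < p ^ 2 := by
      calc p = p ^ 1 := (pow_one p).symm
        _ < p ^ 2 := Nat.pow_lt_pow_right hp.one_lt (by norm_num)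
    omega
  have hj' : j = 1 := by omega
  rw [hj, hj', pow_one]

end l4b

section core

variable {G : Type u} [Group G] [Finite G]

/-- conjugation action of `K ≤ N(Z)` on `Z`. -/
noncomputable def l4bConj (Z K : Subgroup G) (hK : K ≤ normalizer (Z : Set G)) : ↥K →* MulAut ↥Z :=
  Cfsg.Agent.Lib.Helper32.Narrow.conjAct Z K hK

/-- the core of leaf L4b, with the BG rows and the other leaves as explicit hypotheses. -/
theorem l4b_core {M K : Subgroup G} (hodd : Odd (Nat.card G))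
    (hKM : K ≤ M)
    (hKκ : ∀ q : ℕ, q.Prime → q ∣ Nat.card ↥K → q ∈ kappa M)
    (hnil : Group.IsNilpotent ↥(sigmaCore M)) (p : ℕ) [Fact p.Prime]
    (hPna : ¬ IsMulCommutative ↥(pCore p ↥(sigmaCore M)))
    (hr : PRankLE p 2 ↥(pCore p ↥(sigmaCore M)))
    (h1350a : ∀ q : ℕ, q.Prime → q ∣ Nat.card ↥(sigmaCore M) → q ∈ sigma M)
    (h1350b : ∀ q : ℕ, q.Prime → q ∈ sigma M → ¬ q ∣ (sigmaCore M).index)
    (h1412 : ∀ P : Sylow p G, PRankLE p 2 ↥(P : Subgroup G) →
      IsMulCommutative ↥(P : Subgroup G) ∨ ∃ P₁ P₂ : Subgroup G, L4bData p (P : Subgroup G) P₁ P₂)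
    (h1430 : ∀ k ∈ K, k ≠ 1 → sigmaCore M ⊓ centralizer ({k} : Set G) =
      sigmaCore M ⊓ centralizer (K : Set G))
    (h1373 : (Nat.card ↥(sigmaCore M ⊓ centralizer (K : Set G))).Prime)
    (hX : ∀ P Z : Subgroup G, p ≠ 2 → Nat.card ↥P = p ^ 3 → ¬ IsMulCommutative ↥P →
      K ≤ normalizer (P : Set G) → Odd (Nat.card ↥K) → (Nat.card ↥K).Coprime p →
      K ⊓ centralizer (P : Set G) = ⊥ → P ⊓ centralizer (P : Set G) ≤ centralizer (K : Set G) →
      Z ≤ P → Nat.card ↥Z = p → Z ≤ centralizer (P : Set G) → K ≤ centralizer (Z : Set G) →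
      (∀ k ∈ K, k ≠ 1 → P ⊓ centralizer ({k} : Set G) ≤ Z) →
      Nat.card ↥K ∣ p - 1 ∨ Nat.card ↥K ∣ p + 1)
    (hF : ∀ P : Subgroup G, P ≤ sigmaCore M → ¬ IsMulCommutative ↥P →
      K ⊓ centralizer (P : Set G) = ⊥) :
    Nat.card ↥K ∣ p - 1 ∨
      (Nat.card ↥(pCore p ↥(sigmaCore M)) = p ^ 3 ∧ Nat.card ↥K ∣ p + 1) := by
  classical
  have hp : p.Prime := Fact.out
  set H := sigmaCore M with hH
  set Pc := pCore p ↥H with hPc
  set P := Pc.map H.subtype with hP
  have hPcp : IsPGroup p ↥Pc := Cfsg.Agent.Lib.Helper22.pCore_isPGroup' p ↥H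
  have hPp : IsPGroup p ↥P := hPcp.map H.subtype
  -- membership in `P`
  have hmemP : ∀ x : G, x ∈ P ↔ x ∈ H ∧ ∃ n : ℕ, x ^ p ^ n = 1 := by
    intro x
    constructor
    · rintro ⟨y, hy, rfl⟩
      refine ⟨y.2, ?_⟩
      obtain ⟨n, hn⟩ := hPcp ⟨y, hy⟩
      refine ⟨n, ?_⟩
      have h1 := congrArg (fun t : ↥Pc => ((t : ↥H) : G)) hn
      simpa using h1
    · rintro ⟨hxH, n, hn⟩
      refine ⟨⟨x, hxH⟩, ?_, rfl⟩
      apply l4b_mem_pCore hnil p
      exact ⟨n, Subtype.ext hn⟩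
  have hPH : P ≤ H := fun x hx => ((hmemP x).mp hx).1
  -- `P` is nonabelian
  have hPna' : ¬ IsMulCommutative ↥P := by
    intro hc
    apply hPna
    rw [l4b_comm_iff] at hc ⊢
    intro a ha b hb
    have h1 := hc (a : G) ⟨a, ha, rfl⟩ (b : G) ⟨b, hb, rfl⟩
    exact Subtype.ext h1
  have hPbot : P ≠ ⊥ := by
    intro hbot
    apply hPna'
    rw [l4b_comm_iff]
    intro a ha b hb
    rw [hbot, Subgroup.mem_bot] at ha hb
    rw [ha, hb]
  -- `p ∈ σ(M)`
  have hpdP : p ∣ Nat.card ↥P := by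
    obtain ⟨j, hj⟩ := hPp.exists_card_eq
    rcases Nat.eq_zero_or_pos j with h0 | h0
    · exfalso
      rw [h0, pow_zero] at hj
      exact hPbot (Subgroup.eq_bot_of_card_eq _ hj)
    · rw [hj]
      exact dvd_pow_self p h0.ne'
  have hpσ : p ∈ sigma M := h1350a p hp (hpdP.trans (Subgroup.card_dvd_of_le hPH))
  have hpG : p ∣ Nat.card G := hpdP.trans (Subgroup.card_subgroup_dvd_card P)
  have hp2 : p ≠ 2 := by
    intro h2
    rw [h2] at hpG
    exact (Nat.not_even_iff_odd.mpr hodd) (even_iff_two_dvd.mpr hpG)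
  -- `P` is a Sylow `p`-subgroup of `G`
  have hPcidx : ¬ p ∣ Pc.index := by
    have hall : ∀ (q : ℕ) (_ : Fact q.Prime) (S : Sylow q ↥H), (S : Subgroup ↥H).Normal :=
      ((Group.isNilpotent_of_finite_tfae (G := ↥H)).out 0 3).mp hnil
    let S : Sylow p ↥H := default
    have hSn : (S : Subgroup ↥H).Normal := hall p inferInstance S
    have hSle : (S : Subgroup ↥H) ≤ Pc := Cfsg.Agent.Lib.Helper22.le_pCore' hSn S.isPGroup'
    intro hdvd
    exact S.not_dvd_index (hdvd.trans (Subgroup.index_dvd_of_le hSle))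
  have hPidx : ¬ p ∣ P.index := by
    rw [hP, Subgroup.index_map_subtype]
    intro hdvd
    rcases (Nat.Prime.dvd_mul hp).mp hdvd with h | h
    · exact hPcidx h
    · exact h1350b p hp hpσ h
  let Psyl : Sylow p G := hPp.toSylow hPidx
  have hPsyl : (Psyl : Subgroup G) = P := hPp.toSylow_coe hPidx
  -- rank of `P`
  have hrP : PRankLE p 2 ↥(Psyl : Subgroup G) := by
    rw [hPsyl]
    intro A hAc hAe
    -- transport `A` to `Pc`
    let e : ↥Pc ≃* ↥P := Pc.equivMapOfInjective H.subtype H.subtype_injective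
    let A' : Subgroup ↥Pc := A.comap e.toMonoidHom
    have hcard : Nat.card ↥A' = Nat.card ↥A := by
      apply Nat.card_congr
      refine Equiv.ofBijective (fun a : ↥A' => (⟨e a.1, a.2⟩ : ↥A)) ⟨?_, ?_⟩
      · intro a b hab
        apply Subtype.ext
        apply e.injective
        exact congrArg Subtype.val hab
      · intro b
        refine ⟨⟨e.symm b.1, ?_⟩, ?_⟩
        · show e (e.symm b.1) ∈ A
          rw [MulEquiv.apply_symm_apply]
          exact b.2
        · apply Subtype.ext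
          show e (e.symm b.1) = b.1
          rw [MulEquiv.apply_symm_apply]
    rw [← hcard]
    apply hr A'
    · rw [l4b_comm_iff] at hAc ⊢
      intro a ha b hb
      apply e.injective
      rw [map_mul, map_mul]
      exact hAc (e a) ha (e b) hb
    · intro a ha
      apply e.injective
      rw [map_pow, map_one]
      exact hAe (e a) ha
  -- the central product decomposition
  rcases h1412 Psyl hrP with hc | ⟨P₁, P₂, d⟩
  · exfalso
    rw [hPsyl] at hc
    exact hPna' hc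
  rw [hPsyl] at d
  set Z₀ := P₁ ⊓ centralizer (P₁ : Set G) with hZ₀
  have hZ₀card : Nat.card ↥Z₀ = p := d.card_Z0
  have hZ₀P : Z₀ ≤ P := fun x hx => (Subgroup.mem_inf.mp ((d.mem_Z0 x).mp hx).1).1
  -- `K` normalizes `H`, `P`, `Z(P)`, `Z₀`
  have hconjH : ∀ k ∈ K, ∀ x ∈ H, k * x * k⁻¹ ∈ H := by
    intro k hk x hx
    have h1 := l4b_sigmaCore_normal M (hKM hk)
    exact (Subgroup.mem_normalizer_iff.mp h1 x).mp hx
  have hconjP : ∀ k ∈ K, ∀ x ∈ P, k * x * k⁻¹ ∈ P := by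
    intro k hk x hx
    obtain ⟨hxH, n, hn⟩ := (hmemP x).mp hx
    refine (hmemP _).mpr ⟨hconjH k hk x hxH, n, ?_⟩
    rw [conj_pow, hn, mul_one, mul_inv_cancel]
  have hKP : K ≤ normalizer (P : Set G) := by
    intro k hk
    rw [Subgroup.mem_normalizer_iff]
    intro x
    constructor
    · exact hconjP k hk x
    · intro hx
      have h1 := hconjP k⁻¹ (K.inv_mem hk) _ hx
      simpa [mul_assoc] using h1
  have hconjZ : ∀ k ∈ K, ∀ x ∈ P ⊓ centralizer (P : Set G), k * x * k⁻¹ ∈ P ⊓ centralizer (P : Set G) := by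
    intro k hk x hx
    obtain ⟨hxP, hxC⟩ := Subgroup.mem_inf.mp hx
    refine Subgroup.mem_inf.mpr ⟨hconjP k hk x hxP, ?_⟩
    rw [Subgroup.mem_centralizer_iff] at hxC ⊢
    intro y hy
    have h1 : k⁻¹ * y * k⁻¹⁻¹ ∈ P := hconjP k⁻¹ (K.inv_mem hk) y hy
    have h2 := hxC _ h1
    rw [inv_inv] at h2
    calc y * (k * x * k⁻¹) = k * (k⁻¹ * y * k * x) * k⁻¹ := by group
      _ = k * (x * (k⁻¹ * y * k)) * k⁻¹ := by rw [h2]
      _ = k * x * k⁻¹ * y := by group
  have hconjZ₀ : ∀ k ∈ K, ∀ x ∈ Z₀, k * x * k⁻¹ ∈ Z₀ := by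
    intro k hk x hx
    obtain ⟨h1, h2⟩ := (d.mem_Z0 x).mp hx
    refine (d.mem_Z0 _).mpr ⟨hconjZ k hk x h1, ?_⟩
    rw [conj_pow, h2, mul_one, mul_inv_cancel]
  have hKZ₀ : K ≤ normalizer (Z₀ : Set G) := by
    intro k hk
    rw [Subgroup.mem_normalizer_iff]
    intro x
    constructor
    · exact hconjZ₀ k hk x
    · intro hx
      have h1 := hconjZ₀ k⁻¹ (K.inv_mem hk) _ hx
      simpa [mul_assoc] using h1
  have hKZ : K ≤ normalizer ((P ⊓ centralizer (P : Set G) : Subgroup G) : Set G) := by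
    intro k hk
    rw [Subgroup.mem_normalizer_iff]
    intro x
    constructor
    · exact hconjZ k hk x
    · intro hx
      have h1 := hconjZ k⁻¹ (K.inv_mem hk) _ hx
      simpa [mul_assoc] using h1
  -- coprimality
  have hKcop : (Nat.card ↥K).Coprime p := by
    rw [Nat.coprime_comm, Nat.Prime.coprime_iff_not_dvd hp]
    intro hdvd
    have h1 := hKκ p hp hdvd
    exact h1.2.2.1 hpσ
  have hKodd : Odd (Nat.card ↥K) := by
    rcases hodd with ⟨t, ht⟩
    have h1 : Nat.card ↥K ∣ Nat.card G := Subgroup.card_subgroup_dvd_card K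
    by_contra hcon
    rw [Nat.not_odd_iff_even, even_iff_two_dvd] at hcon
    have h2 := hcon.trans h1
    omega
  by_cases hcase : ∃ k ∈ K, k ≠ 1 ∧ ∀ z ∈ Z₀, k * z = z * k
  · -- Case B
    obtain ⟨k, hkK, hk1, hkZ⟩ := hcase
    set Ks := H ⊓ centralizer (K : Set G) with hKs
    have hZ₀Ks : Z₀ ≤ Ks := by
      rw [← h1430 k hkK hk1]
      intro z hz
      refine Subgroup.mem_inf.mpr ⟨hPH (hZ₀P hz), ?_⟩
      rw [Subgroup.mem_centralizer_iff]
      intro y hy
      rw [Set.mem_singleton_iff] at hy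
      subst hy
      exact hkZ z hz
    have hKsp : Nat.card ↥Ks = p := by
      have h1 : Nat.card ↥Z₀ ∣ Nat.card ↥Ks := Subgroup.card_dvd_of_le hZ₀Ks
      rw [hZ₀card] at h1
      exact ((Nat.prime_dvd_prime_iff_eq hp h1373).mp h1).symm
    have hZ₀eq : Z₀ = Ks := by
      apply Subgroup.eq_of_le_of_card_ge hZ₀Ks
      rw [hKsp, hZ₀card]
    -- `K` centralizes `Z(P)`
    have hKcentZ : ∀ k' ∈ K, k' ∈ centralizer ((P ⊓ centralizer (P : Set G) : Subgroup G) : Set G) := by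
      intro k' hk'
      apply Cfsg.Agent.Lib.Helper68.omega_theorem (p := p) _ (hPp.to_le inf_le_left) k' ?_ (hKZ hk')
      · intro x hx hox
        rcases hox with hox | ⟨h2, _⟩
        · have hxp : x ^ p = 1 := by rw [← hox]; exact pow_orderOf_eq_one x
          have hxZ₀ : x ∈ Z₀ := (d.mem_Z0 x).mpr ⟨hx, hxp⟩
          rw [hZ₀eq, hKs] at hxZ₀
          have h3 := (Subgroup.mem_inf.mp hxZ₀).2
          rw [Subgroup.mem_centralizer_iff] at h3
          exact h3 k' hk'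
        · exact absurd h2 hp2
      · have h1 : orderOf k' ∣ Nat.card ↥K := by
          have := orderOf_dvd_natCard (⟨k', hk'⟩ : ↥K)
          rwa [Subgroup.orderOf_mk] at this
        exact Nat.Coprime.coprime_dvd_left h1 hKcop
    have hZle : P ⊓ centralizer (P : Set G) ≤ Ks := by
      intro x hx
      refine Subgroup.mem_inf.mpr ⟨hPH (Subgroup.mem_inf.mp hx).1, ?_⟩
      rw [Subgroup.mem_centralizer_iff]
      intro k' hk'
      have h1 := hKcentZ k' hk'
      rw [Subgroup.mem_centralizer_iff] at h1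
      exact (h1 x hx).symm
    -- `P₂ ≤ P₁`, so `P = P₁`
    have hP₂le : P₂ ≤ P₁ := by
      rw [← d.center_eq]
      intro x hx
      have h1 := hZle hx
      rw [← hZ₀eq] at h1
      exact (Subgroup.mem_inf.mp h1).1
    have hPeq : P = P₁ := by
      rw [← d.sup]
      exact sup_eq_left.mpr hP₂le
    have hPcard : Nat.card ↥P = p ^ 3 := by rw [hPeq]; exact d.card
    have hPccard : Nat.card ↥Pc = p ^ 3 := by
      rw [← hPcard, hP]
      exact (Subgroup.card_map_of_injective H.subtype_injective).symm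
    have hfaith := hF P hPH hPna'
    have hZK : P ⊓ centralizer (P : Set G) ≤ centralizer (K : Set G) :=
      hZle.trans inf_le_right
    have hZ₀cP : Z₀ ≤ centralizer (P : Set G) :=
      fun x hx => (Subgroup.mem_inf.mp ((d.mem_Z0 x).mp hx).1).2
    have hKcZ₀ : K ≤ centralizer (Z₀ : Set G) := by
      intro k' hk'
      rw [Subgroup.mem_centralizer_iff]
      intro z hz
      have hz' : z ∈ Ks := hZ₀eq ▸ hz
      have h3 := (Subgroup.mem_inf.mp hz').2
      rw [Subgroup.mem_centralizer_iff] at h3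
      exact (h3 k' hk').symm
    have hreg : ∀ k' ∈ K, k' ≠ 1 → P ⊓ centralizer ({k'} : Set G) ≤ Z₀ := by
      intro k' hk' hk'1 x hx
      obtain ⟨hxP, hxC⟩ := Subgroup.mem_inf.mp hx
      have h3 : x ∈ H ⊓ centralizer ({k'} : Set G) := Subgroup.mem_inf.mpr ⟨hPH hxP, hxC⟩
      rw [h1430 k' hk' hk'1] at h3
      rw [hZ₀eq]
      exact h3
    rcases hX P Z₀ hp2 hPcard hPna' hKP hKodd hKcop hfaith hZK hZ₀P hZ₀card hZ₀cP hKcZ₀ hreg
      with h | h
    · exact Or.inl h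
    · exact Or.inr ⟨hPccard, h⟩
  · -- Case A: `K` acts faithfully on `Z₀`
    left
    push Not at hcase
    have hinj : Function.Injective (l4bConj Z₀ K hKZ₀) := by
      rw [injective_iff_map_eq_one]
      intro k hk
      by_contra hk1
      have hk1' : (k : G) ≠ 1 := fun h => hk1 (Subtype.ext h)
      obtain ⟨z, hz, hne⟩ := hcase (k : G) k.2 hk1'
      apply hne
      have h1 := congrArg (fun f : MulAut ↥Z₀ => ((f ⟨z, hz⟩ : ↥Z₀) : G)) hk
      have h2 : ((l4bConj Z₀ K hKZ₀ k) ⟨z, hz⟩ : G) = (k : G) * z * (k : G)⁻¹ := rfl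
      simp only [MulAut.one_apply] at h1
      rw [h2] at h1
      calc (k : G) * z = (k : G) * z * (k : G)⁻¹ * k := by group
        _ = z * k := by rw [h1]
    have h1 := Subgroup.card_dvd_of_injective _ hinj
    haveI : Fact (Nat.card ↥Z₀).Prime := ⟨by rw [hZ₀card]; exact hp⟩
    haveI : IsCyclic ↥Z₀ := isCyclic_of_prime_card (p := Nat.card ↥Z₀) rfl
    haveI : Finite (MulAut ↥Z₀) := Finite.of_injective (fun f : MulAut ↥Z₀ => (f : ↥Z₀ → ↥Z₀))
      (fun f g h => MulEquiv.ext (congrFun h))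
    have hcardAut : Nat.card (MulAut ↥Z₀) = p - 1 := by
      haveI : NeZero p := ⟨hp.ne_zero⟩
      rw [Nat.card_congr (IsCyclic.mulAutMulEquiv ↥Z₀).toEquiv, hZ₀card, Nat.card_eq_fintype_card,
        ZMod.card_units_eq_totient, Nat.totient_prime hp]
    rwa [hcardAut] at h1

end core

end Cfsg.Agent.Lib.Helper91.BG157
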