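import Mathlib

set_option autoImplicit false

namespace Cfsg.Agent.Lib.Helper1

universe u

open scoped Pointwise

variable {G : Type u} [Group G]

/-- order of the image in a quotient when the intersection with the kernel is trivial -/
theorem card_map_mk_of_inf_eq_bot (M : Subgroup G) [M.Normal] (H : Subgroup G) (h : H ⊓ M = ⊥) :
    Nat.card (H.map (QuotientGroup.mk' M)) = Nat.card H := by
  have := Subgroup.relIndex_ker (QuotientGroup.mk' M) (K := H)
  rw [QuotientGroup.ker_mk', ← Subgroup.inf_relIndex_right, inf_comm, h,
    Subgroup.relIndex_bot_left] at this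
  exact this.symm

/-- order of the image in a quotient when the kernel is contained -/
theorem card_map_mk_of_le (M : Subgroup G) [M.Normal] (H : Subgroup G) (h : M ≤ H) :
    Nat.card (H.map (QuotientGroup.mk' M)) * Nat.card M = Nat.card H := by
  have := Subgroup.relIndex_ker (QuotientGroup.mk' M) (K := H)
  rw [QuotientGroup.ker_mk'] at this
  rw [← this]
  have h2 := Subgroup.relIndex_mul_relIndex ⊥ M H bot_le h
  rw [Subgroup.relIndex_bot_left, Subgroup.relIndex_bot_left] at h2
  rw [mul_comm]; exact h2

theorem card_quotient_mul (M : Subgroup G) [M.Normal] :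
    Nat.card (G ⧸ M) * Nat.card M = Nat.card G := by
  rw [← Subgroup.index_eq_card, Subgroup.index_mul_card]

theorem map_conj_smul {G' : Type*} [Group G'] (f : G →* G') (g : G) (H : Subgroup G) :
    (MulAut.conj g • H).map f = MulAut.conj (f g) • H.map f := by
  ext y
  simp only [Subgroup.mem_map, Subgroup.mem_pointwise_smul_iff_inv_smul_mem, MulAut.smul_def,
    MulAut.conj_inv_apply]
  constructor
  · rintro ⟨x, hx, rfl⟩
    exact ⟨g⁻¹ * x * g, hx, by simp⟩
  · rintro ⟨x, hx, hxy⟩
    refine ⟨g * x * g⁻¹, by simpa [mul_assoc] using hx, ?_⟩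
    rw [map_mul, map_mul, hxy, map_inv]; group

theorem card_conj_smul (g : G) (H : Subgroup G) :
    Nat.card (MulAut.conj g • H : Subgroup G) = Nat.card H := by
  exact Nat.card_congr (Subgroup.equivSMul (MulAut.conj g) H).symm.toEquiv

theorem conj_smul_smul (g h : G) (H : Subgroup G) :
    MulAut.conj g • MulAut.conj h • H = MulAut.conj (g * h) • H := by
  rw [map_mul, mul_smul]

theorem conj_smul_map_subtype (L : Subgroup G) (l : L) (X : Subgroup L) :
    MulAut.conj (l : G) • X.map L.subtype = (MulAut.conj l • X).map L.subtype := by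
  rw [map_conj_smul]; rfl

end Cfsg.Agent.Lib.Helper1
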