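import Mathlib
import Cfsg.Agent.Lib.Helper1.Basic
import Cfsg.Agent.Lib.Helper1.Tools
import Cfsg.Agent.S0002

set_option autoImplicit false

namespace Cfsg.Agent.Lib.Helper1

universe u

open scoped Pointwise

/-- The conjugacy property of complements of normal Hall subgroups. -/
def SZProp (G : Type u) [Group G] : Prop :=
  ∀ (N : Subgroup G) [N.Normal], (Nat.card N).Coprime N.index →
    ∀ H K : Subgroup G, Nat.card H = N.index → Nat.card K = N.index →
      (Group.IsSolvable N ∨ Group.IsSolvable H) → ∃ g : G, MulAut.conj g • H = K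

variable {G : Type u} [Group G]

theorem card_subgroupOf_of_le {H L : Subgroup G} (h : H ≤ L) :
    Nat.card (H.subgroupOf L) = Nat.card H :=
  Nat.card_congr (Subgroup.subgroupOfEquivOfLe h).toEquiv

theorem szprop_sub [Finite G] (L : Subgroup G) (hL : SZProp L) (N H K : Subgroup G)
    (hNL : N ≤ L) (hnorm : L ≤ Subgroup.normalizer (N : Set G))
    (hH : H ≤ L) (hK : K ≤ L)
    (hcop : (Nat.card N).Coprime (N.relIndex L))
    (hHc : Nat.card H = N.relIndex L) (hKc : Nat.card K = N.relIndex L)
    (hs : Group.IsSolvable N ∨ Group.IsSolvable H) :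
    ∃ g ∈ L, MulAut.conj g • H = K := by
  have hn : (N.subgroupOf L).Normal := (Subgroup.normal_subgroupOf_iff_le_normalizer hNL).mpr hnorm
  have hs' : Group.IsSolvable (N.subgroupOf L) ∨ Group.IsSolvable (H.subgroupOf L) := by
    rcases hs with hs | hs
    · left
      exact Group.isSolvable_of_isSolvable_injective
        (f := (Subgroup.subgroupOfEquivOfLe hNL).toMonoidHom)
        (Subgroup.subgroupOfEquivOfLe hNL).injective
    · right
      exact Group.isSolvable_of_isSolvable_injective
        (f := (Subgroup.subgroupOfEquivOfLe hH).toMonoidHom)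
        (Subgroup.subgroupOfEquivOfLe hH).injective
  obtain ⟨l, hl⟩ := hL (N.subgroupOf L) (by rw [card_subgroupOf_of_le hNL]; exact hcop)
    (H.subgroupOf L) (K.subgroupOf L) (by rw [card_subgroupOf_of_le hH]; exact hHc)
    (by rw [card_subgroupOf_of_le hK]; exact hKc) hs'
  refine ⟨l, l.2, ?_⟩
  rw [Subgroup.conj_smul_subgroupOf hH] at hl
  have h1 := congrArg (Subgroup.map L.subtype) hl
  rw [Subgroup.map_subgroupOf_eq_of_le (Subgroup.conj_smul_le_of_le hH l),
    Subgroup.map_subgroupOf_eq_of_le hK] at h1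
  exact h1

theorem card_comap_mk (M : Subgroup G) [M.Normal] (X : Subgroup (G ⧸ M)) :
    Nat.card (X.comap (QuotientGroup.mk' M)) = Nat.card X * Nat.card M := by
  have hle : M ≤ X.comap (QuotientGroup.mk' M) := by
    intro m hm
    rw [Subgroup.mem_comap]
    have : (QuotientGroup.mk' M) m = 1 := by
      rw [← MonoidHom.mem_ker, QuotientGroup.ker_mk']; exact hm
    rw [this]; exact X.one_mem
  have := card_map_mk_of_le M _ hle
  rw [Subgroup.map_comap_eq_self_of_surjective (QuotientGroup.mk'_surjective M)] at this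
  exact this.symm

/-- lifting conjugacy from a quotient -/
theorem exists_conj_of_quotient (M : Subgroup G) [M.Normal] (H K : Subgroup G)
    (h : ∃ g' : G ⧸ M, MulAut.conj g' • H.map (QuotientGroup.mk' M) = K.map (QuotientGroup.mk' M)) :
    ∃ g : G, (MulAut.conj g • H).map (QuotientGroup.mk' M) = K.map (QuotientGroup.mk' M) := by
  obtain ⟨g', hg'⟩ := h
  obtain ⟨g, rfl⟩ := QuotientGroup.mk'_surjective M g'
  exact ⟨g, by rw [map_conj_smul]; exact hg'⟩

theorem le_comap_map_mk (M : Subgroup G) [M.Normal] (H : Subgroup G) :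
    H ≤ (H.map (QuotientGroup.mk' M)).comap (QuotientGroup.mk' M) :=
  Subgroup.le_comap_map _ _

theorem ker_le_comap_mk (M : Subgroup G) [M.Normal] (X : Subgroup (G ⧸ M)) :
    M ≤ X.comap (QuotientGroup.mk' M) := by
  intro m hm
  rw [Subgroup.mem_comap]
  have : (QuotientGroup.mk' M) m = 1 := by
    rw [← MonoidHom.mem_ker, QuotientGroup.ker_mk']; exact hm
  rw [this]; exact X.one_mem

theorem card_quotient_lt [Finite G] (M : Subgroup G) [M.Normal] (hM : M ≠ ⊥) :
    Nat.card (G ⧸ M) < Nat.card G := by
  rw [← card_quotient_mul M]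
  have h1 : 1 < Nat.card M := by
    rcases Nat.lt_or_ge 1 (Nat.card M) with h | h
    · exact h
    · exfalso; apply hM
      rw [← Subgroup.card_eq_one]
      have : 0 < Nat.card M := Nat.card_pos
      omega
  have h2 : 0 < Nat.card (G ⧸ M) := Nat.card_pos
  nlinarith

theorem eq_top_of_card_eq_card [Finite G] (H : Subgroup G) (h : Nat.card H = Nat.card G) : H = ⊤ :=
  Subgroup.card_eq_iff_eq_top H |>.mp h

end Cfsg.Agent.Lib.Helper1
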