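import Mathlib
import Cfsg.Agent.Lib.Helper1.SZ

set_option autoImplicit false

namespace Cfsg.Agent.Lib.Helper1

universe u

open scoped Pointwise

variable {G : Type u} [Group G]

theorem isSolvable_map {G' : Type*} [Group G'] (f : G →* G') (N : Subgroup G)
    (hs : Group.IsSolvable N) : Group.IsSolvable (N.map f) :=
  Group.isSolvable_of_surjective (f := f.subgroupMap N) (f.subgroupMap_surjective N)

theorem sz_caseA [Finite G]
    (ih : ∀ (G' : Type u) [Group G'] [Finite G'], Nat.card G' < Nat.card G → SZProp G')
    (N : Subgroup G) [N.Normal] (hcop : (Nat.card N).Coprime N.index)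
    (H K : Subgroup G) (hH : Nat.card H = N.index) (hK : Nat.card K = N.index)
    (hs : Group.IsSolvable N) : ∃ g : G, MulAut.conj g • H = K := by
  by_cases hN : N = ⊥
  · subst hN
    rw [Subgroup.index_bot] at hH hK
    rw [eq_top_of_card_eq_card H hH, eq_top_of_card_eq_card K hK]
    exact ⟨1, by simp⟩
  have hlt := commutator_lt_of_solvable N hs hN
  have hMn : (⁅N, N⁆ : Subgroup G).Normal := Subgroup.commutator_normal N N
  have hcompH : Subgroup.IsComplement' N H :=
    Subgroup.isComplement'_of_coprime (by rw [hH, Subgroup.card_mul_index]) (by rwa [hH])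
  have hcompK : Subgroup.IsComplement' N K :=
    Subgroup.isComplement'_of_coprime (by rw [hK, Subgroup.card_mul_index]) (by rwa [hK])
  by_cases hM0 : (⁅N, N⁆ : Subgroup G) = ⊥
  · have : IsMulCommutative N := isMulCommutative_of_commutator_eq_bot N hM0
    obtain ⟨a, -, ha⟩ := Cfsg.Agent.S0002.result N hcop H K hcompH hcompK
    exact ⟨a, ha⟩
  · set M : Subgroup G := ⁅N, N⁆ with hM
    set π := QuotientGroup.mk' M with hπ
    have hsurj : Function.Surjective π := QuotientGroup.mk'_surjective M
    have hQ : SZProp (G ⧸ M) := ih _ (card_quotient_lt M hM0)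
    have hN'n : (N.map π).Normal := Subgroup.Normal.map inferInstance π hsurj
    have hidx : (N.map π).index = N.index :=
      Subgroup.index_map_eq N hsurj (by rw [hπ, QuotientGroup.ker_mk']; exact hlt.le)
    have hHM : H ⊓ M = ⊥ := by
      have : H ⊓ N = ⊥ := by
        rw [inf_comm]; exact hcompH.disjoint.eq_bot
      exact le_bot_iff.mp (this ▸ inf_le_inf_left H hlt.le)
    have hKM : K ⊓ M = ⊥ := by
      have : K ⊓ N = ⊥ := by
        rw [inf_comm]; exact hcompK.disjoint.eq_bot
      exact le_bot_iff.mp (this ▸ inf_le_inf_left K hlt.le)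
    have hH' : Nat.card (H.map π) = (N.map π).index := by
      rw [hidx, ← hH]; exact card_map_mk_of_inf_eq_bot M H hHM
    have hK' : Nat.card (K.map π) = (N.map π).index := by
      rw [hidx, ← hK]; exact card_map_mk_of_inf_eq_bot M K hKM
    have hcop' : (Nat.card (N.map π)).Coprime (N.map π).index := by
      rw [hidx]; exact Nat.Coprime.coprime_dvd_left (Subgroup.card_map_dvd N π) hcop
    obtain ⟨g, hg⟩ := exists_conj_of_quotient M H K
      (hQ (N.map π) hcop' (H.map π) (K.map π) hH' hK' (Or.inl (isSolvable_map π N hs)))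
    set L := (K.map π).comap π with hL
    have hKL : K ≤ L := le_comap_map_mk M K
    have hHL : MulAut.conj g • H ≤ L := by
      rw [hL, ← hg]; exact le_comap_map_mk M _
    have hML : M ≤ L := ker_le_comap_mk M _
    have hLcard : Nat.card L = Nat.card K * Nat.card M := by
      rw [hL, card_comap_mk, card_map_mk_of_inf_eq_bot M K hKM]
    have hrel : M.relIndex L = Nat.card K := by
      have h2 := Subgroup.relIndex_mul_relIndex ⊥ M L bot_le hML
      rw [Subgroup.relIndex_bot_left, Subgroup.relIndex_bot_left, hLcard, mul_comm] at h2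
      exact Nat.eq_of_mul_eq_mul_right Nat.card_pos h2
    have hMN : Nat.card M < Nat.card N := by
      have hd : Nat.card M ∣ Nat.card N := Subgroup.card_dvd_of_le hlt.le
      rcases (Nat.le_of_dvd Nat.card_pos hd).lt_or_eq with h | h
      · exact h
      · exfalso
        exact hlt.ne (Subgroup.eq_of_le_of_card_ge hlt.le h.ge)
    have hLlt : Nat.card L < Nat.card G := by
      rw [hLcard, ← N.card_mul_index, ← hK, mul_comm]
      exact Nat.mul_lt_mul_of_pos_right hMN Nat.card_pos
    obtain ⟨l, -, hl⟩ := szprop_sub L (ih L hLlt) M (MulAut.conj g • H) K hML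
      (by rw [Subgroup.normalizer_eq_top]; exact le_top) hHL hKL
      (by rw [hrel, hK]; exact Nat.Coprime.coprime_dvd_left (Subgroup.card_dvd_of_le hlt.le) hcop)
      (by rw [hrel, card_conj_smul, hH, hK]) hrel.symm
      (Or.inl (isSolvable_of_le hlt.le hs))
    exact ⟨l * g, by rw [← conj_smul_smul]; exact hl⟩

end Cfsg.Agent.Lib.Helper1
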