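import Mathlib
import Cfsg.Agent.Lib.Helper1.SZA

set_option autoImplicit false

namespace Cfsg.Agent.Lib.Helper1

universe u

open scoped Pointwise

variable {G : Type u} [Group G]

theorem conj_smul_eq_of_mem_normalizer {P : Subgroup G} {g : G}
    (hg : g ∈ Subgroup.normalizer (P : Set G)) : MulAut.conj g • P = P := by
  have := Subgroup.mem_normalizer_iff_map_conj_eq.mp hg
  exact this

theorem mem_normalizer_of_conj_smul_eq {P : Subgroup G} {g : G}
    (hg : MulAut.conj g • P = P) : g ∈ Subgroup.normalizer (P : Set G) :=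
  Subgroup.mem_normalizer_iff_map_conj_eq.mpr hg

theorem sz_caseB_aux [Finite G]
    (ih : ∀ (G' : Type u) [Group G'] [Finite G'], Nat.card G' < Nat.card G → SZProp G')
    (N : Subgroup G) [N.Normal] (hcop : (Nat.card N).Coprime N.index)
    (H K : Subgroup G) (hH : Nat.card H = N.index) (hK : Nat.card K = N.index)
    (hs : Group.IsSolvable H) (P : Subgroup G) (hPH : P ≤ H) (hPK : P ≤ K) (hP : P ≠ ⊥)
    (hHP : H ≤ Subgroup.normalizer (P : Set G)) (hKP : K ≤ Subgroup.normalizer (P : Set G)) :
    ∃ g : G, MulAut.conj g • H = K := by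
  have hcompH : Subgroup.IsComplement' N H :=
    Subgroup.isComplement'_of_coprime (by rw [hH, Subgroup.card_mul_index]) (by rwa [hH])
  have hNH : N ⊓ H = ⊥ := hcompH.disjoint.eq_bot
  by_cases hL : Subgroup.normalizer (P : Set G) = ⊤
  · have hPn : P.Normal := Subgroup.normalizer_eq_top_iff.mp hL
    set π := QuotientGroup.mk' P with hπ
    have hsurj : Function.Surjective π := QuotientGroup.mk'_surjective P
    have hQ : SZProp (G ⧸ P) := ih _ (card_quotient_lt P hP)
    have hN'n : (N.map π).Normal := Subgroup.Normal.map inferInstance π hsurj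
    have hNP : N ⊓ P = ⊥ := le_bot_iff.mp (hNH ▸ inf_le_inf_left N hPH)
    have hN'c : Nat.card (N.map π) = Nat.card N := card_map_mk_of_inf_eq_bot P N hNP
    have hH'c := card_map_mk_of_le P H hPH
    have hK'c := card_map_mk_of_le P K hPK
    have hidx : (N.map π).index = Nat.card (H.map π) := by
      have h1 := (N.map π).card_mul_index
      have h2 := card_quotient_mul P
      have h3 := N.card_mul_index
      rw [hN'c] at h1
      have h4 : Nat.card N * ((N.map π).index * Nat.card P)
          = Nat.card N * (Nat.card (H.map π) * Nat.card P) := by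
        rw [hH'c, hH, h3, ← mul_assoc, h1, h2]
      have h5 := Nat.eq_of_mul_eq_mul_left Nat.card_pos h4
      exact Nat.eq_of_mul_eq_mul_right Nat.card_pos h5
    have hHK' : Nat.card (H.map π) = Nat.card (K.map π) := by
      have : Nat.card (H.map π) * Nat.card P = Nat.card (K.map π) * Nat.card P := by
        rw [hH'c, hK'c, hH, hK]
      exact Nat.eq_of_mul_eq_mul_right Nat.card_pos this
    have hcop' : (Nat.card (N.map π)).Coprime (N.map π).index := by
      rw [hidx, hN'c]
      refine Nat.Coprime.coprime_dvd_right ?_ (hH ▸ hcop)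
      exact Subgroup.card_map_dvd H π
    obtain ⟨g, hg⟩ := exists_conj_of_quotient P H K
      (hQ (N.map π) hcop' (H.map π) (K.map π) hidx.symm (hHK' ▸ hidx.symm)
        (Or.inr (isSolvable_map π H hs)))
    refine ⟨g, ?_⟩
    have h1 := congrArg (Subgroup.comap π) hg
    rw [Subgroup.comap_map_eq, Subgroup.comap_map_eq, hπ, QuotientGroup.ker_mk'] at h1
    have hPgH : P ≤ MulAut.conj g • H := by
      have : MulAut.conj g • P ≤ MulAut.conj g • H :=
        Subgroup.pointwise_smul_le_pointwise_smul_iff.mpr hPH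
      rwa [Subgroup.Normal.conj_smul_eq_self] at this
    rwa [sup_eq_left.mpr hPgH, sup_eq_left.mpr hPK] at h1
  · set L := Subgroup.normalizer (P : Set G) with hLdef
    have hLlt : Nat.card L < Nat.card G := by
      rcases (Subgroup.card_le_card_group L).lt_or_eq with h | h
      · exact h
      · exact absurd (eq_top_of_card_eq_card L h) hL
    have hLn : L ≤ Subgroup.normalizer ((N ⊓ L : Subgroup G) : Set G) := by
      intro l hl
      apply mem_normalizer_of_conj_smul_eq
      rw [Subgroup.smul_inf, Subgroup.Normal.conj_smul_eq_self, Subgroup.conj_smul_eq_self_of_mem hl]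
    have hrel : (N ⊓ L).relIndex L = Nat.card H := by
      rw [Subgroup.inf_relIndex_right]
      have h1 : N.relIndex L ∣ Nat.card H := hH ▸ Subgroup.relIndex_dvd_index_of_normal N L
      have h2 : Nat.card H ∣ N.relIndex L := by
        have h3 : Nat.card H ∣ Nat.card L := Subgroup.card_dvd_of_le hHP
        have h4 : N.relIndex L * Nat.card (N ⊓ L : Subgroup G) = Nat.card L := by
          have h5 := Subgroup.relIndex_mul_relIndex ⊥ (N ⊓ L) L bot_le inf_le_right
          rw [Subgroup.relIndex_bot_left, Subgroup.relIndex_bot_left,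
            Subgroup.inf_relIndex_right] at h5
          rw [mul_comm]; exact h5
        rw [← h4] at h3
        refine Nat.Coprime.dvd_of_dvd_mul_right ?_ h3
        refine Nat.Coprime.coprime_dvd_right (Subgroup.card_dvd_of_le inf_le_left) ?_
        rw [hH]; exact hcop.symm
      exact Nat.dvd_antisymm h1 h2
    obtain ⟨l, -, hl⟩ := szprop_sub L (ih L hLlt) (N ⊓ L) H K inf_le_right hLn hHP hKP
      (by rw [hrel, hH]
          exact Nat.Coprime.coprime_dvd_left (Subgroup.card_dvd_of_le inf_le_left) hcop)
      hrel.symm (by rw [hrel, hH, hK]) (Or.inr hs)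
    exact ⟨l, hl⟩

end Cfsg.Agent.Lib.Helper1

namespace Cfsg.Agent.Lib.Helper1

universe u

open scoped Pointwise

variable {G : Type u} [Group G]

/-- a nontrivial solvable subgroup has a nontrivial `p`-subgroup which it normalizes -/
theorem exists_normalized_pgroup [Finite G] (H : Subgroup G) (hs : Group.IsSolvable H)
    (hH : H ≠ ⊥) : ∃ (p : ℕ) (P : Subgroup G), p.Prime ∧ P ≤ H ∧ P ≠ ⊥ ∧ IsPGroup p P ∧
      H ≤ Subgroup.normalizer (P : Set G) := by
  have htop : (⊤ : Subgroup H) ≠ ⊥ := by
    intro h
    apply hH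
    rw [eq_bot_iff]
    intro x hx
    have : (⟨x, hx⟩ : H) ∈ (⊤ : Subgroup H) := Subgroup.mem_top _
    rw [h, Subgroup.mem_bot] at this
    exact congrArg Subtype.val this
  obtain ⟨p, R, hp, -, hRn, hR, -, hRp⟩ :=
    exists_normal_elementary_le (G := H) ⊤ inferInstance htop
  refine ⟨p, R.map H.subtype, hp, Subgroup.map_subtype_le R, ?_, ?_, ?_⟩
  · intro h
    apply hR
    rwa [Subgroup.map_eq_bot_iff_of_injective _ H.subtype_injective] at h
  · intro x
    refine ⟨1, ?_⟩
    obtain ⟨y, hy, hyx⟩ := x.2
    apply Subtype.ext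
    rw [pow_one, Subgroup.coe_pow, ← hyx, ← map_pow, hRp y hy]; simp
  · rw [← Subgroup.normal_subgroupOf_iff_le_normalizer (Subgroup.map_subtype_le R)]
    have : (R.map H.subtype).subgroupOf H = R := by
      rw [Subgroup.subgroupOf, Subgroup.comap_map_eq_self_of_injective H.subtype_injective]
    rw [this]; exact hRn

theorem sz_caseB [Finite G]
    (ih : ∀ (G' : Type u) [Group G'] [Finite G'], Nat.card G' < Nat.card G → SZProp G')
    (N : Subgroup G) [N.Normal] (hcop : (Nat.card N).Coprime N.index)
    (H K : Subgroup G) (hH : Nat.card H = N.index) (hK : Nat.card K = N.index)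
    (hs : Group.IsSolvable H) : ∃ g : G, MulAut.conj g • H = K := by
  by_cases hH1 : H = ⊥
  · subst hH1
    rw [Subgroup.card_bot] at hH
    rw [← hH, Subgroup.card_eq_one] at hK
    exact ⟨1, by rw [hK]; simp⟩
  obtain ⟨p, P, hp, hPH, hP, hPp, hHP⟩ := exists_normalized_pgroup H hs hH1
  have : Fact p.Prime := ⟨hp⟩
  have hcompH : Subgroup.IsComplement' N H :=
    Subgroup.isComplement'_of_coprime (by rw [hH, Subgroup.card_mul_index]) (by rwa [hH])
  have hcompK : Subgroup.IsComplement' N K :=
    Subgroup.isComplement'_of_coprime (by rw [hK, Subgroup.card_mul_index]) (by rwa [hK])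
  have hNH : N ⊓ H = ⊥ := hcompH.disjoint.eq_bot
  have hNK : N ⊓ K = ⊥ := hcompK.disjoint.eq_bot
  -- R = N ⊔ P is normal
  set R : Subgroup G := N ⊔ P with hRdef
  have hRn : R.Normal := by
    rw [← Subgroup.normalizer_eq_top_iff, eq_top_iff, ← hcompH.sup_eq_top]
    apply sup_le
    · exact le_sup_left.trans Subgroup.le_normalizer
    · refine le_trans ?_ (Subgroup.normalizer_inf_normalizer_le_normalizer_sup N P)
      exact le_inf (by rw [Subgroup.normalizer_eq_top]; exact le_top) hHP
  have hNP : N ⊓ P = ⊥ := le_bot_iff.mp (hNH ▸ inf_le_inf_left N hPH)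
  -- cardinalities
  have hRcard : Nat.card R = Nat.card N * Nat.card P := by
    have h1 : R = (P.map (QuotientGroup.mk' N)).comap (QuotientGroup.mk' N) := by
      rw [Subgroup.comap_map_eq, QuotientGroup.ker_mk', sup_comm]
    rw [h1, card_comap_mk, card_map_mk_of_inf_eq_bot N P (by rwa [inf_comm]), mul_comm]
  set Q : Subgroup G := K ⊓ R with hQdef
  have hQcard : Nat.card Q = Nat.card P := by
    have h1 : R.relIndex (K ⊔ R) = R.relIndex K := Subgroup.relIndex_sup_right K R
    have h2 : K ⊔ R = ⊤ := by
      rw [eq_top_iff, ← hcompK.sup_eq_top, sup_comm]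
      exact sup_le_sup_left le_sup_left K
    rw [h2, Subgroup.relIndex_top_right] at h1
    have h3 : R.relIndex K * Nat.card Q = Nat.card K := by
      have h5 := Subgroup.relIndex_mul_relIndex ⊥ Q K bot_le inf_le_left
      rw [Subgroup.relIndex_bot_left, Subgroup.relIndex_bot_left, hQdef, inf_comm,
        Subgroup.inf_relIndex_right] at h5
      rw [mul_comm, hQdef, inf_comm]; exact h5
    have h4 : R.index * Nat.card R = Nat.card G := R.index_mul_card
    rw [← h1] at h3
    have h6 : Nat.card G = Nat.card N * Nat.card K := by rw [hK, N.card_mul_index]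
    have h7 : R.index * Nat.card N * Nat.card Q = R.index * Nat.card N * Nat.card P := by
      calc R.index * Nat.card N * Nat.card Q = Nat.card N * (R.index * Nat.card Q) := by ring
        _ = Nat.card N * Nat.card K := by rw [h3]
        _ = Nat.card G := h6.symm
        _ = R.index * Nat.card R := h4.symm
        _ = R.index * Nat.card N * Nat.card P := by rw [hRcard]; ring
    refine Nat.eq_of_mul_eq_mul_left (Nat.mul_pos ?_ Nat.card_pos) h7
    exact Nat.pos_of_ne_zero Subgroup.index_ne_zero_of_finite
  -- P, Q are Sylow in R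
  have hPR : P ≤ R := le_sup_right
  have hQR : Q ≤ R := inf_le_right
  have hpN : ¬ p ∣ Nat.card N := by
    intro hdiv
    have h1 : p ∣ Nat.card P := by
      obtain ⟨n, hn⟩ := IsPGroup.iff_card.mp hPp
      rcases n with _ | n
      · exfalso; apply hP; rwa [pow_zero, Subgroup.card_eq_one] at hn
      · rw [hn, pow_succ]; exact dvd_mul_left p _
    have h2 : p ∣ N.index := hH ▸ h1.trans (Subgroup.card_dvd_of_le hPH)
    exact hp.one_lt.ne' (Nat.eq_one_of_dvd_coprimes hcop hdiv h2)
  have hQp : IsPGroup p Q := by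
    obtain ⟨n, hn⟩ := IsPGroup.iff_card.mp hPp
    exact IsPGroup.of_card (hQcard.trans hn)
  have hidxP : (P.subgroupOf R).index = Nat.card N := by
    change P.relIndex R = _
    have h5 := Subgroup.relIndex_mul_relIndex ⊥ P R bot_le hPR
    rw [Subgroup.relIndex_bot_left, Subgroup.relIndex_bot_left, hRcard, mul_comm] at h5
    exact Nat.eq_of_mul_eq_mul_right Nat.card_pos h5
  have hidxQ : (Q.subgroupOf R).index = Nat.card N := by
    change Q.relIndex R = _
    have h5 := Subgroup.relIndex_mul_relIndex ⊥ Q R bot_le hQR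
    rw [Subgroup.relIndex_bot_left, Subgroup.relIndex_bot_left, hRcard, hQcard, mul_comm] at h5
    exact Nat.eq_of_mul_eq_mul_right Nat.card_pos h5
  let SP : Sylow p R := (hPp.comap_subtype (K := R)).toSylow
    (by change ¬ p ∣ (P.subgroupOf R).index; rw [hidxP]; exact hpN)
  let SQ : Sylow p R := (hQp.comap_subtype (K := R)).toSylow
    (by change ¬ p ∣ (Q.subgroupOf R).index; rw [hidxQ]; exact hpN)
  obtain ⟨r, hr⟩ := MulAction.exists_smul_eq R SP SQ
  have hr' : MulAut.conj r • P.subgroupOf R = Q.subgroupOf R := by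
    have := congrArg (fun S : Sylow p R => (S : Subgroup R)) hr
    exact this
  rw [Subgroup.conj_smul_subgroupOf hPR] at hr'
  have hrP : MulAut.conj (r : G) • P = Q := by
    have h1 := congrArg (Subgroup.map R.subtype) hr'
    rwa [Subgroup.map_subgroupOf_eq_of_le (Subgroup.conj_smul_le_of_le hPR r),
      Subgroup.map_subgroupOf_eq_of_le hQR] at h1
  -- replace K by a conjugate
  set K₁ : Subgroup G := MulAut.conj (r : G)⁻¹ • K with hK₁
  have hK₁c : Nat.card K₁ = N.index := by rw [hK₁, card_conj_smul, hK]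
  have hK₁R : K₁ ⊓ R = P := by
    have : MulAut.conj (r : G)⁻¹ • (K ⊓ R) = K₁ ⊓ R := by
      rw [Subgroup.smul_inf, Subgroup.Normal.conj_smul_eq_self _ R]
    rw [← this, ← hQdef, ← hrP, conj_smul_smul, inv_mul_cancel, map_one, one_smul]
  have hPK₁ : P ≤ K₁ := hK₁R ▸ inf_le_left
  have hK₁P : K₁ ≤ Subgroup.normalizer (P : Set G) := by
    intro k hk
    apply mem_normalizer_of_conj_smul_eq
    conv_lhs => rw [← hK₁R]
    rw [Subgroup.smul_inf, Subgroup.Normal.conj_smul_eq_self _ R,
      Subgroup.conj_smul_eq_self_of_mem hk, hK₁R]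
  obtain ⟨g, hg⟩ := sz_caseB_aux ih N hcop H K₁ hH hK₁c hs P hPH hPK₁ hP hHP hK₁P
  refine ⟨r * g, ?_⟩
  rw [← conj_smul_smul, hg, hK₁, conj_smul_smul, mul_inv_cancel, map_one, one_smul]

theorem szprop_all (G : Type u) [Group G] [Finite G] : SZProp G := by
  refine finite_group_induction (fun G _ => SZProp G) ?_ G
  intro G _ _ ih N _ hcop H K hH hK hs
  rcases hs with hs | hs
  · exact sz_caseA ih N hcop H K hH hK hs
  · exact sz_caseB ih N hcop H K hH hK hs

/-- Schur–Zassenhaus conjugacy, with complements given by their order. -/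
theorem sz_conj_of_card [Finite G] (N : Subgroup G) [N.Normal]
    (hcop : (Nat.card N).Coprime N.index) (H K : Subgroup G) (hH : Nat.card H = N.index)
    (hK : Nat.card K = N.index) (hs : Group.IsSolvable N ∨ Group.IsSolvable H) :
    ∃ g : G, MulAut.conj g • H = K :=
  szprop_all G N hcop H K hH hK hs

end Cfsg.Agent.Lib.Helper1
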