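import Mathlib
import Cfsg.Agent.Lib.Helper1.SZB

set_option autoImplicit false

namespace Cfsg.Agent.Lib.Helper1

universe u

open scoped Pointwise

variable {G : Type u} [Group G]

theorem card_sup_mul_card_inf [Finite G] (H M : Subgroup G) [M.Normal] :
    Nat.card (H ⊔ M : Subgroup G) * Nat.card (H ⊓ M : Subgroup G) = Nat.card H * Nat.card M := by
  have h1 : M.relIndex (H ⊔ M) = M.relIndex H := Subgroup.relIndex_sup_right H M
  have h2 : M.relIndex (H ⊔ M) * Nat.card M = Nat.card (H ⊔ M : Subgroup G) := by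
    have h5 := Subgroup.relIndex_mul_relIndex ⊥ M (H ⊔ M) bot_le le_sup_right
    rw [Subgroup.relIndex_bot_left, Subgroup.relIndex_bot_left] at h5
    rw [mul_comm]; exact h5
  have h3 : M.relIndex H * Nat.card (H ⊓ M : Subgroup G) = Nat.card H := by
    have h5 := Subgroup.relIndex_mul_relIndex ⊥ (H ⊓ M) H bot_le inf_le_left
    rw [Subgroup.relIndex_bot_left, Subgroup.relIndex_bot_left, inf_comm,
      Subgroup.inf_relIndex_right] at h5
    rw [mul_comm, inf_comm]; exact h5
  rw [← h2, ← h3, h1]; ring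

theorem conj_of_conj_subgroupOf {L H K : Subgroup G} (hH : H ≤ L) (hK : K ≤ L) (l : L)
    (h : MulAut.conj l • H.subgroupOf L = K.subgroupOf L) : MulAut.conj (l : G) • H = K := by
  rw [Subgroup.conj_smul_subgroupOf hH] at h
  have h1 := congrArg (Subgroup.map L.subtype) h
  rwa [Subgroup.map_subgroupOf_eq_of_le (Subgroup.conj_smul_le_of_le hH l),
    Subgroup.map_subgroupOf_eq_of_le hK] at h1

theorem card_dvd_or_of_isPGroup [Finite G] {p : ℕ} (hp : p.Prime) (M : Subgroup G)
    (hM : IsPGroup p M) (m n : ℕ) (hG : Nat.card G = m * n) (hmn : m.Coprime n) :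
    Nat.card M ∣ m ∨ Nat.card M ∣ n := by
  have : Fact p.Prime := ⟨hp⟩
  obtain ⟨a, ha⟩ := IsPGroup.iff_card.mp hM
  have hd : p ^ a ∣ m * n := by rw [← ha, ← hG]; exact Subgroup.card_subgroup_dvd_card M
  rw [ha]
  by_cases hpm : p ∣ m
  · left
    have hpn : ¬ p ∣ n := fun h => hp.one_lt.ne' (Nat.eq_one_of_dvd_coprimes hmn hpm h)
    exact (Nat.Prime.prime hp).pow_dvd_of_dvd_mul_right a hpn hd
  · right
    exact (Nat.Prime.prime hp).pow_dvd_of_dvd_mul_left a hpm hd

theorem isPGroup_of_exponent {p : ℕ} (M : Subgroup G) (h : ∀ x ∈ M, x ^ p = 1) : IsPGroup p M := by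
  intro x
  refine ⟨1, ?_⟩
  apply Subtype.ext
  rw [pow_one, Subgroup.coe_pow, h x x.2]; rfl

theorem top_ne_bot_of_card [Finite G] (h : Nat.card G ≠ 1) : (⊤ : Subgroup G) ≠ ⊥ := by
  intro h1
  apply h
  rw [← Subgroup.card_top (G := G), h1, Subgroup.card_bot]

theorem isSolvable_top (hs : Group.IsSolvable G) : Group.IsSolvable (⊤ : Subgroup G) := inferInstance

/-- a finite nontrivial solvable group has a nontrivial normal abelian `p`-subgroup -/
theorem exists_normal_pgroup [Finite G] (hs : Group.IsSolvable G) (h : Nat.card G ≠ 1) :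
    ∃ (p : ℕ) (M : Subgroup G), p.Prime ∧ M.Normal ∧ M ≠ ⊥ ∧ IsMulCommutative M ∧ IsPGroup p M := by
  obtain ⟨p, R, hp, -, hRn, hR, hRc, hRp⟩ :=
    exists_normal_elementary_le (G := G) ⊤ inferInstance (top_ne_bot_of_card h)
  exact ⟨p, R, hp, hRn, hR, hRc, isPGroup_of_exponent R hRp⟩

end Cfsg.Agent.Lib.Helper1
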