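import Mathlib
import Cfsg.Agent.Lib.Helper1.Hall

set_option autoImplicit false

namespace Cfsg.Agent.Lib.Helper1

universe u

open scoped Pointwise

/-- Hall's theorem: dominance -/
def HallDomProp (G : Type u) [Group G] : Prop :=
  Group.IsSolvable G → ∀ m n : ℕ, Nat.card G = m * n → m.Coprime n →
    ∀ K : Subgroup G, (Nat.card K).Coprime n → ∃ H : Subgroup G, Nat.card H = m ∧ K ≤ H

variable {G : Type u} [Group G]

theorem map_mk_eq_top_of_isComplement' (M H₀ : Subgroup G) [M.Normal]
    (h : Subgroup.IsComplement' M H₀) : H₀.map (QuotientGroup.mk' M) = ⊤ := by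
  have h1 := congrArg (Subgroup.map (QuotientGroup.mk' M)) h.sup_eq_top
  rw [Subgroup.map_sup, Subgroup.map_top_of_surjective _ (QuotientGroup.mk'_surjective M)] at h1
  have h2 : M.map (QuotientGroup.mk' M) = ⊥ := by
    rw [Subgroup.map_eq_bot_iff, QuotientGroup.ker_mk']
  rwa [h2, bot_sup_eq] at h1

/-- the case of a normal Hall subgroup `M` -/
theorem hallDom_normal [Finite G] (M : Subgroup G) [M.Normal] (hs : Group.IsSolvable M)
    (hcop : (Nat.card M).Coprime M.index) (K : Subgroup G)
    (hK : (Nat.card K).Coprime (Nat.card M)) :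
    ∃ H : Subgroup G, Nat.card H = M.index ∧ K ≤ H := by
  obtain ⟨H₀, hH₀⟩ := Subgroup.exists_right_complement'_of_coprime hcop
  have hH₀c : Nat.card H₀ = M.index := hH₀.symm.index_eq_card.symm
  set π := QuotientGroup.mk' M with hπ
  set R := (K.map π).comap π with hR
  have hKM : K ⊓ M = ⊥ := (Subgroup.disjoint_of_coprime_natCard hK).eq_bot
  have hKR : K ≤ R := le_comap_map_mk M K
  have hMR : M ≤ R := ker_le_comap_mk M _
  have hRc : Nat.card R = Nat.card K * Nat.card M := by
    rw [hR, card_comap_mk, card_map_mk_of_inf_eq_bot M K hKM]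
  set H₁ := H₀ ⊓ R with hH₁
  have hH₀M : H₀ ⊓ M = ⊥ := by rw [inf_comm]; exact hH₀.disjoint.eq_bot
  have hH₁M : H₁ ⊓ M = ⊥ := le_bot_iff.mp (hH₀M ▸ inf_le_inf_right M inf_le_left)
  have hmap : H₁.map π = K.map π := by
    apply le_antisymm
    · rintro _ ⟨x, hx, rfl⟩
      exact hx.2
    · rintro _ ⟨k, hk, rfl⟩
      have : π k ∈ H₀.map π := by
        rw [map_mk_eq_top_of_isComplement' M H₀ hH₀]; exact Subgroup.mem_top _
      obtain ⟨h₀, hh₀, hh₀k⟩ := this
      refine ⟨h₀, ⟨hh₀, ?_⟩, hh₀k⟩
      change π h₀ ∈ K.map π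
      rw [hh₀k]; exact ⟨k, hk, rfl⟩
  have hH₁c : Nat.card H₁ = Nat.card K := by
    rw [← card_map_mk_of_inf_eq_bot M H₁ hH₁M, ← card_map_mk_of_inf_eq_bot M K hKM]
    exact congrArg (fun S : Subgroup (G ⧸ M) => Nat.card S) hmap
  have hrel : M.relIndex R = Nat.card K := by
    have h2 := Subgroup.relIndex_mul_relIndex ⊥ M R bot_le hMR
    rw [Subgroup.relIndex_bot_left, Subgroup.relIndex_bot_left, hRc, mul_comm] at h2
    exact Nat.eq_of_mul_eq_mul_right Nat.card_pos h2
  obtain ⟨r, -, hr⟩ := szprop_sub R (szprop_all R) M H₁ K hMR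
    (by rw [Subgroup.normalizer_eq_top]; exact le_top) inf_le_right hKR
    (by rw [hrel]; exact hK.symm) (by rw [hrel, hH₁c]) hrel.symm (Or.inl hs)
  refine ⟨MulAut.conj r • H₀, by rw [card_conj_smul, hH₀c], ?_⟩
  rw [← hr]
  exact Subgroup.pointwise_smul_le_pointwise_smul_iff.mpr inf_le_left

theorem hallDom_all (G : Type u) [Group G] [Finite G] : HallDomProp G := by
  refine finite_group_induction (fun G _ => HallDomProp G) ?_ G
  intro G _ _ ih hs m n hG hmn K hK
  by_cases h1 : Nat.card G = 1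
  · have hm : m = 1 := by
      have : m * n = 1 := by rw [← hG, h1]
      exact Nat.eq_one_of_mul_eq_one_right this
    have : Subsingleton G := (Nat.card_eq_one_iff_unique.mp h1).1
    exact ⟨⊥, by rw [Subgroup.card_bot, hm], (Subsingleton.elim K ⊥).le⟩
  obtain ⟨p, M, hp, hMn, hM, hMc, hMp⟩ := exists_normal_pgroup hs h1
  set π := QuotientGroup.mk' M with hπ
  have hlt := card_quotient_lt M hM
  have hqs : Group.IsSolvable (G ⧸ M) := inferInstance
  have hqc := card_quotient_mul M
  rcases card_dvd_or_of_isPGroup hp M hMp m n hG hmn with hd | hd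
  · obtain ⟨m', hm'⟩ := hd
    have hG' : Nat.card (G ⧸ M) = m' * n := by
      have : Nat.card (G ⧸ M) * Nat.card M = (m' * n) * Nat.card M := by
        rw [hqc, hG, hm']; ring
      exact Nat.eq_of_mul_eq_mul_right Nat.card_pos this
    have hcop' : m'.Coprime n :=
      Nat.Coprime.coprime_dvd_left (Dvd.intro_left _ hm'.symm) hmn
    obtain ⟨H', hH', hKH'⟩ := ih (G ⧸ M) hlt hqs m' n hG' hcop' (K.map π)
      (Nat.Coprime.coprime_dvd_left (Subgroup.card_map_dvd K π) hK)
    refine ⟨H'.comap π, ?_, ?_⟩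
    · rw [card_comap_mk, hH', hm', mul_comm]
    · exact Subgroup.map_le_iff_le_comap.mp hKH'
  · obtain ⟨n', hn'⟩ := hd
    have hG' : Nat.card (G ⧸ M) = m * n' := by
      have : Nat.card (G ⧸ M) * Nat.card M = (m * n') * Nat.card M := by
        rw [hqc, hG, hn']; ring
      exact Nat.eq_of_mul_eq_mul_right Nat.card_pos this
    have hMn' : Nat.card M ∣ n := Dvd.intro _ hn'.symm
    have hcop' : m.Coprime n' :=
      Nat.Coprime.coprime_dvd_right (Dvd.intro_left _ hn'.symm) hmn
    obtain ⟨H', hH', hKH'⟩ := ih (G ⧸ M) hlt hqs m n' hG' hcop' (K.map π)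
      (Nat.Coprime.coprime_dvd_left (Subgroup.card_map_dvd K π)
        (Nat.Coprime.coprime_dvd_right (Dvd.intro_left _ hn'.symm) hK))
    set L := H'.comap π with hL
    have hLc : Nat.card L = m * Nat.card M := by rw [hL, card_comap_mk, hH']
    have hKL : K ≤ L := Subgroup.map_le_iff_le_comap.mp hKH'
    have hcopM : m.Coprime (Nat.card M) := Nat.Coprime.coprime_dvd_right hMn' hmn
    have hKM : (Nat.card K).Coprime (Nat.card M) := Nat.Coprime.coprime_dvd_right hMn' hK
    by_cases hLt : L = ⊤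
    · have hGc : Nat.card G = m * Nat.card M := by
        rw [← hLc, hLt, Subgroup.card_top]
      have hidx : M.index = m := by
        have := M.card_mul_index
        rw [hGc, mul_comm] at this
        exact Nat.eq_of_mul_eq_mul_right Nat.card_pos this
      have hsM : Group.IsSolvable M := by
        have : IsMulCommutative M := hMc
        exact Group.isSolvable_of_comm (fun a b => mul_comm' a b)
      obtain ⟨H, hH, hKH⟩ := hallDom_normal M hsM (by rw [hidx]; exact hcopM.symm) K hKM
      exact ⟨H, hH.trans hidx, hKH⟩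
    · have hLlt : Nat.card L < Nat.card G := by
        rcases (Subgroup.card_le_card_group L).lt_or_eq with h | h
        · exact h
        · exact absurd (eq_top_of_card_eq_card L h) hLt
      obtain ⟨H₁, hH₁, hKH₁⟩ := ih L hLlt inferInstance m (Nat.card M) hLc hcopM
        (K.subgroupOf L) (by rw [card_subgroupOf_of_le hKL]; exact hKM)
      refine ⟨H₁.map L.subtype, by rw [Subgroup.card_subtype, hH₁], ?_⟩
      rw [← Subgroup.map_subgroupOf_eq_of_le hKL]
      exact Subgroup.map_mono hKH₁

end Cfsg.Agent.Lib.Helper1
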