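import Mathlib
import Cfsg.Agent.Lib.Helper1.HallDom

set_option autoImplicit false

namespace Cfsg.Agent.Lib.Helper1

universe u

open scoped Pointwise

/-- Hall's theorem: conjugacy -/
def HallConjProp (G : Type u) [Group G] : Prop :=
  Group.IsSolvable G → ∀ m n : ℕ, Nat.card G = m * n → m.Coprime n →
    ∀ H K : Subgroup G, Nat.card H = m → Nat.card K = m → ∃ g : G, MulAut.conj g • H = K

variable {G : Type u} [Group G]

/-- a normal subgroup whose order divides `m` lies in every Hall subgroup of order `m` -/
theorem normal_le_of_card [Finite G] (M H : Subgroup G) [M.Normal] (m n : ℕ)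
    (hG : Nat.card G = m * n) (hmn : m.Coprime n) (hM : Nat.card M ∣ m) (hH : Nat.card H = m) :
    M ≤ H := by
  have hmpos : 0 < m := by
    rcases Nat.eq_zero_or_pos m with h | h
    · exfalso
      have : Nat.card G = 0 := by rw [hG, h, zero_mul]
      exact Nat.card_pos.ne' this
    · exact h
  have h1 := card_sup_mul_card_inf H M
  obtain ⟨e, he⟩ : Nat.card (H ⊓ M : Subgroup G) ∣ Nat.card M := Subgroup.card_dvd_of_le inf_le_right
  have hdpos : 0 < Nat.card (H ⊓ M : Subgroup G) := Nat.card_pos
  have hc : Nat.card (H ⊔ M : Subgroup G) = m * e := by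
    have : Nat.card (H ⊔ M : Subgroup G) * Nat.card (H ⊓ M : Subgroup G)
        = (m * e) * Nat.card (H ⊓ M : Subgroup G) := by
      rw [h1, hH, he]; ring
    exact Nat.eq_of_mul_eq_mul_right hdpos this
  have hdvd : m * e ∣ m * n := by
    rw [← hc, ← hG]; exact Subgroup.card_subgroup_dvd_card _
  have hen : e ∣ n := (Nat.mul_dvd_mul_iff_left hmpos).mp hdvd
  have hem : e ∣ m := (Dvd.intro_left _ he.symm).trans hM
  have he1 : e = 1 := Nat.eq_one_of_dvd_coprimes hmn hem hen
  rw [he1, mul_one] at he
  have : H ⊓ M = M := Subgroup.eq_of_le_of_card_ge inf_le_right he.le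
  exact this ▸ inf_le_left

theorem hallConj_all (G : Type u) [Group G] [Finite G] : HallConjProp G := by
  refine finite_group_induction (fun G _ => HallConjProp G) ?_ G
  intro G _ _ ih hs m n hG hmn H K hH hK
  by_cases h1 : Nat.card G = 1
  · have : Subsingleton G := (Nat.card_eq_one_iff_unique.mp h1).1
    exact ⟨1, Subsingleton.elim _ _⟩
  obtain ⟨p, M, hp, hMn, hM, hMc, hMp⟩ := exists_normal_pgroup hs h1
  set π := QuotientGroup.mk' M with hπ
  have hlt := card_quotient_lt M hM
  have hqs : Group.IsSolvable (G ⧸ M) := inferInstance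
  have hqc := card_quotient_mul M
  rcases card_dvd_or_of_isPGroup hp M hMp m n hG hmn with hd | hd
  · have hMH : M ≤ H := normal_le_of_card M H m n hG hmn hd hH
    have hMK : M ≤ K := normal_le_of_card M K m n hG hmn hd hK
    obtain ⟨m', hm'⟩ := hd
    have hG' : Nat.card (G ⧸ M) = m' * n := by
      have : Nat.card (G ⧸ M) * Nat.card M = (m' * n) * Nat.card M := by
        rw [hqc, hG, hm']; ring
      exact Nat.eq_of_mul_eq_mul_right Nat.card_pos this
    have hcop' : m'.Coprime n :=
      Nat.Coprime.coprime_dvd_left (Dvd.intro_left _ hm'.symm) hmn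
    have hH' : Nat.card (H.map π) = m' := by
      have := card_map_mk_of_le M H hMH
      rw [hH, hm', mul_comm] at this
      exact Nat.eq_of_mul_eq_mul_left Nat.card_pos this
    have hK' : Nat.card (K.map π) = m' := by
      have := card_map_mk_of_le M K hMK
      rw [hK, hm', mul_comm] at this
      exact Nat.eq_of_mul_eq_mul_left Nat.card_pos this
    obtain ⟨g, hg⟩ := exists_conj_of_quotient M H K
      (ih (G ⧸ M) hlt hqs m' n hG' hcop' (H.map π) (K.map π) hH' hK')
    refine ⟨g, ?_⟩
    have h2 := congrArg (Subgroup.comap π) hg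
    rw [Subgroup.comap_map_eq, Subgroup.comap_map_eq, hπ, QuotientGroup.ker_mk'] at h2
    have hMgH : M ≤ MulAut.conj g • H := by
      have : MulAut.conj g • M ≤ MulAut.conj g • H :=
        Subgroup.pointwise_smul_le_pointwise_smul_iff.mpr hMH
      rwa [Subgroup.Normal.conj_smul_eq_self] at this
    rwa [sup_eq_left.mpr hMgH, sup_eq_left.mpr hMK] at h2
  · obtain ⟨n', hn'⟩ := hd
    have hG' : Nat.card (G ⧸ M) = m * n' := by
      have : Nat.card (G ⧸ M) * Nat.card M = (m * n') * Nat.card M := by
        rw [hqc, hG, hn']; ring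
      exact Nat.eq_of_mul_eq_mul_right Nat.card_pos this
    have hMn' : Nat.card M ∣ n := Dvd.intro _ hn'.symm
    have hcop' : m.Coprime n' :=
      Nat.Coprime.coprime_dvd_right (Dvd.intro_left _ hn'.symm) hmn
    have hcopM : m.Coprime (Nat.card M) := Nat.Coprime.coprime_dvd_right hMn' hmn
    have hHM : H ⊓ M = ⊥ := (Subgroup.disjoint_of_coprime_natCard (hH ▸ hcopM)).eq_bot
    have hKM : K ⊓ M = ⊥ := (Subgroup.disjoint_of_coprime_natCard (hK ▸ hcopM)).eq_bot
    have hH' : Nat.card (H.map π) = m := by rw [card_map_mk_of_inf_eq_bot M H hHM, hH]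
    have hK' : Nat.card (K.map π) = m := by rw [card_map_mk_of_inf_eq_bot M K hKM, hK]
    obtain ⟨g, hg⟩ := exists_conj_of_quotient M H K
      (ih (G ⧸ M) hlt hqs m n' hG' hcop' (H.map π) (K.map π) hH' hK')
    set L := (K.map π).comap π with hL
    have hLc : Nat.card L = m * Nat.card M := by rw [hL, card_comap_mk, hK']
    have hKL : K ≤ L := le_comap_map_mk M K
    have hHL : MulAut.conj g • H ≤ L := by
      rw [hL, ← hg]; exact le_comap_map_mk M _
    by_cases hLt : L = ⊤
    · have hGc : Nat.card G = m * Nat.card M := by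
        rw [← hLc, hLt, Subgroup.card_top]
      have hidx : M.index = m := by
        have := M.card_mul_index
        rw [hGc, mul_comm] at this
        exact Nat.eq_of_mul_eq_mul_right Nat.card_pos this
      have hsM : Group.IsSolvable M := by
        have : IsMulCommutative M := hMc
        exact Group.isSolvable_of_comm (fun a b => mul_comm' a b)
      exact sz_conj_of_card M (by rw [hidx]; exact hcopM.symm) H K (hH.trans hidx.symm)
        (hK.trans hidx.symm) (Or.inl hsM)
    · have hLlt : Nat.card L < Nat.card G := by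
        rcases (Subgroup.card_le_card_group L).lt_or_eq with h | h
        · exact h
        · exact absurd (eq_top_of_card_eq_card L h) hLt
      obtain ⟨l, hl⟩ := ih L hLlt inferInstance m (Nat.card M) hLc hcopM
        ((MulAut.conj g • H).subgroupOf L) (K.subgroupOf L)
        (by rw [card_subgroupOf_of_le hHL, card_conj_smul, hH])
        (by rw [card_subgroupOf_of_le hKL, hK])
      have := conj_of_conj_subgroupOf hHL hKL l hl
      exact ⟨l * g, by rw [← conj_smul_smul]; exact this⟩

end Cfsg.Agent.Lib.Helper1
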