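import Mathlib
import Cfsg.Agent.Lib.Helper1.HallConj
import Cfsg.Agent.Lib.Helper1.HallDom
import Cfsg.Agent.Lib.Helper1.SZB

set_option autoImplicit false

universe u

namespace Cfsg.Agent.Lib.Helper1

open Subgroup
open scoped Pointwise

section L0
variable {G : Type u} [Group G]

/-- In a finite group, a normal Hall subgroup `H` of `L` equals every subgroup of `L` of the
same order (relative version inside `G`). -/
theorem eq_of_normal_hall_of_card [Finite G] (L H H' : Subgroup G) (hHL : H ≤ L) (hH'L : H' ≤ L)
    (hnorm : L ≤ normalizer (H : Set G)) (hcop : (Nat.card H).Coprime (H.relIndex L))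
    (hcard : Nat.card H' = Nat.card H) : H' = H := by
  have : (H.subgroupOf L).Normal := (normal_subgroupOf_iff_le_normalizer hHL).mpr hnorm
  have h1 : Nat.card L = Nat.card H * H.relIndex L := by
    rw [mul_comm]
    have := Subgroup.relIndex_mul_relIndex ⊥ H L bot_le hHL
    rw [Subgroup.relIndex_bot_left, Subgroup.relIndex_bot_left, mul_comm] at this
    exact this.symm
  have h2 : H.subgroupOf L ≤ H'.subgroupOf L :=
    normal_le_of_card (H.subgroupOf L) (H'.subgroupOf L) (Nat.card H) (H.relIndex L) h1 hcop
      (by rw [card_subgroupOf_of_le hHL]) (by rw [card_subgroupOf_of_le hH'L, hcard])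
  have h3 : H ≤ H' := by
    intro x hx
    exact h2 (show (⟨x, hHL hx⟩ : L) ∈ H.subgroupOf L from hx)
  exact (eq_of_le_of_card_ge h3 hcard.le).symm

/-- In a finite nilpotent group every Hall subgroup is normal. -/
theorem normal_of_hall_of_isNilpotent [Finite G] [Group.IsNilpotent G] (H : Subgroup G)
    (hH : (Nat.card H).Coprime H.index) : H.Normal := by
  rw [← normalizer_eq_top_iff]
  set L := normalizer (H : Set G) with hL
  have hHL : H ≤ L := le_normalizer
  apply (normalizerCondition_iff_only_full_group_self_normalizing.mp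
    Group.normalizerCondition_of_isNilpotent) L
  apply le_antisymm _ le_normalizer
  intro x hx
  have hxL : MulAut.conj x • L = L := conj_smul_eq_of_mem_normalizer hx
  have h1 : MulAut.conj x • H ≤ L := by
    rw [← hxL]
    exact Subgroup.pointwise_smul_le_pointwise_smul_iff.mpr hHL
  have hcop : (Nat.card H).Coprime (H.relIndex L) :=
    Nat.Coprime.coprime_dvd_right (Subgroup.relIndex_dvd_index_of_le hHL) hH
  have := eq_of_normal_hall_of_card L H (MulAut.conj x • H) hHL h1 le_rfl hcop (card_conj_smul x H)
  exact mem_normalizer_of_conj_smul_eq this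

/-- Relative version: if `K` is nilpotent and `Q ≤ K` is a Hall subgroup of `K`, then `K`
normalises `Q`. -/
theorem le_normalizer_of_hall_of_isNilpotent [Finite G] (K Q : Subgroup G) (hQK : Q ≤ K)
    (hK : Group.IsNilpotent K) (hcop : (Nat.card Q).Coprime (Q.relIndex K)) :
    K ≤ normalizer (Q : Set G) := by
  rw [← normal_subgroupOf_iff_le_normalizer hQK]
  apply normal_of_hall_of_isNilpotent
  rw [card_subgroupOf_of_le hQK]
  exact hcop

end L0

end Cfsg.Agent.Lib.Helper1
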