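import Cfsg.Agent.Lib.Helper1.Gaschutz

set_option autoImplicit false

namespace Cfsg.Agent.Lib.Helper1

open scoped IsMulCommutative

section Exist
variable {G : Type*} [Group G] (K : Subgroup G) [K.Normal] [IsMulCommutative K]

/-- Existence half of the averaging argument: from a `K`-equivariant map `f : G → K` whose
"differences" are right `U`-invariant, construct a complement of `K`. -/
theorem exists_complement_of_section [Finite G] (U : Subgroup G)
    (hcop : (Nat.card K).Coprime U.index)
    (f : G → K) (hf : ∀ (k : K) (g : G), f (k * g) = k * f g)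
    (hU : ∀ x g, ∀ u ∈ U, (f (g * u))⁻¹ * MulAut.conjNormal x (f (x⁻¹ * (g * u)))
      = (f g)⁻¹ * MulAut.conjNormal x (f (x⁻¹ * g))) :
    ∃ H : Subgroup G, Subgroup.IsComplement' K H := by
  classical
  let _ : Fintype (G ⧸ U) := Fintype.ofFinite _
  set Fx : G → G → K := fun x g => (f g)⁻¹ * MulAut.conjNormal x (f (x⁻¹ * g)) with hFx
  set c : G → K := fun x => ∏ q : G ⧸ U, Fx x q.out with hc
  have hFmul : ∀ x y g, Fx (x * y) g = Fx x g * MulAut.conjNormal x (Fx y (x⁻¹ * g)) := by
    intro x y g
    simp only [hFx, map_mul, map_inv, MulAut.mul_apply, mul_inv_rev, mul_assoc]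
    rw [mul_inv_cancel_left]
  have hcmul : ∀ x y, c (x * y) = c x * MulAut.conjNormal x (c y) := by
    intro x y
    simp only [hc]
    simp_rw [hFmul x y]
    rw [Finset.prod_mul_distrib, ← map_prod]
    congr 2
    exact prod_quotient_translate U (Fx y) (hU y) x⁻¹
  have hcK : ∀ k : K, c (k : G) = (k ^ U.index)⁻¹ := by
    intro k
    simp only [hc, hFx]
    have : ∀ q : G ⧸ U, (f q.out)⁻¹ * MulAut.conjNormal (k : G) (f ((k : G)⁻¹ * q.out)) = k⁻¹ := by
      intro q
      rw [conjNormal_of_mem, ← Subgroup.coe_inv, hf, mul_comm k⁻¹, inv_mul_cancel_left]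
    simp_rw [this]
    rw [Finset.prod_const, Finset.card_univ, ← Nat.card_eq_fintype_card, ← Subgroup.index, inv_pow]
  have hc1 : c 1 = 1 := by
    have := hcmul 1 1
    rw [mul_one, map_one, MulAut.one_apply] at this
    exact (mul_eq_left.mp this.symm)
  have hcinv : ∀ x, c x = 1 → c x⁻¹ = 1 := by
    intro x hx
    have := hcmul x⁻¹ x
    rw [inv_mul_cancel, hc1, hx, map_one, mul_one] at this
    exact this.symm
  let H : Subgroup G :=
    { carrier := {x | c x = 1}
      mul_mem' := by
        intro a b ha hb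
        change c a = 1 at ha
        change c b = 1 at hb
        change c (a * b) = 1
        rw [hcmul, ha, hb, map_one, mul_one]
      one_mem' := hc1
      inv_mem' := by
        intro a ha
        exact hcinv a ha }
  have hmemH : ∀ x, x ∈ H ↔ c x = 1 := fun x => Iff.rfl
  refine ⟨H, Subgroup.isComplement'_of_disjoint_and_mul_eq_univ ?_ ?_⟩
  · rw [Subgroup.disjoint_def]
    intro x hxK hxH
    rw [hmemH] at hxH
    have h1 := hcK ⟨x, hxK⟩
    simp only at h1
    rw [hxH, eq_comm, inv_eq_one] at h1
    have h2 : (powCoprime hcop) ⟨x, hxK⟩ = (powCoprime hcop) 1 := by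
      rw [powCoprime_apply, powCoprime_apply, h1, one_pow]
    have h3 := (powCoprime hcop).injective h2
    exact congrArg Subtype.val h3
  · rw [Set.eq_univ_iff_forall]
    intro g
    obtain ⟨k, hk⟩ := (powCoprime hcop).surjective (c g)⁻¹
    rw [powCoprime_apply] at hk
    refine ⟨(k : G), k.2, (k : G)⁻¹ * g, ?_, by simp⟩
    show c ((k : G)⁻¹ * g) = 1
    rw [hcmul, ← Subgroup.coe_inv, conjNormal_of_mem, hcK, inv_pow, inv_inv, hk, inv_mul_cancel]

end Exist

end Cfsg.Agent.Lib.Helper1
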