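import Mathlib
import Cfsg.Agent.Lib.Helper1.BG157L4bCore
import Cfsg.Agent.Lib.Helper68.BG157L4f
import Cfsg.Agent.Lib.Helper46.BG157X
import Cfsg.Agent.S1412
import Cfsg.Agent.S1430
import Cfsg.Agent.S1373
import Cfsg.Agent.S1350

/-! # BG157 hive (owner helper91), leaf L4b `K_card_of_rank_le_two` -/

set_option autoImplicit false
set_option linter.unusedSectionVars false
set_option linter.unusedVariables false

namespace Cfsg.Agent.Lib.Helper91.BG157

open Subgroup Cfsg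

universe u

variable {G : Type u} [Group G] [Finite G]

theorem K_card_of_rank_le_two (hG : IsMinSimpleOddOrder G) {M K U : Subgroup G} (hM : IsCoatom M)
    (hKU : IsSigmaDecomposition M K U) (hK1 : K ≠ ⊥) (hU : U = ⊥)
    (hnil : Group.IsNilpotent ↥(sigmaCore M)) (p : ℕ) [Fact p.Prime]
    (hPna : ¬ IsMulCommutative ↥(pCore p ↥(sigmaCore M)))
    (hr : PRankLE p 2 ↥(pCore p ↥(sigmaCore M))) :
    Nat.card K ∣ p - 1 ∨ (Nat.card ↥(pCore p ↥(sigmaCore M)) = p ^ 3 ∧ Nat.card K ∣ p + 1) := by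
  have h1350 := Cfsg.Agent.S1350.result hG M hM
  have h1430 := (Cfsg.Agent.S1430.result hG M hM K hKU.hall hK1).1
  have h1373 := Cfsg.Agent.S1373.result hG M hM K U hKU hK1 hU
  refine l4b_core hG.1 hKU.hall.1 hKU.hall.2.1 hnil p hPna hr h1350.1.2.1 h1350.2.1.2 ?_ h1430 h1373
    ?_ ?_
  · intro P hrP
    rcases Cfsg.Agent.S1412.result hG p P hrP with h | ⟨P₁, P₂, h1, h2, h3, h4, h5, h6, h7⟩
    · exact Or.inl h
    · exact Or.inr ⟨P₁, P₂, ⟨h1, h2, h3, h4, h5, h6, h7⟩⟩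
  · intro P Z hp2 hP hPna' hKP hKodd hcop hfaith hZ _ _ _ _ _
    exact card_dvd_of_extraspecial p hp2 P K hP hPna' hKP hKU.cyclic hKodd hcop hfaith hZ
  · intro P hP hPna'
    exact K_faithful hG hM hKU hK1 hU P hP hPna'

end Cfsg.Agent.Lib.Helper91.BG157
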