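import Cfsg.Agent.Lib.Helper50.Burnside
import Cfsg.Agent.Lib.Helper77.Columns2
import Cfsg.Agent.Lib.Helper77.PNilpotentBlock
import Cfsg.Agent.Lib.Helper77.ThirdMain
import Cfsg.Agent.Lib.Helper75.DefectOne4

/-!
# Abelian Sylow subgroups whose normalizer acts freely: local facts
-/

set_option autoImplicit false
set_option linter.unusedSectionVars false

universe u

namespace Cfsg.Agent.Lib.Helper1.BL

open Cfsg Subgroup
open scoped ComplexConjugate

variable {G : Type u} [Group G] [Finite G] {p : ℕ} [Fact p.Prime] (P : Sylow p G)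

/-- the normalizer of `P` acts freely on `P \ 1` -/
def FreeAct (P : Sylow p G) : Prop :=
  ∀ y : G, y ∈ (P : Subgroup G) → y ≠ 1 →
    centralizer ({y} : Set G) ⊓ normalizer ((P : Subgroup G) : Set G) =
      centralizer ((P : Subgroup G) : Set G)

theorem comm_of_mem [hab : IsMulCommutative P] {x y : G} (hx : x ∈ (P : Subgroup G))
    (hy : y ∈ (P : Subgroup G)) : x * y = y * x := by
  have := (isMulCommutative_iff.mp hab) (⟨x, hx⟩ : P) ⟨y, hy⟩
  exact congrArg Subtype.val this

theorem le_centralizer_singleton [IsMulCommutative P] {u : G} (hu : u ∈ (P : Subgroup G)) :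
    (P : Subgroup G) ≤ centralizer ({u} : Set G) := by
  intro x hx
  rw [mem_centralizer_singleton_iff]
  exact comm_of_mem P hx hu

theorem le_centralizer_self [IsMulCommutative P] :
    (P : Subgroup G) ≤ centralizer ((P : Subgroup G) : Set G) := by
  intro x hx
  rw [mem_centralizer_iff]
  intro y hy
  exact comm_of_mem P hy hx

theorem pnilp [IsMulCommutative P] (hf : FreeAct P) {u : G} (hu : u ∈ (P : Subgroup G))
    (hu1 : u ≠ 1) :
    ∃ k : ℕ, (pPrimeCore p ↥(centralizer ({u} : Set G))).index = p ^ k := by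
  have hPH : (P : Subgroup G) ≤ centralizer ({u} : Set G) := le_centralizer_singleton P hu
  set P' : Sylow p ↥(centralizer ({u} : Set G)) := P.subtype hPH with hP'
  have hmem : ∀ h : ↥(centralizer ({u} : Set G)),
      h ∈ (P' : Subgroup ↥(centralizer ({u} : Set G))) ↔ (h : G) ∈ (P : Subgroup G) := by
    intro h
    rw [hP', Sylow.coe_subtype, mem_subgroupOf]
  have hN : normalizer ((P' : Subgroup ↥(centralizer ({u} : Set G))) :
        Set ↥(centralizer ({u} : Set G))) ≤
      centralizer ((P' : Subgroup ↥(centralizer ({u} : Set G))) :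
        Set ↥(centralizer ({u} : Set G))) := by
    intro h hh
    rw [mem_normalizer_iff] at hh
    have h1 : (h : G) ∈ normalizer ((P : Subgroup G) : Set G) := by
      rw [mem_normalizer_iff]
      intro x
      constructor
      · intro hx
        have := (hh ⟨x, hPH hx⟩).mp ((hmem _).mpr hx)
        exact (hmem _).mp this
      · intro hx
        have hxH : x ∈ centralizer ({u} : Set G) := by
          have e : x = (h : G)⁻¹ * ((h : G) * x * (h : G)⁻¹) * (h : G) := by group
          rw [e]
          exact mul_mem (mul_mem (inv_mem h.2) (hPH hx)) h.2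
        have := (hh ⟨x, hxH⟩).mpr ((hmem _).mpr hx)
        exact (hmem _).mp this
    have h2 : (h : G) ∈ centralizer ((P : Subgroup G) : Set G) := by
      rw [← hf u hu hu1]
      exact ⟨h.2, h1⟩
    rw [mem_centralizer_iff]
    intro y hy
    apply Subtype.ext
    exact (mem_centralizer_iff.mp h2) (y : G) ((hmem y).mp hy)
  have hc := Cfsg.Agent.Lib.Helper50.pPrimeCore_isComplement' P' hN
  have h3 := hc.symm.index_eq_card
  obtain ⟨k, hk⟩ := IsPGroup.iff_card.mp P'.2
  exact ⟨k, by rw [h3, hk]⟩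

theorem card_eq_ppart [IsMulCommutative P] {u : G} (hu : u ∈ (P : Subgroup G)) :
    Nat.card (P : Subgroup G) =
      p ^ (Nat.card ↥(centralizer ({u} : Set G))).factorization p := by
  have hPH : (P : Subgroup G) ≤ centralizer ({u} : Set G) := le_centralizer_singleton P hu
  have h1 := (P.subtype hPH).card_eq_multiplicity
  rw [← h1, Sylow.coe_subtype]
  exact (Nat.card_congr (subgroupOfEquivOfLe hPH).toEquiv).symm

theorem fusion [IsMulCommutative P] (u : G) (hu : u ∈ (P : Subgroup G)) (g : G)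
    (hg : g * u * g⁻¹ ∈ (P : Subgroup G)) :
    ∃ n ∈ normalizer ((P : Subgroup G) : Set G), n * u * n⁻¹ = g * u * g⁻¹ := by
  have := Sylow.conj_eq_normalizer_conj_of_mem P u g⁻¹ hu (by rwa [inv_inv])
  obtain ⟨n, hn, h⟩ := this
  refine ⟨n⁻¹, inv_mem hn, ?_⟩
  rw [inv_inv] at h ⊢
  exact h.symm

theorem card_inf_eq (hf : FreeAct P) {y : G} (hy : y ∈ (P : Subgroup G)) (hy1 : y ≠ 1) :
    Nat.card ↥(normalizer ((P : Subgroup G) : Set G) ⊓ centralizer ({y} : Set G)) =
      Nat.card ↥(centralizer ((P : Subgroup G) : Set G)) := by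
  rw [inf_comm, hf y hy hy1]

theorem principal_sq_sum {M : Ideal AlgInt} (hM : IsPModular p M) [IsMulCommutative P]
    (hf : FreeAct P) {y : G} (hy : y ∈ (P : Subgroup G)) (hy1 : y ≠ 1) :
    ((∑ᶠ ψ ∈ principalBlock M ↥(centralizer ({y} : Set G)),
      charDegree (ψ : ↥(centralizer ({y} : Set G)) → ℂ) ^ 2 : ℕ) : ℂ) =
      (Nat.card (P : Subgroup G) : ℂ) := by
  classical
  have := Fintype.ofFinite ↥(centralizer ({y} : Set G))
  have := Fintype.ofFinite (IrrCharacter ↥(centralizer ({y} : Set G)))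
  have h1 := Cfsg.Agent.Lib.Helper77.sum_principalBlock_mul_conj_of_pnilpotent hM
    (pnilp P hf hy hy1) (1 : ↥(centralizer ({y} : Set G)))
    (by rw [orderOf_one]; exact (Fact.out : p.Prime).one_lt.ne' ∘ Nat.dvd_one.mp)
  rw [← card_eq_ppart P hy] at h1
  rw [← h1, Cfsg.Agent.Lib.Helper77.finsum_mem_eq_sum_filter_gen, Nat.cast_sum]
  refine Finset.sum_congr rfl fun ψ _ => ?_
  rw [Cfsg.Agent.Lib.Helper81.irr_apply_one_eq_charDegree ψ, Complex.conj_natCast]
  push_cast
  ring


open Cfsg.Agent.Lib.Helper77 Cfsg.Agent.Lib.Helper81 in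
/-- members of the principal block are constant on the `p`-section of a `p`-element with
`p`-nilpotent centralizer -/
theorem value_section {M : Ideal AlgInt} (hM : IsPModular p M) {x : G}
    (hx : ∃ k : ℕ, orderOf x = p ^ k)
    (hnc : ∃ k : ℕ, (pPrimeCore p ↥(centralizer ({x} : Set G))).index = p ^ k)
    (χ : IrrCharacter G) (hχ : χ ∈ principalBlock M G)
    (y : ↥(centralizer ({x} : Set G))) (hy : ¬ p ∣ orderOf y) :
    (χ : G → ℂ) (x * (y : G)) = (χ : G → ℂ) x := by
  classical
  have hMp : M.IsPrime := isPrime_of_isPModular hM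
  have := Fintype.ofFinite G
  have := Fintype.ofFinite (IrrCharacter G)
  have := Fintype.ofFinite ↥(centralizer ({x} : Set G))
  have := Fintype.ofFinite (IrrCharacter ↥(centralizer ({x} : Set G)))
  have h1ne : ¬ p ∣ orderOf (1 : ↥(centralizer ({x} : Set G))) := by
    rw [orderOf_one]; exact (Fact.out : p.Prime).one_lt.ne' ∘ Nat.dvd_one.mp
  have e1 := Cfsg.Agent.Lib.Helper75.section_value_eq hM hx (isPBlock_principalBlock M) χ hχ y hy
  have e2 := Cfsg.Agent.Lib.Helper75.section_value_eq hM hx (isPBlock_principalBlock M) χ hχ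
    (1 : ↥(centralizer ({x} : Set G))) h1ne
  rw [Subgroup.coe_one, mul_one] at e2
  rw [e1, e2]
  refine Finset.sum_congr rfl fun ψ hψ => ?_
  have hind := (Finset.mem_filter.mp hψ).2
  have hb : blockOf M (ψ : ↥(centralizer ({x} : Set G)) → ℂ) =
      principalBlock M ↥(centralizer ({x} : Set G)) := (third_main hM hind).mp rfl
  have hψ0 : ψ ∈ principalBlock M ↥(centralizer ({x} : Set G)) := by
    rw [← hb]; exact self_mem_blockOf hMp ψ
  rw [Cfsg.Agent.S0939.result p M hM hnc] at hψ0
  obtain ⟨k, hk⟩ := hnc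
  have hKn : (pPrimeCore p ↥(centralizer ({x} : Set G))).Normal :=
    Cfsg.Agent.Lib.Helper22.pPrimeCore_normal' p _
  have hyK : y ∈ pPrimeCore p ↥(centralizer ({x} : Set G)) :=
    Cfsg.Agent.Lib.Helper16.mem_of_regular_of_index _ hk hy
  rw [hψ0 y hyK]

end Cfsg.Agent.Lib.Helper1.BL
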