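import Cfsg.Agent.Lib.Helper1.BL1
import Cfsg.Agent.Lib.Helper25.DualW
import Cfsg.Agent.Lib.Helper79.Basic
import Cfsg.Agent.Lib.Helper15.IrrCrit

/-!
# Linear characters of an abelian Sylow subgroup: multiplicities and Brauer's column relations
-/

set_option autoImplicit false
set_option linter.unusedSectionVars false

universe u

namespace Cfsg.Agent.Lib.Helper1.BL

open Cfsg Subgroup
open scoped ComplexConjugate

section Dual

variable {W : Type*} [Group W] [Fintype W]

theorem sum_hom_apply (ν : W →* ℂˣ) :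
    ∑ y : W, ((ν y : ℂˣ) : ℂ) = if ν = 1 then (Fintype.card W : ℂ) else 0 := by
  split_ifs with h
  · subst h
    simp
  · have hex : ∃ y0, ν y0 ≠ 1 := by
      by_contra hcon
      push Not at hcon
      exact h (MonoidHom.ext fun y => by rw [hcon y]; rfl)
    obtain ⟨y0, hy0⟩ := hex
    have h1 : ((ν y0 : ℂˣ) : ℂ) * ∑ y : W, ((ν y : ℂˣ) : ℂ) = ∑ y : W, ((ν y : ℂˣ) : ℂ) := by
      rw [Finset.mul_sum]
      refine Fintype.sum_equiv (Equiv.mulLeft y0) _ _ fun y => ?_
      simp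
    have h2 : (((ν y0 : ℂˣ) : ℂ) - 1) * ∑ y : W, ((ν y : ℂˣ) : ℂ) = 0 := by
      rw [sub_mul, h1, one_mul, sub_self]
    rcases mul_eq_zero.mp h2 with h3 | h3
    · exfalso
      apply hy0
      have : ((ν y0 : ℂˣ) : ℂ) = 1 := by linear_combination h3
      exact Units.ext this
    · exact h3

theorem sum_dual_apply [DecidableEq W] (hc : ∀ a b : W, a * b = b * a) [Fintype (W →* ℂˣ)]
    (y : W) :
    ∑ ν : W →* ℂˣ, ((ν y : ℂˣ) : ℂ) = if y = 1 then (Fintype.card W : ℂ) else 0 := by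
  let _ : CommGroup W := { ‹Group W› with mul_comm := hc }
  have := Cfsg.Agent.Lib.Helper25.hasEnoughRoots W
  split_ifs with h
  · subst h
    have h1 := CommGroup.card_monoidHom_of_hasEnoughRootsOfUnity W ℂ
    simp only [map_one, Units.val_one, Finset.sum_const, Finset.card_univ, nsmul_eq_mul, mul_one]
    rw [← Nat.card_eq_fintype_card, ← Nat.card_eq_fintype_card]
    exact_mod_cast h1
  · obtain ⟨ν0, hν0⟩ := CommGroup.exists_apply_ne_one_of_hasEnoughRootsOfUnity W ℂ h
    have h1 : ((ν0 y : ℂˣ) : ℂ) * ∑ ν : W →* ℂˣ, ((ν y : ℂˣ) : ℂ) =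
        ∑ ν : W →* ℂˣ, ((ν y : ℂˣ) : ℂ) := by
      rw [Finset.mul_sum]
      refine Fintype.sum_equiv (Equiv.mulLeft ν0) _ _ fun ν => ?_
      simp
    have h2 : (((ν0 y : ℂˣ) : ℂ) - 1) * ∑ ν : W →* ℂˣ, ((ν y : ℂˣ) : ℂ) = 0 := by
      rw [sub_mul, h1, one_mul, sub_self]
    rcases mul_eq_zero.mp h2 with h3 | h3
    · exfalso
      apply hν0
      have : ((ν0 y : ℂˣ) : ℂ) = 1 := by linear_combination h3
      exact Units.ext this
    · exact h3

end Dual


section Mult

variable {G : Type u} [Group G] [Fintype G] {p : ℕ} [Fact p.Prime] (P : Sylow p G)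
  [Fintype ↥(P : Subgroup G)]

open Cfsg.Agent.Lib.Helper77

/-- the multiplicity of the linear character `l` of `P` in `χ` restricted to `P` -/
noncomputable def mlt (χ : G → ℂ) (l : ↥(P : Subgroup G) →* ℂˣ) : ℂ :=
  colCoeff (P : Subgroup G) (fun y => ((l y : ℂˣ) : ℂ)) χ

/-- the difference of multiplicities `mlt χ 1 - mlt χ l` -/
noncomputable def Fc (χ : G → ℂ) (l : ↥(P : Subgroup G) →* ℂˣ) : ℂ :=
  colCoeff (P : Subgroup G) (fun y => 1 - ((l y : ℂˣ) : ℂ)) χ

theorem Fc_eq (χ : G → ℂ) (l : ↥(P : Subgroup G) →* ℂˣ) :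
    Fc P χ l = mlt P χ 1 - mlt P χ l := by
  unfold Fc mlt colCoeff
  rw [← mul_sub, ← Finset.sum_sub_distrib]
  congr 1
  refine Finset.sum_congr rfl fun y _ => ?_
  simp only [MonoidHom.one_apply, Units.val_one]
  ring

theorem mlt_eq_classInner (χ : G → ℂ) (l : ↥(P : Subgroup G) →* ℂˣ) :
    mlt P χ l = classInner (fun y : ↥(P : Subgroup G) => χ (y : G))
      (fun y => ((l y : ℂˣ) : ℂ)) := by
  unfold mlt colCoeff classInner
  congr 1
  refine Finset.sum_congr rfl fun y _ => ?_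
  rw [Cfsg.Agent.Lib.Helper25.conj_hom_apply]

theorem mlt_nat (χ : IrrCharacter G) (l : ↥(P : Subgroup G) →* ℂˣ) :
    ∃ n : ℕ, mlt P (χ : G → ℂ) l = (n : ℂ) := by
  rw [mlt_eq_classInner]
  exact Cfsg.Agent.Lib.Helper15.exists_nat_classInner
    (Cfsg.Agent.Lib.Helper3.IsCharacter.restrict
      (Cfsg.Agent.Lib.Helper3.IsIrrCharacter.isCharacter χ.2) (P : Subgroup G))
    (Cfsg.Agent.Lib.Helper3.IsIrrCharacter.isCharacter
      (Cfsg.Agent.Lib.Helper79.isIrrCharacter_of_monoidHom l))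

/-- Fourier inversion on `P` -/
theorem char_eq_sum_mlt [IsMulCommutative P] [Fintype (↥(P : Subgroup G) →* ℂˣ)] (χ : G → ℂ)
    (u : ↥(P : Subgroup G)) :
    χ (u : G) = ∑ l : ↥(P : Subgroup G) →* ℂˣ, mlt P χ l * ((l u : ℂˣ) : ℂ) := by
  classical
  have hc : ∀ a b : ↥(P : Subgroup G), a * b = b * a := fun a b =>
    Subtype.ext (comm_of_mem P a.2 b.2)
  unfold mlt colCoeff
  have h1 : ∀ l : ↥(P : Subgroup G) →* ℂˣ,
      (Nat.card ↥(P : Subgroup G) : ℂ)⁻¹ * (∑ y : ↥(P : Subgroup G), χ (y : G) *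
        ((l y⁻¹ : ℂˣ) : ℂ)) * ((l u : ℂˣ) : ℂ) =
      (Nat.card ↥(P : Subgroup G) : ℂ)⁻¹ * ∑ y : ↥(P : Subgroup G), χ (y : G) *
        ((l (y⁻¹ * u) : ℂˣ) : ℂ) := by
    intro l
    rw [mul_assoc, Finset.sum_mul]
    congr 1
    refine Finset.sum_congr rfl fun y _ => ?_
    rw [map_mul, Units.val_mul]
    ring
  rw [Finset.sum_congr rfl fun l _ => h1 l, ← Finset.mul_sum, Finset.sum_comm]
  have h2 : ∀ y : ↥(P : Subgroup G), ∑ l : ↥(P : Subgroup G) →* ℂˣ, χ (y : G) *
      ((l (y⁻¹ * u) : ℂˣ) : ℂ) = if y = u then χ (u : G) *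
        (Fintype.card ↥(P : Subgroup G) : ℂ) else 0 := by
    intro y
    rw [← Finset.mul_sum, sum_dual_apply hc]
    by_cases hy : y = u
    · subst hy
      simp
    · rw [if_neg hy, if_neg, mul_zero]
      intro h
      apply hy
      rw [inv_mul_eq_one] at h
      exact h
  rw [Finset.sum_congr rfl fun y _ => h2 y, Finset.sum_ite_eq' Finset.univ u,
    if_pos (Finset.mem_univ u), Nat.card_eq_fintype_card]
  have : (Fintype.card ↥(P : Subgroup G) : ℂ) ≠ 0 := by
    exact_mod_cast Fintype.card_ne_zero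
  field_simp

end Mult


section Twist

variable {G : Type u} [Group G] [Fintype G] {p : ℕ} [Fact p.Prime] (P : Sylow p G)

/-- conjugation by an element of the normalizer as an endomorphism of `P` -/
def conjP (x : ↥(normalizer ((P : Subgroup G) : Set G))) :
    ↥(P : Subgroup G) →* ↥(P : Subgroup G) where
  toFun y := ⟨(x : G) * (y : G) * (x : G)⁻¹, (mem_normalizer_iff.mp x.2 (y : G)).mp y.2⟩
  map_one' := by
    apply Subtype.ext
    simp
  map_mul' := by
    intro a b
    apply Subtype.ext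
    simp only [Subgroup.coe_mul]
    group

/-- the conjugate linear character -/
def twist (x : ↥(normalizer ((P : Subgroup G) : Set G))) (l : ↥(P : Subgroup G) →* ℂˣ) :
    ↥(P : Subgroup G) →* ℂˣ := l.comp (conjP P x)

theorem twist_apply (x : ↥(normalizer ((P : Subgroup G) : Set G)))
    (l : ↥(P : Subgroup G) →* ℂˣ) (y : ↥(P : Subgroup G)) :
    twist P x l y = l ⟨(x : G) * (y : G) * (x : G)⁻¹,
      (mem_normalizer_iff.mp x.2 (y : G)).mp y.2⟩ := rfl

theorem twist_twist (x x' : ↥(normalizer ((P : Subgroup G) : Set G)))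
    (l : ↥(P : Subgroup G) →* ℂˣ) : twist P x (twist P x' l) = twist P (x' * x) l := by
  apply MonoidHom.ext
  intro y
  rw [twist_apply, twist_apply, twist_apply]
  congr 1
  apply Subtype.ext
  simp only [Subgroup.coe_mul]
  group

theorem twist_one_hom (x : ↥(normalizer ((P : Subgroup G) : Set G))) :
    twist P x (1 : ↥(P : Subgroup G) →* ℂˣ) = 1 := by
  apply MonoidHom.ext
  intro y
  rfl

theorem twist_one_elt (l : ↥(P : Subgroup G) →* ℂˣ) : twist P 1 l = l := by
  apply MonoidHom.ext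
  intro y
  rw [twist_apply]
  congr 1
  apply Subtype.ext
  simp

theorem twist_ne_one (x : ↥(normalizer ((P : Subgroup G) : Set G)))
    {l : ↥(P : Subgroup G) →* ℂˣ} (hl : l ≠ 1) : twist P x l ≠ 1 := by
  intro h
  apply hl
  have h1 := congrArg (twist P x⁻¹) h
  rw [twist_twist, mul_inv_cancel, twist_one_elt, twist_one_hom] at h1
  exact h1

/-- the relation of being conjugate under the normalizer, phrased as in the statements -/
def Rel (ψ ψ' : ↥(P : Subgroup G) →* ℂˣ) : Prop :=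
  ∃ n : G, n ∈ normalizer ((P : Subgroup G) : Set G) ∧
    ∀ w w' : ↥(P : Subgroup G), (w' : G) = n * w * n⁻¹ → ψ' w' = ψ w

theorem rel_iff (ψ ψ' : ↥(P : Subgroup G) →* ℂˣ) :
    Rel P ψ ψ' ↔ ∃ x : ↥(normalizer ((P : Subgroup G) : Set G)), twist P x ψ' = ψ := by
  constructor
  · rintro ⟨n, hn, h⟩
    refine ⟨⟨n, hn⟩, MonoidHom.ext fun y => ?_⟩
    rw [twist_apply]
    exact h y _ rfl
  · rintro ⟨x, hx⟩
    refine ⟨x, x.2, fun w w' hw => ?_⟩
    rw [← hx, twist_apply]
    congr 1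
    exact Subtype.ext hw

theorem rel_refl (ψ : ↥(P : Subgroup G) →* ℂˣ) : Rel P ψ ψ :=
  (rel_iff P ψ ψ).mpr ⟨1, twist_one_elt P ψ⟩

theorem rel_symm {ψ ψ' : ↥(P : Subgroup G) →* ℂˣ} (h : Rel P ψ ψ') : Rel P ψ' ψ := by
  obtain ⟨x, hx⟩ := (rel_iff P ψ ψ').mp h
  refine (rel_iff P ψ' ψ).mpr ⟨x⁻¹, ?_⟩
  rw [← hx, twist_twist, mul_inv_cancel, twist_one_elt]

theorem rel_trans {ψ ψ' ψ'' : ↥(P : Subgroup G) →* ℂˣ} (h : Rel P ψ ψ') (h' : Rel P ψ' ψ'') :
    Rel P ψ ψ'' := by
  obtain ⟨x, hx⟩ := (rel_iff P ψ ψ').mp h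
  obtain ⟨x', hx'⟩ := (rel_iff P ψ' ψ'').mp h'
  refine (rel_iff P ψ ψ'').mpr ⟨x' * x, ?_⟩
  rw [← twist_twist, hx', hx]

theorem rel_equiv : Equivalence (Rel P) :=
  ⟨rel_refl P, fun h => rel_symm P h, fun h h' => rel_trans P h h'⟩

theorem rel_one_iff (ψ : ↥(P : Subgroup G) →* ℂˣ) : Rel P ψ 1 ↔ ψ = 1 := by
  constructor
  · intro h
    obtain ⟨x, hx⟩ := (rel_iff P ψ 1).mp h
    rw [← hx, twist_one_hom]
  · rintro rfl
    exact rel_refl P 1

/-- the stabilizer of a nontrivial linear character is the centralizer -/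
theorem stab_le [IsMulCommutative P] (hf : FreeAct P) {l : ↥(P : Subgroup G) →* ℂˣ}
    (hl : l ≠ 1) (x : ↥(normalizer ((P : Subgroup G) : Set G))) (h : twist P x l = l) :
    (x : G) ∈ centralizer ((P : Subgroup G) : Set G) := by
  classical
  by_contra hx
  apply hl
  -- the commutator map
  let φ : ↥(P : Subgroup G) → ↥(P : Subgroup G) := fun y => conjP P x y * y⁻¹
  have hinj : Function.Injective φ := by
    intro a b hab
    have hab' : conjP P x (a * b⁻¹) = a * b⁻¹ := by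
      have h1 : conjP P x a * a⁻¹ = conjP P x b * b⁻¹ := hab
      rw [map_mul, map_inv]
      have hc : ∀ s t : ↥(P : Subgroup G), s * t = t * s := fun s t =>
        Subtype.ext (comm_of_mem P s.2 t.2)
      calc conjP P x a * (conjP P x b)⁻¹
          = (conjP P x a * a⁻¹) * a * (conjP P x b)⁻¹ := by group
        _ = (conjP P x b * b⁻¹) * a * (conjP P x b)⁻¹ := by rw [h1]
        _ = a * b⁻¹ := by
            rw [hc (conjP P x b * b⁻¹) a, mul_assoc, hc (conjP P x b * b⁻¹) (conjP P x b)⁻¹]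
            group
    by_contra hne
    have hne' : ((a * b⁻¹ : ↥(P : Subgroup G)) : G) ≠ 1 := by
      intro h1
      apply hne
      have : a * b⁻¹ = 1 := Subtype.ext h1
      exact mul_inv_eq_one.mp this
    have hcent : (x : G) ∈ centralizer ({((a * b⁻¹ : ↥(P : Subgroup G)) : G)} : Set G) := by
      rw [mem_centralizer_singleton_iff]
      have := congrArg Subtype.val hab'
      simp only [conjP, MonoidHom.coe_mk, OneHom.coe_mk] at this
      calc (x : G) * ((a * b⁻¹ : ↥(P : Subgroup G)) : G)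
          = ((x : G) * ((a * b⁻¹ : ↥(P : Subgroup G)) : G) * (x : G)⁻¹) * (x : G) := by group
        _ = ((a * b⁻¹ : ↥(P : Subgroup G)) : G) * (x : G) := by rw [this]
    have := hf _ (a * b⁻¹ : ↥(P : Subgroup G)).2 hne'
    apply hx
    rw [← this]
    exact ⟨hcent, x.2⟩
  have hsurj : Function.Surjective φ := Finite.injective_iff_surjective.mp hinj
  apply MonoidHom.ext
  intro z
  obtain ⟨y, hy⟩ := hsurj z
  rw [← hy]
  show l (conjP P x y * y⁻¹) = 1
  rw [map_mul, map_inv]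
  have h1 : l (conjP P x y) = l y := by
    have := congrArg (fun f => f y) h
    exact this
  rw [h1, mul_inv_cancel]

end Twist


section Gram

variable {G : Type u} [Group G] [Fintype G] {p : ℕ} [Fact p.Prime] (P : Sylow p G)
  [Fintype ↥(P : Subgroup G)] [Fintype ↥(normalizer ((P : Subgroup G) : Set G))]

open Cfsg.Agent.Lib.Helper77

open Classical in
theorem count_twist [IsMulCommutative P] (hf : FreeAct P) {l m : ↥(P : Subgroup G) →* ℂˣ}
    (hl : l ≠ 1) :
    ((Finset.univ.filter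
      (fun x : ↥(normalizer ((P : Subgroup G) : Set G)) => twist P x m = l)).card : ℂ) =
      if Rel P l m then (Nat.card ↥(centralizer ((P : Subgroup G) : Set G)) : ℂ) else 0 := by
  by_cases h : Rel P l m
  · rw [if_pos h]
    obtain ⟨x0, hx0⟩ := (rel_iff P l m).mp h
    have hCN : centralizer ((P : Subgroup G) : Set G) ≤ normalizer ((P : Subgroup G) : Set G) :=
      centralizer_le_normalizer _
    have hcard : (Finset.univ.filter
        (fun x : ↥(normalizer ((P : Subgroup G) : Set G)) => twist P x m = l)).card =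
        Nat.card {x : ↥(normalizer ((P : Subgroup G) : Set G)) // twist P x m = l} := by
      rw [Nat.card_eq_fintype_card, Fintype.card_subtype]
    rw [hcard]
    congr 1
    refine Nat.card_congr
      { toFun := fun x => ⟨((x0⁻¹ * x.1 : ↥(normalizer ((P : Subgroup G) : Set G))) : G), ?_⟩
        invFun := fun c => ⟨x0 * ⟨(c : G), hCN c.2⟩, ?_⟩
        left_inv := ?_
        right_inv := ?_ }
    · apply stab_le P hf hl
      have h1 : twist P (x0⁻¹ * x.1) (twist P x0 m) = twist P x.1 m := by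
        rw [twist_twist, mul_inv_cancel_left]
      rw [hx0, x.2] at h1
      exact h1
    · rw [← twist_twist, hx0]
      apply MonoidHom.ext
      intro y
      rw [twist_apply]
      congr 1
      apply Subtype.ext
      have := (mem_centralizer_iff.mp c.2) (y : G) y.2
      show (c : G) * (y : G) * (c : G)⁻¹ = (y : G)
      rw [← this]
      group
    · intro x
      apply Subtype.ext
      apply Subtype.ext
      simp
    · intro c
      apply Subtype.ext
      simp
  · rw [if_neg h]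
    have : Finset.univ.filter
        (fun x : ↥(normalizer ((P : Subgroup G) : Set G)) => twist P x m = l) = ∅ := by
      rw [Finset.filter_eq_empty_iff]
      intro x _ hx
      exact h ((rel_iff P l m).mpr ⟨x, hx⟩)
    rw [this]
    simp

open Classical in
theorem sum_pair (l ν : ↥(P : Subgroup G) →* ℂˣ) :
    ∑ y : ↥(P : Subgroup G), (1 - ((l y : ℂˣ) : ℂ)) * (1 - conj ((ν y : ℂˣ) : ℂ)) =
      (Fintype.card ↥(P : Subgroup G) : ℂ) *
        (1 - (if l = 1 then 1 else 0) - (if ν = 1 then 1 else 0) + (if l = ν then 1 else 0)) := by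
  have h1 : ∀ y : ↥(P : Subgroup G), (1 - ((l y : ℂˣ) : ℂ)) * (1 - conj ((ν y : ℂˣ) : ℂ)) =
      1 - ((l y : ℂˣ) : ℂ) - conj ((ν y : ℂˣ) : ℂ) + (((l * ν⁻¹) y : ℂˣ) : ℂ) := by
    intro y
    rw [Cfsg.Agent.Lib.Helper25.conj_hom_apply, MonoidHom.mul_apply, MonoidHom.inv_apply,
      Units.val_mul, map_inv]
    ring
  rw [Finset.sum_congr rfl fun y _ => h1 y, Finset.sum_add_distrib, Finset.sum_sub_distrib,
    Finset.sum_sub_distrib, ← map_sum, sum_hom_apply, sum_hom_apply, sum_hom_apply]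
  have h2 : (l * ν⁻¹ = 1) ↔ l = ν := by
    constructor
    · intro h
      apply MonoidHom.ext
      intro y
      have := congrArg (fun f => f y) h
      simp only [MonoidHom.mul_apply, MonoidHom.inv_apply, MonoidHom.one_apply] at this
      exact mul_inv_eq_one.mp this
    · rintro rfl
      apply MonoidHom.ext
      intro y
      simp
  simp only [Finset.sum_const, Finset.card_univ, nsmul_eq_mul, mul_one, h2]
  split_ifs <;> simp <;> ring

theorem ext_theta (m : ↥(P : Subgroup G) →* ℂˣ)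
    (x : ↥(normalizer ((P : Subgroup G) : Set G))) (y : ↥(P : Subgroup G)) :
    extendByZero (P : Subgroup G) (fun y => 1 - ((m y : ℂˣ) : ℂ))
      ((x : G) * (y : G) * (x : G)⁻¹) = 1 - ((twist P x m y : ℂˣ) : ℂ) := by
  rw [Cfsg.Agent.Lib.Helper25.extendByZero_of_mem (P : Subgroup G) _
    ((mem_normalizer_iff.mp x.2 (y : G)).mp y.2)]
  rfl

variable {M : Ideal AlgInt}

open Classical in
/-- Brauer's column formula specialised to the functions `1 - l` -/
theorem columns_apply [Fintype (IrrCharacter G)] (hM : IsPModular p M) [IsMulCommutative P]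
    (hf : FreeAct P) (l : ↥(P : Subgroup G) →* ℂˣ) (η : ↥(P : Subgroup G) → ℂ) :
    ∑ χ ∈ Finset.univ.filter (fun χ : IrrCharacter G => χ ∈ principalBlock M G),
      Fc P (χ : G → ℂ) l * conj (colCoeff (P : Subgroup G) η (χ : G → ℂ)) =
    (((Nat.card ↥(P : Subgroup G) : ℂ) /
        (Nat.card ↥(centralizer ((P : Subgroup G) : Set G)) : ℂ)) /
      (Nat.card ↥(P : Subgroup G) : ℂ) ^ 2) *
      ∑ y : ↥(P : Subgroup G), (1 - ((l y : ℂˣ) : ℂ)) *
        conj (∑ x : ↥(normalizer ((P : Subgroup G) : Set G)),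
          extendByZero (P : Subgroup G) η ((x : G) * (y : G) * (x : G)⁻¹)) := by
  have hC0 : (Nat.card ↥(centralizer ((P : Subgroup G) : Set G)) : ℂ) ≠ 0 :=
    Nat.cast_ne_zero.mpr Nat.card_pos.ne'
  refine columns_core hM (P : Subgroup G) P.2 (normalizer ((P : Subgroup G) : Set G)) le_rfl
    {g : G | g ∈ (P : Subgroup G) ∧ g ≠ 1} ?_ _ ?_ (fun y => 1 - ((l y : ℂˣ) : ℂ)) η ?_
  · intro u hu g hg
    exact fusion P u hu.1 g hg
  · intro y hy
    rw [principal_sq_sum P hM hf hy.1 hy.2, card_inf_eq P hf hy.1 hy.2]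
    field_simp
  · intro y hy
    have : y = 1 := by
      by_contra h
      apply hy
      exact ⟨y.2, fun h1 => h (Subtype.ext h1)⟩
    rw [this]
    simp

open Classical in
theorem gram_FF [Fintype (IrrCharacter G)] (hM : IsPModular p M) [IsMulCommutative P]
    (hf : FreeAct P) {l m : ↥(P : Subgroup G) →* ℂˣ} (hl : l ≠ 1) (hm : m ≠ 1) :
    ∑ χ ∈ Finset.univ.filter (fun χ : IrrCharacter G => χ ∈ principalBlock M G),
      Fc P (χ : G → ℂ) l * conj (Fc P (χ : G → ℂ) m) =
    (Nat.card ↥(normalizer ((P : Subgroup G) : Set G)) : ℂ) /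
      (Nat.card ↥(centralizer ((P : Subgroup G) : Set G)) : ℂ) +
      (if Rel P l m then 1 else 0) := by
  have hC0 : (Nat.card ↥(centralizer ((P : Subgroup G) : Set G)) : ℂ) ≠ 0 :=
    Nat.cast_ne_zero.mpr Nat.card_pos.ne'
  have hP0 : (Nat.card ↥(P : Subgroup G) : ℂ) ≠ 0 :=
    Nat.cast_ne_zero.mpr Nat.card_pos.ne'
  have key := columns_apply P hM hf l (fun y => 1 - ((m y : ℂˣ) : ℂ))
  have hL : ∑ χ ∈ Finset.univ.filter (fun χ : IrrCharacter G => χ ∈ principalBlock M G),
      Fc P (χ : G → ℂ) l * conj (Fc P (χ : G → ℂ) m) =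
      ∑ χ ∈ Finset.univ.filter (fun χ : IrrCharacter G => χ ∈ principalBlock M G),
      Fc P (χ : G → ℂ) l * conj (colCoeff (P : Subgroup G)
        (fun y => 1 - ((m y : ℂˣ) : ℂ)) (χ : G → ℂ)) := rfl
  rw [hL, key]
  have h1 : ∀ y : ↥(P : Subgroup G), (1 - ((l y : ℂˣ) : ℂ)) *
      conj (∑ x : ↥(normalizer ((P : Subgroup G) : Set G)),
        extendByZero (P : Subgroup G) (fun y => 1 - ((m y : ℂˣ) : ℂ))
          ((x : G) * (y : G) * (x : G)⁻¹)) =
      ∑ x : ↥(normalizer ((P : Subgroup G) : Set G)),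
        (1 - ((l y : ℂˣ) : ℂ)) * (1 - conj ((twist P x m y : ℂˣ) : ℂ)) := by
    intro y
    rw [map_sum, Finset.mul_sum]
    refine Finset.sum_congr rfl fun x _ => ?_
    rw [ext_theta, map_sub, map_one]
  rw [Finset.sum_congr rfl fun y _ => h1 y, Finset.sum_comm]
  have h2 : ∀ x : ↥(normalizer ((P : Subgroup G) : Set G)),
      ∑ y : ↥(P : Subgroup G), (1 - ((l y : ℂˣ) : ℂ)) *
        (1 - conj ((twist P x m y : ℂˣ) : ℂ)) =
      (Nat.card ↥(P : Subgroup G) : ℂ) * (1 + if twist P x m = l then 1 else 0) := by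
    intro x
    rw [sum_pair, if_neg hl, if_neg (twist_ne_one P x hm), Nat.card_eq_fintype_card]
    congr 1
    by_cases h : twist P x m = l
    · rw [if_pos h, if_pos h.symm]; ring
    · rw [if_neg h, if_neg (fun h' => h h'.symm)]; ring
  rw [Finset.sum_congr rfl fun x _ => h2 x, ← Finset.mul_sum, Finset.sum_add_distrib,
    Finset.sum_boole, count_twist P hf hl]
  simp only [Finset.sum_const, Finset.card_univ, nsmul_eq_mul, mul_one]
  rw [← Nat.card_eq_fintype_card (α := ↥(normalizer ((P : Subgroup G) : Set G)))]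
  by_cases h : Rel P l m
  · rw [if_pos h, if_pos h]
    field_simp
  · rw [if_neg h, if_neg h]
    field_simp
    ring

theorem mlt_one_eq (χ : G → ℂ) :
    mlt P χ 1 = colCoeff (P : Subgroup G) (fun _ => (1 : ℂ)) χ := by
  unfold mlt
  congr 1

open Classical in
theorem gram_F1 [Fintype (IrrCharacter G)] (hM : IsPModular p M) [IsMulCommutative P]
    (hf : FreeAct P) {l : ↥(P : Subgroup G) →* ℂˣ} (hl : l ≠ 1) :
    ∑ χ ∈ Finset.univ.filter (fun χ : IrrCharacter G => χ ∈ principalBlock M G),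
      Fc P (χ : G → ℂ) l * conj (mlt P (χ : G → ℂ) 1) =
    (Nat.card ↥(normalizer ((P : Subgroup G) : Set G)) : ℂ) /
      (Nat.card ↥(centralizer ((P : Subgroup G) : Set G)) : ℂ) := by
  have hC0 : (Nat.card ↥(centralizer ((P : Subgroup G) : Set G)) : ℂ) ≠ 0 :=
    Nat.cast_ne_zero.mpr Nat.card_pos.ne'
  have hP0 : (Nat.card ↥(P : Subgroup G) : ℂ) ≠ 0 :=
    Nat.cast_ne_zero.mpr Nat.card_pos.ne'
  have key := columns_apply P hM hf l (fun _ => (1 : ℂ))
  simp_rw [mlt_one_eq]
  rw [key]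
  have h1 : ∀ y : ↥(P : Subgroup G), (1 - ((l y : ℂˣ) : ℂ)) *
      conj (∑ x : ↥(normalizer ((P : Subgroup G) : Set G)),
        extendByZero (P : Subgroup G) (fun _ => (1 : ℂ)) ((x : G) * (y : G) * (x : G)⁻¹)) =
      (1 - ((l y : ℂˣ) : ℂ)) * (Nat.card ↥(normalizer ((P : Subgroup G) : Set G)) : ℂ) := by
    intro y
    congr 1
    have : ∀ x : ↥(normalizer ((P : Subgroup G) : Set G)),
        extendByZero (P : Subgroup G) (fun _ => (1 : ℂ)) ((x : G) * (y : G) * (x : G)⁻¹) = 1 := by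
      intro x
      rw [Cfsg.Agent.Lib.Helper25.extendByZero_of_mem (P : Subgroup G) _
        ((mem_normalizer_iff.mp x.2 (y : G)).mp y.2)]
    rw [Finset.sum_congr rfl fun x _ => this x]
    simp [Nat.card_eq_fintype_card]
  rw [Finset.sum_congr rfl fun y _ => h1 y, ← Finset.sum_mul, Finset.sum_sub_distrib,
    sum_hom_apply, if_neg hl]
  simp only [Finset.sum_const, Finset.card_univ, nsmul_eq_mul, mul_one, sub_zero]
  rw [← Nat.card_eq_fintype_card (α := ↥(P : Subgroup G))]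
  field_simp

end Gram

end Cfsg.Agent.Lib.Helper1.BL
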