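import Mathlib

/-!
# An integral lattice lemma (Brauer–Leonard)

Vectors `a λ : ι → ℤ` (nonnegative) and `b : ι → ℤ` with
`∑ (b - a λ) (b - a μ) = m + [R λ μ]`, `∑ b (b - a λ) = m`.
-/

set_option autoImplicit false

namespace Cfsg.Agent.Lib.Helper1.BL

open Finset

section Norm2

variable {ι : Type*} [Fintype ι] [DecidableEq ι]

theorem norm2_abs_le_one {D : ι → ℤ} (h : ∑ i, D i ^ 2 = 2) (k : ι) :
    D k = 0 ∨ D k = 1 ∨ D k = -1 := by
  have h1 : D k ^ 2 ≤ 2 := by
    rw [← h]
    exact Finset.single_le_sum (f := fun i => D i ^ 2) (fun i _ => sq_nonneg _) (Finset.mem_univ k)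
  have h2 : -1 ≤ D k := by nlinarith
  have h3 : D k ≤ 1 := by nlinarith
  omega

theorem norm2_three {D : ι → ℤ} (h : ∑ i, D i ^ 2 = 2) {k1 k2 k3 : ι} (h12 : k1 ≠ k2)
    (h13 : k1 ≠ k3) (h23 : k2 ≠ k3) : D k1 = 0 ∨ D k2 = 0 ∨ D k3 = 0 := by
  by_contra hcon
  push Not at hcon
  obtain ⟨n1, n2, n3⟩ := hcon
  have hsub : ({k1, k2, k3} : Finset ι) ⊆ Finset.univ := Finset.subset_univ _
  have hle := Finset.sum_le_sum_of_subset_of_nonneg (f := fun i => D i ^ 2) hsub
    (fun i _ _ => sq_nonneg _)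
  rw [h, Finset.sum_insert (by simp [h12, h13]), Finset.sum_insert (by simp [h23]),
    Finset.sum_singleton] at hle
  have p1 : 1 ≤ D k1 ^ 2 := by
    have : D k1 ^ 2 ≠ 0 := pow_ne_zero 2 n1
    have := sq_nonneg (D k1)
    omega
  have p2 : 1 ≤ D k2 ^ 2 := by
    have : D k2 ^ 2 ≠ 0 := pow_ne_zero 2 n2
    have := sq_nonneg (D k2)
    omega
  have p3 : 1 ≤ D k3 ^ 2 := by
    have : D k3 ^ 2 ≠ 0 := pow_ne_zero 2 n3
    have := sq_nonneg (D k3)
    omega
  omega

theorem norm2_exists {D : ι → ℤ} (h : ∑ i, D i ^ 2 = 2) :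
    ∃ i j, i ≠ j ∧ D i ≠ 0 ∧ D j ≠ 0 ∧ ∀ k, k ≠ i → k ≠ j → D k = 0 := by
  set S := Finset.univ.filter (fun i => D i ≠ 0) with hS
  have hsum : ∑ i ∈ S, D i ^ 2 = 2 := by
    rw [← h, hS, Finset.sum_filter]
    refine Finset.sum_congr rfl fun i _ => ?_
    by_cases hi : D i = 0
    · simp [hi]
    · simp [hi]
  have hone : ∀ i ∈ S, D i ^ 2 = 1 := by
    intro i hi
    have hne : D i ≠ 0 := (Finset.mem_filter.mp hi).2
    rcases norm2_abs_le_one h i with h0 | h1 | h1
    · exact absurd h0 hne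
    · rw [h1]; norm_num
    · rw [h1]; norm_num
  rw [Finset.sum_congr rfl hone, Finset.sum_const, nsmul_eq_mul, mul_one] at hsum
  have hcard : S.card = 2 := by exact_mod_cast hsum
  obtain ⟨i, j, hij, hSij⟩ := Finset.card_eq_two.mp hcard
  refine ⟨i, j, hij, ?_, ?_, ?_⟩
  · have : i ∈ S := by rw [hSij]; simp
    exact (Finset.mem_filter.mp this).2
  · have : j ∈ S := by rw [hSij]; simp
    exact (Finset.mem_filter.mp this).2
  · intro k hki hkj
    by_contra hk
    have : k ∈ S := Finset.mem_filter.mpr ⟨Finset.mem_univ _, hk⟩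
    rw [hSij] at this
    simp at this
    rcases this with rfl | rfl
    · exact hki rfl
    · exact hkj rfl

end Norm2


section Shape

variable {ι : Type*} [Fintype ι] [DecidableEq ι]

/-- two nonnegative integer vectors of equal norm at distance `√2` differ by a swap -/
theorem shape_of_norm2 {a1 a2 : ι → ℤ} (h1 : ∀ k, 0 ≤ a1 k) (h2 : ∀ k, 0 ≤ a2 k)
    (hD : ∑ k, (a1 k - a2 k) ^ 2 = 2) (hN : ∑ k, a1 k ^ 2 = ∑ k, a2 k ^ 2) :
    ∃ i j, i ≠ j ∧ ∀ k, a1 k = a2 k + (if k = i then 1 else 0) - (if k = j then 1 else 0) := by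
  obtain ⟨i, j, hij, hi, hj, hk⟩ := norm2_exists (D := fun k => a1 k - a2 k) hD
  have hsum : ∑ k, (a1 k - a2 k) * (a1 k + a2 k) = 0 := by
    have : ∀ k, (a1 k - a2 k) * (a1 k + a2 k) = a1 k ^ 2 - a2 k ^ 2 := fun k => by ring
    rw [Finset.sum_congr rfl fun k _ => this k, Finset.sum_sub_distrib, hN, sub_self]
  rw [Finset.sum_eq_add i j hij (fun c _ hc => by
    have : a1 c - a2 c = 0 := hk c hc.1 hc.2
    rw [this, zero_mul]) (fun h => absurd (Finset.mem_univ _) h)
    (fun h => absurd (Finset.mem_univ _) h)] at hsum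
  have hi' : a1 i - a2 i = 0 ∨ a1 i - a2 i = 1 ∨ a1 i - a2 i = -1 :=
    norm2_abs_le_one (D := fun k => a1 k - a2 k) hD i
  have hj' : a1 j - a2 j = 0 ∨ a1 j - a2 j = 1 ∨ a1 j - a2 j = -1 :=
    norm2_abs_le_one (D := fun k => a1 k - a2 k) hD j
  have hi : a1 i - a2 i ≠ 0 := hi
  have hj : a1 j - a2 j ≠ 0 := hj
  have hk : ∀ k, k ≠ i → k ≠ j → a1 k - a2 k = 0 := hk
  have p1 := h1 i
  have p2 := h2 i
  have p3 := h1 j
  have p4 := h2 j
  rcases hi' with h0 | hi1 | hi1
  · exact absurd h0 hi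
  · rcases hj' with h0 | hj1 | hj1
    · exact absurd h0 hj
    · exfalso
      rw [hi1, hj1] at hsum
      omega
    · refine ⟨i, j, hij, fun k => ?_⟩
      by_cases hki : k = i
      · subst hki
        rw [if_pos rfl, if_neg hij]
        omega
      · by_cases hkj : k = j
        · subst hkj
          rw [if_neg hki, if_pos rfl]
          omega
        · rw [if_neg hki, if_neg hkj]
          have := hk k hki hkj
          omega
  · rcases hj' with h0 | hj1 | hj1
    · exact absurd h0 hj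
    · refine ⟨j, i, hij.symm, fun k => ?_⟩
      by_cases hki : k = i
      · subst hki
        rw [if_neg hij, if_pos rfl]
        omega
      · by_cases hkj : k = j
        · subst hkj
          rw [if_pos rfl, if_neg hki]
          omega
        · rw [if_neg hkj, if_neg hki]
          have := hk k hki hkj
          omega
    · exfalso
      rw [hi1, hj1] at hsum
      omega

end Shape


section Core

variable {ι : Type*} [Fintype ι] [DecidableEq ι]

/-- `a0 = a1 + e_i - e_j` -/
def IsStep (a0 a1 : ι → ℤ) (i j : ι) : Prop :=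
  i ≠ j ∧ ∀ k, a0 k = a1 k + (if k = i then 1 else 0) - (if k = j then 1 else 0)

theorem step_eq {a0 a1 : ι → ℤ} {i1 j1 i2 j2 : ι} (h1 : IsStep a0 a1 i1 j1)
    (h2 : IsStep a0 a1 i2 j2) : i1 = i2 ∧ j1 = j2 := by
  have e1 := h1.2 i1
  have e2 := h2.2 i1
  have e3 := h1.2 j1
  have e4 := h2.2 j1
  rw [if_pos rfl, if_neg h1.1] at e1
  rw [if_neg h1.1.symm, if_pos rfl] at e3
  constructor
  · by_contra h
    rw [if_neg h] at e2
    split_ifs at e2 <;> omega
  · by_contra h
    rw [if_neg h] at e4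
    split_ifs at e4 <;> omega

theorem step_ne {a0 a1 a2 : ι → ℤ} {i1 j1 i2 j2 : ι} (h1 : IsStep a0 a1 i1 j1)
    (h2 : IsStep a0 a2 i2 j2) (hD : ∑ k, (a1 k - a2 k) ^ 2 = 2) :
    (i1 = i2 ∧ j1 ≠ j2) ∨ (i1 ≠ i2 ∧ j1 = j2) := by
  have key : ∀ k, a1 k - a2 k = (if k = i2 then 1 else 0) - (if k = j2 then 1 else 0)
      - (if k = i1 then 1 else 0) + (if k = j1 then 1 else 0) := by
    intro k
    have e1 := h1.2 k
    have e2 := h2.2 k
    linarith
  by_cases hi : i1 = i2
  · left
    refine ⟨hi, fun hj => ?_⟩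
    subst hi hj
    have : ∀ k, (a1 k - a2 k) ^ 2 = 0 := by
      intro k
      rw [key k]
      ring
    rw [Finset.sum_congr rfl fun k _ => this k] at hD
    simp at hD
  · right
    refine ⟨hi, ?_⟩
    by_contra hj
    have hA : a1 i1 - a2 i1 = 0 ∨ a1 i1 - a2 i1 = 1 ∨ a1 i1 - a2 i1 = -1 :=
      norm2_abs_le_one (D := fun k => a1 k - a2 k) hD i1
    have hB : a1 i2 - a2 i2 = 0 ∨ a1 i2 - a2 i2 = 1 ∨ a1 i2 - a2 i2 = -1 :=
      norm2_abs_le_one (D := fun k => a1 k - a2 k) hD i2
    have hC : i1 ≠ i2 → i1 ≠ j1 → i2 ≠ j1 →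
        a1 i1 - a2 i1 = 0 ∨ a1 i2 - a2 i2 = 0 ∨ a1 j1 - a2 j1 = 0 :=
      norm2_three (D := fun k => a1 k - a2 k) hD (k1 := i1) (k2 := i2) (k3 := j1)
    have kA := key i1
    have kB := key i2
    have kC := key j1
    rw [if_neg hi, if_pos rfl, if_neg h1.1] at kA
    rw [if_pos rfl, if_neg h2.1, if_neg (Ne.symm hi)] at kB
    rw [if_neg hj, if_neg h1.1.symm, if_pos rfl] at kC
    have n1 : i1 ≠ j2 := by
      intro h
      rw [if_pos h] at kA
      omega
    have n2 : i2 ≠ j1 := by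
      intro h
      rw [if_pos h] at kB
      omega
    rw [if_neg n1] at kA
    rw [if_neg n2] at kB
    rw [if_neg (Ne.symm n2)] at kC
    rcases hC hi h1.1 n2 with h | h | h <;> omega

variable {Λ : Type*} (R : Λ → Λ → Prop)

/-- all the "up" coordinates agree -/
theorem caseA (hR : Equivalence R) (a : Λ → ι → ℤ) (heq : ∀ l m, R l m → a l = a m)
    (hn2 : ∀ l m, ¬ R l m → ∑ k, (a l k - a m k) ^ 2 = 2) (l0 : Λ) (up dn : Λ → ι)
    (hud : ∀ m, ¬ R l0 m → IsStep (a l0) (a m) (up m) (dn m)) (i0 : ι)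
    (hall : ∀ m, ¬ R l0 m → up m = i0) :
    ∃ (ρ : ι → ℤ) (y : Λ → ι), (∀ l k, a l k = ρ k + (if k = y l then 1 else 0)) ∧
      ∀ l m, y l = y m ↔ R l m := by
  classical
  refine ⟨fun k => a l0 k - (if k = i0 then 1 else 0),
    fun m => if R l0 m then i0 else dn m, ?_, ?_⟩
  · intro l k
    by_cases hl : R l0 l
    · simp only [if_pos hl]
      rw [heq l0 l hl]
      ring
    · simp only [if_neg hl]
      have := (hud l hl).2 k
      rw [hall l hl] at this
      linarith
  · intro l m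
    by_cases hl : R l0 l
    · by_cases hm : R l0 m
      · simp only [if_pos hl, if_pos hm, true_iff]
        exact hR.trans (hR.symm hl) hm
      · simp only [if_pos hl, if_neg hm]
        constructor
        · intro h
          exfalso
          have := (hud m hm).1
          rw [hall m hm] at this
          exact this h
        · intro h
          exact absurd (hR.trans hl h) hm
    · by_cases hm : R l0 m
      · simp only [if_neg hl, if_pos hm]
        constructor
        · intro h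
          exfalso
          have := (hud l hl).1
          rw [hall l hl] at this
          exact this h.symm
        · intro h
          exact absurd (hR.trans hm (hR.symm h)) hl
      · simp only [if_neg hl, if_neg hm]
        by_cases hlm : R l m
        · have e := heq l m hlm
          have h1 := hud l hl
          have h2 := hud m hm
          rw [e] at h1
          exact ⟨fun _ => hlm, fun _ => (step_eq h1 h2).2⟩
        · have := step_ne (hud l hl) (hud m hm) (hn2 l m hlm)
          rw [hall l hl, hall m hm] at this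
          constructor
          · intro h
            rcases this with ⟨-, h'⟩ | ⟨h', -⟩
            · exact absurd h h'
            · exact absurd rfl h'
          · intro h
            exact absurd h hlm

theorem structure_of_steps (hR : Equivalence R) (a : Λ → ι → ℤ)
    (heq : ∀ l m, R l m → a l = a m)
    (hn2 : ∀ l m, ¬ R l m → ∑ k, (a l k - a m k) ^ 2 = 2)
    (hshape : ∀ l m, ¬ R l m → ∃ i j, IsStep (a l) (a m) i j)
    (h2 : ∃ l m, ¬ R l m) :
    ∃ (σ : ℤ) (ρ : ι → ℤ) (y : Λ → ι), (σ = 1 ∨ σ = -1) ∧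
      (∀ l k, a l k = ρ k + σ * (if k = y l then 1 else 0)) ∧ ∀ l m, y l = y m ↔ R l m := by
  classical
  obtain ⟨l0, m0, h0⟩ := h2
  have hex : ∀ m, ∃ ij : ι × ι, ¬ R l0 m → IsStep (a l0) (a m) ij.1 ij.2 := by
    intro m
    by_cases hm : R l0 m
    · obtain ⟨i, j, _⟩ := hshape l0 m0 h0
      exact ⟨(i, j), fun h => absurd hm h⟩
    · obtain ⟨i, j, hij⟩ := hshape l0 m hm
      exact ⟨(i, j), fun _ => hij⟩
  choose U hU using hex
  set up : Λ → ι := fun m => (U m).1 with hup
  set dn : Λ → ι := fun m => (U m).2 with hdn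
  have hud : ∀ m, ¬ R l0 m → IsStep (a l0) (a m) (up m) (dn m) := hU
  -- uniformity
  have hunif : (∀ m, ¬ R l0 m → up m = up m0) ∨ (∀ m, ¬ R l0 m → dn m = dn m0) := by
    by_contra hcon
    push Not at hcon
    obtain ⟨⟨m1, hm1, hu1⟩, ⟨m2, hm2, hd2⟩⟩ := hcon
    have r01 : ¬ R m0 m1 := by
      intro h
      have e := heq m0 m1 h
      have h1 := hud m0 h0
      rw [e] at h1
      exact hu1 (step_eq h1 (hud m1 hm1)).1.symm
    have r02 : ¬ R m0 m2 := by
      intro h
      have e := heq m0 m2 h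
      have h1 := hud m0 h0
      rw [e] at h1
      exact hd2 (step_eq h1 (hud m2 hm2)).2.symm
    have d1 : dn m0 = dn m1 := by
      rcases step_ne (hud m0 h0) (hud m1 hm1) (hn2 m0 m1 r01) with ⟨h, -⟩ | ⟨-, h⟩
      · exact absurd h.symm hu1
      · exact h
    have u2 : up m0 = up m2 := by
      rcases step_ne (hud m0 h0) (hud m2 hm2) (hn2 m0 m2 r02) with ⟨h, -⟩ | ⟨-, h⟩
      · exact h
      · exact absurd h.symm hd2
    have r12 : ¬ R m1 m2 := by
      intro h
      have e := heq m1 m2 h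
      have h1 := hud m1 hm1
      rw [e] at h1
      have := (step_eq h1 (hud m2 hm2)).1
      exact hu1 (this.trans u2.symm)
    rcases step_ne (hud m1 hm1) (hud m2 hm2) (hn2 m1 m2 r12) with ⟨h, -⟩ | ⟨-, h⟩
    · exact hu1 (h.trans u2.symm)
    · exact hd2 (h.symm.trans d1.symm)
  rcases hunif with hA | hB
  · obtain ⟨ρ, y, h1, h2⟩ := caseA R hR a heq hn2 l0 up dn hud (up m0) hA
    refine ⟨1, ρ, y, Or.inl rfl, ?_, h2⟩
    intro l k
    rw [h1 l k, one_mul]
  · -- negate
    have heq' : ∀ l m, R l m → (fun k => - a l k) = fun k => - a m k := by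
      intro l m h
      rw [heq l m h]
    have hn2' : ∀ l m, ¬ R l m → ∑ k, ((fun k => - a l k) k - (fun k => - a m k) k) ^ 2 = 2 := by
      intro l m h
      rw [← hn2 l m h]
      refine Finset.sum_congr rfl fun k _ => ?_
      ring
    have hud' : ∀ m, ¬ R l0 m →
        IsStep ((fun l k => - a l k) l0) ((fun l k => - a l k) m) (dn m) (up m) := by
      intro m hm
      refine ⟨(hud m hm).1.symm, fun k => ?_⟩
      have := (hud m hm).2 k
      simp only
      linarith
    obtain ⟨ρ, y, h1, h2⟩ := caseA R hR (fun l k => - a l k) heq' hn2' l0 dn up hud' (dn m0) hB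
    refine ⟨-1, fun k => - ρ k, y, Or.inr rfl, ?_, h2⟩
    intro l k
    have : - a l k = ρ k + (if k = y l then 1 else 0) := h1 l k
    show a l k = - ρ k + -1 * (if k = y l then 1 else 0)
    linarith

end Core


section Main

variable {ι : Type*} [Fintype ι] [DecidableEq ι]

theorem sum_shift (c : ι → ℤ) (δ : ℤ) (y1 y2 : ι) :
    ∑ k, (c k - δ * (if k = y1 then 1 else 0)) * (c k - δ * (if k = y2 then 1 else 0)) =
      ∑ k, c k ^ 2 - δ * c y2 - δ * c y1 + δ ^ 2 * (if y1 = y2 then 1 else 0) := by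
  have h : ∀ k, (c k - δ * (if k = y1 then 1 else 0)) * (c k - δ * (if k = y2 then 1 else 0)) =
      c k ^ 2 - δ * (if k = y2 then c k else 0) - δ * (if k = y1 then c k else 0) +
        δ ^ 2 * (if k = y1 then (if k = y2 then 1 else 0) else 0) := by
    intro k
    split_ifs <;> ring
  rw [Finset.sum_congr rfl fun k _ => h k, Finset.sum_add_distrib, Finset.sum_sub_distrib,
    Finset.sum_sub_distrib, ← Finset.mul_sum, ← Finset.mul_sum, ← Finset.mul_sum,
    Finset.sum_ite_eq', Finset.sum_ite_eq', Finset.sum_ite_eq']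
  simp

variable {Λ : Type*} (R : Λ → Λ → Prop) [DecidableRel R]

theorem lattice_main (hR : Equivalence R) (a : Λ → ι → ℤ) (b : ι → ℤ) (m : ℤ)
    (ha : ∀ l k, 0 ≤ a l k)
    (hF : ∀ l l', ∑ k, (b k - a l k) * (b k - a l' k) = m + (if R l l' then 1 else 0))
    (hb : ∀ l, ∑ k, b k * (b k - a l k) = m)
    (h2 : ∃ l l', ¬ R l l') :
    ∃ (δ d : ℤ) (c : ι → ℤ) (y : Λ → ι), (δ = 1 ∨ δ = -1) ∧
      (∀ l l', y l = y l' ↔ R l l') ∧
      (∀ l k, b k - a l k = c k - δ * (if k = y l then 1 else 0)) ∧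
      (∀ l, c (y l) = d) ∧
      (∑ k, c k ^ 2 - 2 * δ * d = m) := by
  have hS1 : ∀ l l', ∑ k, (a l k - a l' k) ^ 2 = 2 - 2 * (if R l l' then 1 else 0) := by
    intro l l'
    have h : ∀ k, (a l k - a l' k) ^ 2 = (b k - a l' k) * (b k - a l' k) +
        (b k - a l k) * (b k - a l k) - 2 * ((b k - a l k) * (b k - a l' k)) := by
      intro k; ring
    rw [Finset.sum_congr rfl fun k _ => h k, Finset.sum_sub_distrib, Finset.sum_add_distrib,
      ← Finset.mul_sum, hF l' l', hF l l, hF l l', if_pos (hR.refl l'), if_pos (hR.refl l)]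
    ring
  have hS2 : ∀ l, ∑ k, a l k ^ 2 = ∑ k, b k ^ 2 - m + 1 := by
    intro l
    have h : ∀ k, a l k ^ 2 = b k ^ 2 - 2 * (b k * (b k - a l k)) +
        (b k - a l k) * (b k - a l k) := by
      intro k; ring
    rw [Finset.sum_congr rfl fun k _ => h k, Finset.sum_add_distrib, Finset.sum_sub_distrib,
      ← Finset.mul_sum, hb l, hF l l, if_pos (hR.refl l)]
    ring
  have heq : ∀ l l', R l l' → a l = a l' := by
    intro l l' h
    have h0 := hS1 l l'
    rw [if_pos h] at h0
    have h1 : ∑ k, (a l k - a l' k) ^ 2 = 0 := by rw [h0]; ring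
    rw [Finset.sum_eq_zero_iff_of_nonneg (fun k _ => sq_nonneg _)] at h1
    funext k
    have := h1 k (Finset.mem_univ k)
    have := pow_eq_zero_iff (two_ne_zero) |>.mp this
    linarith
  have hn2 : ∀ l l', ¬ R l l' → ∑ k, (a l k - a l' k) ^ 2 = 2 := by
    intro l l' h
    rw [hS1 l l', if_neg h]
    ring
  have hshape : ∀ l l', ¬ R l l' → ∃ i j, IsStep (a l) (a l') i j := by
    intro l l' h
    obtain ⟨i, j, hij, hk⟩ := shape_of_norm2 (ha l) (ha l') (hn2 l l' h)
      (by rw [hS2 l, hS2 l'])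
    exact ⟨i, j, hij, hk⟩
  obtain ⟨σ, ρ, y, hσ, hρ, hy⟩ := structure_of_steps R hR a heq hn2 hshape h2
  have hσ2 : σ ^ 2 = 1 := by rcases hσ with h | h <;> rw [h] <;> norm_num
  set c : ι → ℤ := fun k => b k - ρ k with hc
  have hbc : ∀ l k, b k - a l k = c k - σ * (if k = y l then 1 else 0) := by
    intro l k
    rw [hρ l k, hc]
    ring
  obtain ⟨l0, l1, h01⟩ := h2
  have hnorm : ∀ l, ∑ k, c k ^ 2 - 2 * σ * c (y l) = m := by
    intro l
    have h := hF l l
    rw [if_pos (hR.refl l), Finset.sum_congr rfl fun k _ => by rw [hbc l k], sum_shift,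
      if_pos rfl, hσ2] at h
    linarith
  have hconst : ∀ l, c (y l) = c (y l0) := by
    intro l
    by_cases hl : R l0 l
    · rw [(hy l0 l).mpr hl]
    · have h := hF l0 l
      have hne : y l0 ≠ y l := fun h => hl ((hy l0 l).mp h)
      rw [if_neg hl, Finset.sum_congr rfl fun k _ => by rw [hbc l0 k, hbc l k], sum_shift,
        if_neg hne] at h
      have h' := hnorm l0
      have h3 : σ * (c (y l) - c (y l0)) = 0 := by linarith
      rcases hσ with hs | hs
      · rw [hs] at h3; linarith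
      · rw [hs] at h3; linarith
  refine ⟨σ, c (y l0), c, y, hσ, hy, hbc, hconst, ?_⟩
  exact hnorm l0

end Main

end Cfsg.Agent.Lib.Helper1.BL
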