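import Cfsg.Agent.Lib.Helper1.BL2
import Cfsg.Agent.Lib.Helper1.BL3

/-!
# The Brauer–Leonard structure of the principal block (abelian Sylow subgroup, free action)
-/

set_option autoImplicit false
set_option linter.unusedSectionVars false

universe u

namespace Cfsg.Agent.Lib.Helper1.BL

open Cfsg Subgroup
open scoped ComplexConjugate

section Struct

variable {G : Type u} [Group G] [Fintype G] {p : ℕ} [Fact p.Prime] (P : Sylow p G)
  [Fintype ↥(P : Subgroup G)] [Fintype ↥(normalizer ((P : Subgroup G) : Set G))]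
  [Fintype (IrrCharacter G)] {M : Ideal AlgInt}

/-- the principal block as a type -/
abbrev PB (M : Ideal AlgInt) (G : Type u) [Group G] : Type u :=
  {χ : IrrCharacter G // χ ∈ principalBlock M G}

/-- the nontrivial linear characters of `P` -/
abbrev NT : Type u := {l : ↥(P : Subgroup G) →* ℂˣ // l ≠ 1}

open Classical in
theorem bl_struct (hM : IsPModular p M) [IsMulCommutative P] (hf : FreeAct P) (m : ℕ)
    (hm : Nat.card ↥(normalizer ((P : Subgroup G) : Set G)) =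
      m * Nat.card ↥(centralizer ((P : Subgroup G) : Set G)))
    (h2 : ∃ l l' : NT P, ¬ Rel P l.1 l'.1) :
    ∃ (δ d : ℤ) (c : PB M G → ℤ) (y : NT P → PB M G), (δ = 1 ∨ δ = -1) ∧
      (∀ l l', y l = y l' ↔ Rel P l.1 l'.1) ∧
      (∀ (l : NT P) (k : PB M G), Fc P (k.1 : G → ℂ) l.1 =
        ((c k - δ * (if k = y l then 1 else 0) : ℤ) : ℂ)) ∧
      (∀ l, c (y l) = d) ∧
      (∑ k, c k ^ 2 - 2 * δ * d = (m : ℤ)) := by
  have hC0 : (Nat.card ↥(centralizer ((P : Subgroup G) : Set G)) : ℂ) ≠ 0 :=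
    Nat.cast_ne_zero.mpr Nat.card_pos.ne'
  have hmC : (Nat.card ↥(normalizer ((P : Subgroup G) : Set G)) : ℂ) /
      (Nat.card ↥(centralizer ((P : Subgroup G) : Set G)) : ℂ) = (m : ℂ) := by
    rw [hm]
    push_cast
    field_simp
  choose nm hnm using fun (χ : IrrCharacter G) (l : ↥(P : Subgroup G) →* ℂˣ) => mlt_nat P χ l
  set a : NT P → PB M G → ℤ := fun l k => (nm k.1 l.1 : ℤ) with ha
  set b : PB M G → ℤ := fun k => (nm k.1 1 : ℤ) with hb
  have hFc : ∀ (l : NT P) (k : PB M G), Fc P (k.1 : G → ℂ) l.1 = ((b k - a l k : ℤ) : ℂ) := by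
    intro l k
    rw [Fc_eq, hnm, hnm]
    push_cast
    rfl
  have hconj : ∀ (l : NT P) (k : PB M G),
      conj (Fc P (k.1 : G → ℂ) l.1) = Fc P (k.1 : G → ℂ) l.1 := by
    intro l k
    rw [hFc, map_intCast]
  have hsub : ∀ f : IrrCharacter G → ℂ,
      ∑ χ ∈ Finset.univ.filter (fun χ : IrrCharacter G => χ ∈ principalBlock M G), f χ =
      ∑ k : PB M G, f k.1 := by
    intro f
    exact Finset.sum_subtype (Finset.univ.filter (fun χ : IrrCharacter G =>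
      χ ∈ principalBlock M G)) (by simp) f
  have hF : ∀ l l' : NT P, ∑ k, (b k - a l k) * (b k - a l' k) =
      (m : ℤ) + (if Rel P l.1 l'.1 then 1 else 0) := by
    intro l l'
    have h := gram_FF P hM hf l.2 l'.2
    rw [hsub, hmC] at h
    have h3 : (((∑ k, (b k - a l k) * (b k - a l' k) : ℤ)) : ℂ) =
        (((m : ℤ) + (if Rel P l.1 l'.1 then 1 else 0) : ℤ) : ℂ) := by
      push_cast
      rw [← h]
      refine Finset.sum_congr rfl fun k _ => ?_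
      rw [hconj, hFc, hFc]
      push_cast
      rfl
    exact_mod_cast h3
  have hB : ∀ l : NT P, ∑ k, b k * (b k - a l k) = (m : ℤ) := by
    intro l
    have h := gram_F1 P hM hf l.2
    rw [hsub, hmC] at h
    have h3 : (((∑ k, b k * (b k - a l k) : ℤ)) : ℂ) = ((m : ℤ) : ℂ) := by
      push_cast
      rw [← h]
      refine Finset.sum_congr rfl fun k _ => ?_
      rw [hFc, hnm, Complex.conj_natCast]
      have : ((nm k.1 1 : ℕ) : ℂ) = ((b k : ℤ) : ℂ) := by rw [hb]; push_cast; rfl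
      rw [this]
      push_cast
      ring
    exact_mod_cast h3
  have hR : Equivalence (fun l l' : NT P => Rel P l.1 l'.1) :=
    ⟨fun l => rel_refl P l.1, fun h => rel_symm P h, fun h h' => rel_trans P h h'⟩
  obtain ⟨δ, d, c, y, hδ, hy, hbc, hcd, hnorm⟩ :=
    lattice_main (fun l l' : NT P => Rel P l.1 l'.1) hR a b (m : ℤ)
      (fun l k => Int.natCast_nonneg _) hF hB h2
  refine ⟨δ, d, c, y, hδ, hy, ?_, hcd, hnorm⟩
  intro l k
  rw [hFc, hbc]

open Classical in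
/-- the Brauer–Leonard data of the principal block -/
structure BLData (M : Ideal AlgInt) (m : ℕ) where
  δ : ℤ
  d : ℤ
  a : IrrCharacter G → ℤ
  ζ : (↥(P : Subgroup G) →* ℂˣ) → IrrCharacter G
  hδ : δ = 1 ∨ δ = -1
  hζB : ∀ ψ, ψ ≠ 1 → ζ ψ ∈ principalBlock M G
  hζ : ∀ ψ ψ', ψ ≠ 1 → ψ' ≠ 1 → (ζ ψ = ζ ψ' ↔ Rel P ψ ψ')
  hF : ∀ χ ∈ principalBlock M G, ∀ ψ, ψ ≠ 1 →
    Fc P (χ : G → ℂ) ψ = ((a χ - δ * (if χ = ζ ψ then 1 else 0) : ℤ) : ℂ)
  hd : ∀ ψ, ψ ≠ 1 → a (ζ ψ) = d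
  hnorm : ∑ χ ∈ Finset.univ.filter (fun χ : IrrCharacter G => χ ∈ principalBlock M G),
    a χ ^ 2 - 2 * δ * d = (m : ℤ)

open Classical in
theorem exists_blData (hM : IsPModular p M) [IsMulCommutative P] (hf : FreeAct P) (m : ℕ)
    (hm : Nat.card ↥(normalizer ((P : Subgroup G) : Set G)) =
      m * Nat.card ↥(centralizer ((P : Subgroup G) : Set G)))
    (h2 : ∃ l l' : ↥(P : Subgroup G) →* ℂˣ, l ≠ 1 ∧ l' ≠ 1 ∧ ¬ Rel P l l') :
    Nonempty (BLData P M m) := by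
  obtain ⟨l, l', hl, hl', hll'⟩ := h2
  obtain ⟨δ, d, c, y, hδ, hy, hbc, hcd, hnorm⟩ :=
    bl_struct (M := M) P hM hf m hm ⟨⟨l, hl⟩, ⟨l', hl'⟩, hll'⟩
  refine ⟨{
    δ := δ
    d := d
    a := fun χ => if h : χ ∈ principalBlock M G then c ⟨χ, h⟩ else 0
    ζ := fun ψ => if h : ψ ≠ 1 then (y ⟨ψ, h⟩).1 else Cfsg.Agent.Lib.Helper81.oneIrr G
    hδ := hδ
    hζB := ?_
    hζ := ?_
    hF := ?_
    hd := ?_
    hnorm := ?_ }⟩
  · intro ψ hψ
    rw [dif_pos hψ]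
    exact (y ⟨ψ, hψ⟩).2
  · intro ψ ψ' hψ hψ'
    rw [dif_pos hψ, dif_pos hψ', ← hy ⟨ψ, hψ⟩ ⟨ψ', hψ'⟩]
    exact ⟨fun h => Subtype.ext h, fun h => congrArg Subtype.val h⟩
  · intro χ hχ ψ hψ
    rw [dif_pos hχ, dif_pos hψ]
    have := hbc ⟨ψ, hψ⟩ ⟨χ, hχ⟩
    rw [this]
    congr 3
    by_cases h : (⟨χ, hχ⟩ : PB M G) = y ⟨ψ, hψ⟩
    · rw [if_pos h, if_pos (congrArg Subtype.val h)]
    · rw [if_neg h, if_neg (fun h' => h (Subtype.ext h'))]
  · intro ψ hψ
    rw [dif_pos hψ, dif_pos (y ⟨ψ, hψ⟩).2]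
    exact hcd ⟨ψ, hψ⟩
  · rw [← hnorm]
    congr 1
    rw [Finset.sum_subtype (p := fun χ : IrrCharacter G => χ ∈ principalBlock M G)
      (Finset.univ.filter (fun χ : IrrCharacter G =>
      χ ∈ principalBlock M G)) (fun χ => by simp) (fun χ => (if h : χ ∈ principalBlock M G then
        c ⟨χ, h⟩ else 0) ^ 2)]
    refine Finset.sum_congr rfl fun k _ => ?_
    rw [dif_pos k.2]

end Struct

end Cfsg.Agent.Lib.Helper1.BL
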