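import Cfsg.Agent.Lib.Helper1.BL4

/-!
# Brauer–Leonard: counting and values
-/

set_option autoImplicit false
set_option linter.unusedSectionVars false

universe u

namespace Cfsg.Agent.Lib.Helper1.BL

open Cfsg Subgroup
open scoped ComplexConjugate

section DualCount

variable {W : Type*} [Group W] [Finite W]

theorem finite_dual (hc : ∀ a b : W, a * b = b * a) : Finite (W →* ℂˣ) := by
  let _ : CommGroup W := { ‹Group W› with mul_comm := hc }
  exact Cfsg.Agent.Lib.Helper25.dual_finite W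

theorem card_dual (hc : ∀ a b : W, a * b = b * a) : Nat.card (W →* ℂˣ) = Nat.card W := by
  let _ : CommGroup W := { ‹Group W› with mul_comm := hc }
  have := Cfsg.Agent.Lib.Helper25.hasEnoughRoots W
  exact CommGroup.card_monoidHom_of_hasEnoughRootsOfUnity W ℂ

end DualCount

section Count

variable {G : Type u} [Group G] [Fintype G] {p : ℕ} [Fact p.Prime] (P : Sylow p G)
  [Fintype ↥(P : Subgroup G)] [Fintype ↥(normalizer ((P : Subgroup G) : Set G))]
  [Fintype (↥(P : Subgroup G) →* ℂˣ)]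

theorem twist_eq_iff (x : ↥(normalizer ((P : Subgroup G) : Set G)))
    (l l' : ↥(P : Subgroup G) →* ℂˣ) : twist P x l' = l ↔ l' = twist P x⁻¹ l := by
  constructor
  · intro h
    rw [← h, twist_twist, mul_inv_cancel, twist_one_elt]
  · intro h
    rw [h, twist_twist, inv_mul_cancel, twist_one_elt]

open Classical in
theorem class_card [IsMulCommutative P] (hf : FreeAct P) {l : ↥(P : Subgroup G) →* ℂˣ}
    (hl : l ≠ 1) :
    (Finset.univ.filter (fun l' : ↥(P : Subgroup G) →* ℂˣ => Rel P l l')).card *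
      Nat.card ↥(centralizer ((P : Subgroup G) : Set G)) =
      Nat.card ↥(normalizer ((P : Subgroup G) : Set G)) := by
  have h1 : (((Finset.univ.filter (fun l' : ↥(P : Subgroup G) →* ℂˣ => Rel P l l')).card *
      Nat.card ↥(centralizer ((P : Subgroup G) : Set G)) : ℕ) : ℂ) =
      ((Nat.card ↥(normalizer ((P : Subgroup G) : Set G)) : ℕ) : ℂ) := by
    push_cast
    have e1 : ((Finset.univ.filter (fun l' : ↥(P : Subgroup G) →* ℂˣ => Rel P l l')).card : ℂ) *
        (Nat.card ↥(centralizer ((P : Subgroup G) : Set G)) : ℂ) =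
        ∑ l' : ↥(P : Subgroup G) →* ℂˣ,
          (if Rel P l l' then (Nat.card ↥(centralizer ((P : Subgroup G) : Set G)) : ℂ) else 0) := by
      rw [← Finset.sum_filter, Finset.sum_const, nsmul_eq_mul]
    rw [e1]
    have e2 : ∀ l' : ↥(P : Subgroup G) →* ℂˣ,
        (if Rel P l l' then (Nat.card ↥(centralizer ((P : Subgroup G) : Set G)) : ℂ) else 0) =
        ∑ x : ↥(normalizer ((P : Subgroup G) : Set G)),
          (if twist P x l' = l then (1 : ℂ) else 0) := by
      intro l'
      rw [← count_twist P hf hl, ← Finset.sum_filter, Finset.sum_const, nsmul_eq_mul, mul_one]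
    rw [Finset.sum_congr rfl fun l' _ => e2 l', Finset.sum_comm]
    have e3 : ∀ x : ↥(normalizer ((P : Subgroup G) : Set G)),
        ∑ l' : ↥(P : Subgroup G) →* ℂˣ, (if twist P x l' = l then (1 : ℂ) else 0) = 1 := by
      intro x
      rw [Finset.sum_eq_single (twist P x⁻¹ l)]
      · rw [if_pos ((twist_eq_iff P x l _).mpr rfl)]
      · intro l' _ hne
        rw [if_neg]
        intro h
        exact hne ((twist_eq_iff P x l l').mp h)
      · intro h
        exact absurd (Finset.mem_univ _) h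
    rw [Finset.sum_congr rfl fun x _ => e3 x, Finset.sum_const, nsmul_eq_mul, mul_one,
      Finset.card_univ, Nat.card_eq_fintype_card]
  exact_mod_cast h1

open Classical in
/-- the classes have size `m` -/
theorem class_card' [IsMulCommutative P] (hf : FreeAct P) {m : ℕ}
    (hm : Nat.card ↥(normalizer ((P : Subgroup G) : Set G)) =
      m * Nat.card ↥(centralizer ((P : Subgroup G) : Set G)))
    {l : ↥(P : Subgroup G) →* ℂˣ} (hl : l ≠ 1) :
    (Finset.univ.filter (fun l' : ↥(P : Subgroup G) →* ℂˣ => Rel P l l')).card = m := by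
  have h := class_card P hf hl
  rw [hm] at h
  exact Nat.eq_of_mul_eq_mul_right Nat.card_pos h

open Classical in
theorem card_nt [IsMulCommutative P] :
    (Finset.univ.filter (fun l : ↥(P : Subgroup G) →* ℂˣ => l ≠ 1)).card =
      Nat.card ↥(P : Subgroup G) - 1 := by
  have hc : ∀ a b : ↥(P : Subgroup G), a * b = b * a := fun a b =>
    Subtype.ext (comm_of_mem P a.2 b.2)
  rw [Finset.filter_ne' Finset.univ (1 : ↥(P : Subgroup G) →* ℂˣ),
    Finset.card_erase_of_mem (Finset.mem_univ _), Finset.card_univ, ← Nat.card_eq_fintype_card,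
    card_dual hc]

open Classical in
theorem exists_not_rel [IsMulCommutative P] (hf : FreeAct P) {m : ℕ}
    (hm : Nat.card ↥(normalizer ((P : Subgroup G) : Set G)) =
      m * Nat.card ↥(centralizer ((P : Subgroup G) : Set G)))
    (hm2 : m + 1 < Nat.card ↥(P : Subgroup G))
    {l : ↥(P : Subgroup G) →* ℂˣ} (hl : l ≠ 1) :
    ∃ l' : ↥(P : Subgroup G) →* ℂˣ, l' ≠ 1 ∧ ¬ Rel P l l' := by
  by_contra hcon
  push Not at hcon
  have hsub : Finset.univ.filter (fun l' : ↥(P : Subgroup G) →* ℂˣ => l' ≠ 1) ⊆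
      Finset.univ.filter (fun l' : ↥(P : Subgroup G) →* ℂˣ => Rel P l l') := by
    intro l' hl'
    rw [Finset.mem_filter] at hl' ⊢
    exact ⟨Finset.mem_univ _, hcon l' hl'.2⟩
  have := Finset.card_le_card hsub
  rw [card_nt, class_card' P hf hm hl] at this
  omega

theorem exists_ne_one [IsMulCommutative P] (hP1 : 1 < Nat.card ↥(P : Subgroup G)) :
    ∃ l : ↥(P : Subgroup G) →* ℂˣ, l ≠ 1 := by
  classical
  have h := card_nt P
  have hpos : 0 < (Finset.univ.filter (fun l : ↥(P : Subgroup G) →* ℂˣ => l ≠ 1)).card := by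
    rw [h]; omega
  obtain ⟨l, hl⟩ := Finset.card_pos.mp hpos
  exact ⟨l, (Finset.mem_filter.mp hl).2⟩

end Count

section Vals

variable {G : Type u} [Group G] [Fintype G] {p : ℕ} [Fact p.Prime] (P : Sylow p G)
  [Fintype ↥(P : Subgroup G)] [Fintype ↥(normalizer ((P : Subgroup G) : Set G))]
  [Fintype (IrrCharacter G)] [Fintype (↥(P : Subgroup G) →* ℂˣ)] {M : Ideal AlgInt} {m : ℕ}

open Cfsg.Agent.Lib.Helper81

theorem Fc_one (χ : G → ℂ) : Fc P χ 1 = 0 := by rw [Fc_eq, sub_self]

theorem sum_dual_ne_one [IsMulCommutative P] {u : ↥(P : Subgroup G)} (hu : u ≠ 1) :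
    ∑ l : ↥(P : Subgroup G) →* ℂˣ, ((l u : ℂˣ) : ℂ) = 0 := by
  classical
  have hc : ∀ a b : ↥(P : Subgroup G), a * b = b * a := fun a b =>
    Subtype.ext (comm_of_mem P a.2 b.2)
  rw [sum_dual_apply hc, if_neg hu]

open Classical in
/-- values of the members of the principal block on `P \ 1` -/
theorem value_P [IsMulCommutative P] (D : BLData P M m) {χ : IrrCharacter G}
    (hχ : χ ∈ principalBlock M G) {u : ↥(P : Subgroup G)} (hu : u ≠ 1) :
    (χ : G → ℂ) (u : G) = (D.a χ : ℂ) + (D.δ : ℂ) *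
      ∑ l ∈ Finset.univ.filter (fun l : ↥(P : Subgroup G) →* ℂˣ => l ≠ 1 ∧ D.ζ l = χ),
        ((l u : ℂˣ) : ℂ) := by
  rw [char_eq_sum_mlt P (χ : G → ℂ) u]
  have h1 : ∀ l : ↥(P : Subgroup G) →* ℂˣ, mlt P (χ : G → ℂ) l * ((l u : ℂˣ) : ℂ) =
      mlt P (χ : G → ℂ) 1 * ((l u : ℂˣ) : ℂ) - ((D.a χ : ℂ) * ((l u : ℂˣ) : ℂ) -
        (if l = 1 then (D.a χ : ℂ) else 0) -
        (D.δ : ℂ) * (if l ≠ 1 ∧ D.ζ l = χ then ((l u : ℂˣ) : ℂ) else 0)) := by
    intro l
    have hF : mlt P (χ : G → ℂ) l = mlt P (χ : G → ℂ) 1 - Fc P (χ : G → ℂ) l := by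
      rw [Fc_eq]; ring
    rw [hF]
    by_cases hl : l = 1
    · subst hl
      rw [Fc_one, if_pos rfl, if_neg (fun h => h.1 rfl)]
      simp
    · rw [D.hF χ hχ l hl, if_neg hl]
      by_cases hz : D.ζ l = χ
      · have e1 : (if χ = D.ζ l then (1 : ℤ) else 0) = 1 := if_pos hz.symm
        have e2 : (if l ≠ 1 ∧ D.ζ l = χ then ((l u : ℂˣ) : ℂ) else 0) = ((l u : ℂˣ) : ℂ) :=
          if_pos ⟨hl, hz⟩
        rw [e1, e2]
        push_cast
        ring
      · have e1 : (if χ = D.ζ l then (1 : ℤ) else 0) = 0 := if_neg (fun h => hz h.symm)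
        have e2 : (if l ≠ 1 ∧ D.ζ l = χ then ((l u : ℂˣ) : ℂ) else 0) = 0 :=
          if_neg (fun h => hz h.2)
        rw [e1, e2]
        push_cast
        ring
  rw [Finset.sum_congr rfl fun l _ => h1 l, Finset.sum_sub_distrib, Finset.sum_sub_distrib,
    Finset.sum_sub_distrib, ← Finset.mul_sum, ← Finset.mul_sum, ← Finset.mul_sum,
    sum_dual_ne_one P hu, Finset.sum_ite_eq' Finset.univ (1 : ↥(P : Subgroup G) →* ℂˣ),
    if_pos (Finset.mem_univ _), ← Finset.sum_filter]
  ring

/-- a member of the principal block is constant on the `p`-section of a nontrivial element of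
`P` -/
theorem value_Z [IsMulCommutative P] (hM : IsPModular p M) (hf : FreeAct P) {χ : IrrCharacter G}
    (hχ : χ ∈ principalBlock M G) {z y : G} (hzy : IsPPart p z y) (hy : y ∈ (P : Subgroup G))
    (hy1 : y ≠ 1) : (χ : G → ℂ) z = (χ : G → ℂ) y := by
  obtain ⟨w, hw, hcomm, hk, hreg⟩ := hzy
  have hwc : w ∈ centralizer ({y} : Set G) := by
    rw [mem_centralizer_singleton_iff]
    exact hcomm.eq.symm
  have h := value_section hM hk (pnilp P hf hy hy1) χ hχ ⟨w, hwc⟩
    (by rwa [Subgroup.orderOf_mk])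
  rw [← hw]
  exact h

theorem apply_ne_zero [IsMulCommutative P] (hM : IsPModular p M) {χ : IrrCharacter G}
    (hχ : χ ∈ principalBlock M G) {u : G} (hu : u ∈ (P : Subgroup G)) :
    (χ : G → ℂ) u ≠ 0 := by
  intro h0
  have h1 := (mem_principalBlock_iff (M := M) χ).mp hχ u
  have h2 : centralChar (χ : G → ℂ) u = 0 := by
    unfold centralChar
    rw [h0, mul_zero, zero_div]
  rw [h2, sub_zero, memLocalIdeal_natCast_iff hM] at h1
  have hle := le_centralizer_singleton P hu
  exact P.not_dvd_index (dvd_trans h1 (Subgroup.index_dvd_of_le hle))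

theorem Fc_const_one {l : ↥(P : Subgroup G) →* ℂˣ} (hl : l ≠ 1) :
    Fc P (fun _ : G => (1 : ℂ)) l = 1 := by
  unfold Fc
  rw [Cfsg.Agent.Lib.Helper77.colCoeff_eq]
  simp only [one_mul]
  rw [Finset.sum_sub_distrib, sum_hom_apply, if_neg hl, sub_zero, Finset.sum_const,
    Finset.card_univ, nsmul_eq_mul, mul_one, Nat.card_eq_fintype_card]
  have : (Fintype.card ↥(P : Subgroup G) : ℂ) ≠ 0 := by
    exact_mod_cast Fintype.card_ne_zero
  field_simp

theorem zeta_ne_one [IsMulCommutative P] (hM : IsPModular p M) (hf : FreeAct P)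
    (hm : Nat.card ↥(normalizer ((P : Subgroup G) : Set G)) =
      m * Nat.card ↥(centralizer ((P : Subgroup G) : Set G)))
    (hm2 : m + 1 < Nat.card ↥(P : Subgroup G)) (D : BLData P M m)
    {l0 : ↥(P : Subgroup G) →* ℂˣ} (hl0 : l0 ≠ 1) : D.ζ l0 ≠ oneIrr G := by
  classical
  intro h
  obtain ⟨l, hl, hrel⟩ := exists_not_rel P hf hm hm2 hl0
  have hB : oneIrr G ∈ principalBlock M G :=
    oneIrr_mem_principalBlock (isPrime_of_isPModular hM)
  have e1 := D.hF (oneIrr G) hB l0 hl0
  have e2 := D.hF (oneIrr G) hB l hl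
  rw [show ((oneIrr G : IrrCharacter G) : G → ℂ) = fun _ => 1 from rfl, Fc_const_one P hl0,
    if_pos h.symm] at e1
  rw [show ((oneIrr G : IrrCharacter G) : G → ℂ) = fun _ => 1 from rfl, Fc_const_one P hl,
    if_neg (fun h' => hrel ((D.hζ l0 l hl0 hl).mp (h.trans h')))] at e2
  have e1' : (1 : ℤ) = D.a (oneIrr G) - D.δ * 1 := by exact_mod_cast e1
  have e2' : (1 : ℤ) = D.a (oneIrr G) - D.δ * 0 := by exact_mod_cast e2
  rcases D.hδ with h | h <;> omega

open Classical in
/-- the relation on `p`-regular elements -/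
theorem preg_rel [IsMulCommutative P] (hM : IsPModular p M) (D : BLData P M m)
    {l : ↥(P : Subgroup G) →* ℂˣ} (hl : l ≠ 1) {g : G} (hg : ¬ p ∣ orderOf g) :
    ∑ χ ∈ Finset.univ.filter (fun χ : IrrCharacter G => χ ∈ principalBlock M G),
      (D.a χ : ℂ) * conj ((χ : G → ℂ) g) = (D.δ : ℂ) * conj ((D.ζ l : G → ℂ) g) := by
  have hx : IsPPart p g 1 :=
    ⟨g, one_mul g, Commute.one_left g, ⟨0, by rw [orderOf_one, pow_zero]⟩, hg⟩
  have h0 := Cfsg.Agent.Lib.Helper77.sum_colCoeff_mul_conj_eq_zero hM (P : Subgroup G) P.2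
    {y : G | y ≠ 1} (fun y : ↥(P : Subgroup G) => 1 - ((l y : ℂˣ) : ℂ))
    (by
      intro y hy
      have hy1 : y = 1 := by
        by_contra hne
        exact hy (fun h => hne (Subtype.ext h))
      rw [hy1, map_one, Units.val_one, sub_self]) hx
    (by
      intro v hv hc
      rw [isConj_one_left] at hc
      exact hv (inv_eq_one.mp hc))
  have h1 : ∀ χ ∈ Finset.univ.filter (fun χ : IrrCharacter G => χ ∈ principalBlock M G),
      Cfsg.Agent.Lib.Helper77.colCoeff (P : Subgroup G)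
        (fun y : ↥(P : Subgroup G) => 1 - ((l y : ℂˣ) : ℂ)) (χ : G → ℂ) *
        conj ((χ : G → ℂ) g) =
      (D.a χ : ℂ) * conj ((χ : G → ℂ) g) -
        (if χ = D.ζ l then (D.δ : ℂ) * conj ((χ : G → ℂ) g) else 0) := by
    intro χ hχ
    have hχ' := (Finset.mem_filter.mp hχ).2
    have := D.hF χ hχ' l hl
    unfold Fc at this
    rw [this]
    by_cases hz : χ = D.ζ l
    · rw [if_pos hz, if_pos hz]; push_cast; ring
    · rw [if_neg hz, if_neg hz]; push_cast; ring
  rw [Finset.sum_congr rfl h1, Finset.sum_sub_distrib, Finset.sum_ite_eq', if_pos] at h0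
  · linear_combination h0
  · rw [Finset.mem_filter]
    exact ⟨Finset.mem_univ _, D.hζB l hl⟩

end Vals

end Cfsg.Agent.Lib.Helper1.BL
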