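import Cfsg.Agent.Lib.Helper1.BL5

/-!
# Brauer–Leonard: the sets `X` and `Y`
-/

set_option autoImplicit false
set_option linter.unusedSectionVars false

universe u

namespace Cfsg.Agent.Lib.Helper1.BL

open Cfsg Subgroup
open scoped ComplexConjugate

section XY

variable {G : Type u} [Group G] [Fintype G] {p : ℕ} [Fact p.Prime] (P : Sylow p G)
  [Fintype ↥(P : Subgroup G)] [Fintype ↥(normalizer ((P : Subgroup G) : Set G))]
  [Fintype (IrrCharacter G)] [Fintype (↥(P : Subgroup G) →* ℂˣ)] {M : Ideal AlgInt} {m : ℕ}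

open Cfsg.Agent.Lib.Helper81

/-- the exceptional characters -/
def Yset (D : BLData P M m) : Set (IrrCharacter G) :=
  {η | ∃ ψ : ↥(P : Subgroup G) →* ℂˣ, ψ ≠ 1 ∧ D.ζ ψ = η}

/-- the non-exceptional characters -/
def Xset (D : BLData P M m) : Set (IrrCharacter G) := principalBlock M G \ Yset P D

theorem Yset_sub (D : BLData P M m) : Yset P D ⊆ principalBlock M G := by
  rintro η ⟨ψ, hψ, rfl⟩
  exact D.hζB ψ hψ

theorem block_eq (D : BLData P M m) : principalBlock M G = Xset P D ∪ Yset P D := by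
  unfold Xset
  rw [Set.sdiff_union_self, Set.union_eq_left.mpr (Yset_sub P D)]

theorem disjoint_XY (D : BLData P M m) : Disjoint (Xset P D) (Yset P D) :=
  Set.disjoint_sdiff_left

theorem a_Y (D : BLData P M m) {η : IrrCharacter G} (hη : η ∈ Yset P D) : D.a η = D.d := by
  obtain ⟨ψ, hψ, rfl⟩ := hη
  exact D.hd ψ hψ

open Classical in
theorem fiber_eq (D : BLData P M m) {ψ : ↥(P : Subgroup G) →* ℂˣ} (hψ : ψ ≠ 1) :
    Finset.univ.filter (fun l : ↥(P : Subgroup G) →* ℂˣ => l ≠ 1 ∧ D.ζ l = D.ζ ψ) =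
      Finset.univ.filter (fun l : ↥(P : Subgroup G) →* ℂˣ => Rel P ψ l) := by
  ext l
  simp only [Finset.mem_filter, Finset.mem_univ, true_and]
  constructor
  · rintro ⟨hl, h⟩
    exact rel_symm P ((D.hζ l ψ hl hψ).mp h)
  · intro h
    have hl : l ≠ 1 := by
      rintro rfl
      exact hψ ((rel_one_iff P ψ).mp h)
    exact ⟨hl, (D.hζ l ψ hl hψ).mpr (rel_symm P h)⟩

open Classical in
theorem card_Yset [IsMulCommutative P] (hf : FreeAct P)
    (hm : Nat.card ↥(normalizer ((P : Subgroup G) : Set G)) =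
      m * Nat.card ↥(centralizer ((P : Subgroup G) : Set G))) (D : BLData P M m) :
    (Finset.univ.filter (fun η : IrrCharacter G => η ∈ Yset P D)).card * m =
      Nat.card ↥(P : Subgroup G) - 1 := by
  rw [← card_nt P]
  rw [Finset.card_eq_sum_card_fiberwise (f := D.ζ)
    (s := Finset.univ.filter (fun l : ↥(P : Subgroup G) →* ℂˣ => l ≠ 1))
    (t := Finset.univ.filter (fun η : IrrCharacter G => η ∈ Yset P D))]
  · rw [Finset.sum_const_nat]
    intro η hη
    obtain ⟨ψ, hψ, rfl⟩ := (Finset.mem_filter.mp hη).2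
    rw [Finset.filter_filter, fiber_eq P D hψ]
    exact class_card' P hf hm hψ
  · intro l hl
    have hl' := (Finset.mem_filter.mp hl).2
    simp only [Finset.coe_filter, Finset.mem_univ, true_and, Set.mem_ofPred_eq]
    exact ⟨l, hl', rfl⟩

open Classical in
theorem sum_split {A : Type*} [AddCommMonoid A] (D : BLData P M m) (f : IrrCharacter G → A) :
    ∑ χ ∈ Finset.univ.filter (fun χ : IrrCharacter G => χ ∈ principalBlock M G), f χ =
      ∑ χ ∈ Finset.univ.filter (fun χ : IrrCharacter G => χ ∈ Xset P D), f χ +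
      ∑ χ ∈ Finset.univ.filter (fun χ : IrrCharacter G => χ ∈ Yset P D), f χ := by
  rw [← Finset.sum_union]
  · congr 1
    ext χ
    simp only [Finset.mem_filter, Finset.mem_univ, true_and, Finset.mem_union]
    rw [block_eq P D]
    rfl
  · rw [Finset.disjoint_filter]
    intro χ _ hX hY
    exact (Set.disjoint_left.mp (disjoint_XY P D)) hX hY

open Classical in
theorem norm_eq (D : BLData P M m) :
    ∑ χ ∈ Finset.univ.filter (fun χ : IrrCharacter G => χ ∈ Xset P D), D.a χ ^ 2 +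
      ((Finset.univ.filter (fun η : IrrCharacter G => η ∈ Yset P D)).card : ℤ) * D.d ^ 2 -
      2 * D.δ * D.d = (m : ℤ) := by
  have h := D.hnorm
  rw [sum_split P D] at h
  have h2 : ∑ χ ∈ Finset.univ.filter (fun χ : IrrCharacter G => χ ∈ Yset P D), D.a χ ^ 2 =
      ((Finset.univ.filter (fun η : IrrCharacter G => η ∈ Yset P D)).card : ℤ) * D.d ^ 2 := by
    rw [Finset.sum_congr rfl fun χ hχ => by rw [a_Y P D (Finset.mem_filter.mp hχ).2],
      Finset.sum_const, nsmul_eq_mul]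
  rw [h2] at h
  exact h

open Classical in
theorem X_value [IsMulCommutative P] (D : BLData P M m) {χ : IrrCharacter G}
    (hχ : χ ∈ Xset P D) {u : ↥(P : Subgroup G)} (hu : u ≠ 1) :
    (χ : G → ℂ) (u : G) = (D.a χ : ℂ) := by
  rw [value_P P D hχ.1 hu, Finset.filter_false_of_mem, Finset.sum_empty, mul_zero, add_zero]
  intro l _ h
  exact hχ.2 ⟨l, h.1, h.2⟩

theorem exists_ne_one_elt (hP1 : Nat.card ↥(P : Subgroup G) ≠ 1) :
    ∃ u : ↥(P : Subgroup G), u ≠ 1 := by
  by_contra hcon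
  push Not at hcon
  apply hP1
  have : Subsingleton ↥(P : Subgroup G) := ⟨fun a b => by rw [hcon a, hcon b]⟩
  exact Nat.card_of_subsingleton 1

theorem X_a_ne [IsMulCommutative P] (hM : IsPModular p M)
    (hP1 : Nat.card ↥(P : Subgroup G) ≠ 1) (D : BLData P M m) {χ : IrrCharacter G}
    (hχ : χ ∈ Xset P D) : D.a χ ≠ 0 := by
  obtain ⟨u, hu⟩ := exists_ne_one_elt P hP1
  intro h0
  have h1 := X_value P D hχ hu
  rw [h0, Int.cast_zero] at h1
  exact apply_ne_zero P hM hχ.1 u.2 h1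

open Classical in
theorem Y_value [IsMulCommutative P] (D : BLData P M m) {ψ : ↥(P : Subgroup G) →* ℂˣ}
    (hψ : ψ ≠ 1) {u : ↥(P : Subgroup G)} (hu : u ≠ 1) :
    (D.ζ ψ : G → ℂ) (u : G) = (D.d : ℂ) + (D.δ : ℂ) *
      ∑ l ∈ Finset.univ.filter (fun l : ↥(P : Subgroup G) →* ℂˣ => Rel P ψ l),
        ((l u : ℂˣ) : ℂ) := by
  rw [value_P P D (D.hζB ψ hψ) hu, fiber_eq P D hψ, D.hd ψ hψ]

theorem delta_ne (D : BLData P M m) : (D.δ : ℂ) ≠ 0 := by
  rcases D.hδ with h | h <;> rw [h] <;> norm_num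

theorem preg_Y_eq [IsMulCommutative P] (hM : IsPModular p M) (D : BLData P M m)
    {η η' : IrrCharacter G} (hη : η ∈ Yset P D) (hη' : η' ∈ Yset P D) {g : G}
    (hg : ¬ p ∣ orderOf g) : (η : G → ℂ) g = (η' : G → ℂ) g := by
  classical
  obtain ⟨ψ, hψ, rfl⟩ := hη
  obtain ⟨ψ', hψ', rfl⟩ := hη'
  have h1 := preg_rel P hM D hψ hg
  have h2 := preg_rel P hM D hψ' hg
  rw [h1] at h2
  have h3 := mul_left_cancel₀ (delta_ne P D) h2
  exact (starRingEnd ℂ).injective h3

open Classical in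
theorem preg_sum [IsMulCommutative P] (hM : IsPModular p M) (D : BLData P M m)
    {η : IrrCharacter G} (hη : η ∈ Yset P D) {g : G} (hg : ¬ p ∣ orderOf g) :
    ((((Finset.univ.filter (fun η : IrrCharacter G => η ∈ Yset P D)).card : ℕ) : ℂ) * D.d - D.δ) *
      (η : G → ℂ) g +
      ∑ χ ∈ Finset.univ.filter (fun χ : IrrCharacter G => χ ∈ Xset P D),
        (D.a χ : ℂ) * (χ : G → ℂ) g = 0 := by
  obtain ⟨ψ, hψ, hη0⟩ := id hη
  have h1 := preg_rel P hM D hψ hg
  rw [sum_split P D, hη0] at h1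
  have h2 : ∑ χ ∈ Finset.univ.filter (fun χ : IrrCharacter G => χ ∈ Yset P D),
      (D.a χ : ℂ) * conj ((χ : G → ℂ) g) =
      (((Finset.univ.filter (fun η : IrrCharacter G => η ∈ Yset P D)).card : ℕ) : ℂ) *
        ((D.d : ℂ) * conj ((η : G → ℂ) g)) := by
    rw [Finset.sum_congr rfl fun χ hχ => by
      rw [a_Y P D (Finset.mem_filter.mp hχ).2,
        preg_Y_eq P hM D (Finset.mem_filter.mp hχ).2 hη hg], Finset.sum_const, nsmul_eq_mul]
  rw [h2] at h1
  have h3 := congrArg conj h1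
  simp only [map_add, map_sum, map_mul, Complex.conj_conj, map_intCast, map_natCast] at h3
  linear_combination h3

end XY

end Cfsg.Agent.Lib.Helper1.BL
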