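import Cfsg.Agent.Lib.Helper1.C2gMechF

/-! # S2405 (helper67's C2g hive), type `F₄` (helper1): `g₁ = h_6(k) x_0(1) x_9(1)`, `g₂ =` Coxeter lift, all finite fields

Roots: `a = 0` (long), `b = 9` (short), `d = 6`; `w 0 = 15`, `w 9 = 19`, `w 6 = 2`; `[x_9, x_19] = x_7(±1)`.
The certificates are python-generated (closure under the Coxeter element and commutators with one unknown term). -/

set_option autoImplicit false

namespace Cfsg.Agent.Lib.Helper67.C2g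

open Cfsg Cfsg.Lie Cfsg.Agent.Lib.Helper36 Cfsg.Agent.Lib.Helper40.C2g

def f4g_steps1 : List (ℕ × ℕ × ℕ × ℕ) :=
  [(0, 7, 0, 0), (0, 8, 0, 0), (0, 18, 0, 0), (0, 34, 0, 0), (0, 37, 0, 0), (1, 44, 7, 33),
   (0, 33, 0, 0), (0, 44, 0, 0), (0, 40, 0, 0), (0, 27, 0, 0), (1, 39, 7, 20), (0, 20, 0, 0),
   (0, 35, 0, 0), (0, 39, 0, 0), (1, 29, 33, 36), (0, 36, 0, 0), (0, 29, 0, 0), (0, 38, 0, 0),
   (0, 12, 0, 0)]

def f4g_steps2 : List (ℕ × ℕ × ℕ × ℕ) :=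
  [(0, 0, 0, 0), (0, 7, 0, 0), (0, 8, 0, 0), (0, 15, 0, 0), (0, 21, 0, 0), (0, 18, 0, 0),
   (0, 34, 0, 0), (0, 41, 0, 0), (0, 45, 0, 0), (0, 37, 0, 0), (1, 44, 7, 33), (0, 33, 0, 0),
   (0, 44, 0, 0), (0, 46, 0, 0), (1, 47, 15, 42), (0, 42, 0, 0), (0, 47, 0, 0), (0, 40, 0, 0),
   (0, 27, 0, 0), (1, 39, 15, 43), (0, 43, 0, 0), (0, 35, 0, 0), (0, 39, 0, 0), (0, 32, 0, 0),
   (1, 26, 34, 36), (0, 36, 0, 0), (0, 26, 0, 0), (0, 29, 0, 0), (0, 38, 0, 0), (0, 31, 0, 0),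
   (1, 25, 21, 23), (0, 25, 0, 0), (0, 13, 0, 0), (0, 6, 0, 0), (0, 14, 0, 0), (1, 20, 21, 16),
   (0, 16, 0, 0), (0, 20, 0, 0), (0, 2, 0, 0), (0, 10, 0, 0), (0, 24, 0, 0), (1, 5, 22, 4),
   (0, 5, 0, 0), (0, 12, 0, 0), (1, 9, 27, 11), (0, 9, 0, 0)]

set_option maxRecDepth 100000 in
theorem f4g_cert1 : (runCert chevF4 [7] f4g_steps1).contains 9 = true := by decide +kernel

set_option maxRecDepth 100000 in
theorem f4g_cert2 : certOK chevF4 [0, 7] f4g_steps2 = true := by decide +kernel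

theorem f4g_hF4 : chevF4 ∈ [chevG2, chevB2, chevD4, chevF4, chevE6, chevE7, chevE8] := by simp

set_option maxRecDepth 100000 in
theorem f4g_cox : coxRoot chevF4 0 = 15 ∧ coxRoot chevF4 9 = 19 ∧ coxRoot chevF4 6 = 2 := by decide +kernel

set_option maxRecDepth 100000 in
theorem two_gen_F4 (F : Type*) [Field F] [Finite F] :
    ∃ x y : ↥(chevF4.group F), Subgroup.closure ({x, y} : Set ↥(chevF4.group F)) = ⊤ := by
  obtain ⟨h0, h9, h6⟩ := f4g_cox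
  refine f4g_mech chevF4 f4g_hF4 F 0 9 7 6 (-1) (by decide) (by decide) (by decide) (by decide)
    (by decide +kernel) (by decide +kernel)
    (by decide) (by decide +kernel) (by decide +kernel)
    ?_ ?_ ?_ ?_ ?_ ?_ ?_ ?_ ?_ ?_ ?_ ?_ (Or.inr rfl) ?_ ?_ f4g_steps1 f4g_cert1 f4g_steps2 f4g_cert2
  all_goals (first | rw [h0] | rw [h9] | rw [h6])
  all_goals decide +kernel

end Cfsg.Agent.Lib.Helper67.C2g
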