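import Cfsg.Agent.Lib.Helper75.C2gGen

/-! # S2405 (helper67's C2g hive), mechanism F (helper1): `g₁ = h_d(k) x_a(1) x_b(1)`, `g₂ =` Coxeter lift

`a`, `b` commuting roots centralised by `h_d(k)`; with `a' = w a`, `b' = w b` (`w` the Coxeter element) the pairs `(a, a')`,
`(a, b')`, `(b, a')` commute and `[x_b, x_{b'}]` is a single root element `x_c(±1)`.  Then `g₁^q = h`, `u = x_a(1) x_b(1)`,
`v = n u n⁻¹`, `(u v)⁻¹ v u = x_c(±1)`; fill `X_c` by the torus, a certificate from `[c]` reaches `b`, so `x_a(1) ∈ K₀`, fill `X_a`,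
and a certificate from `[a, c]` reaches every root. -/

set_option autoImplicit false

namespace Cfsg.Agent.Lib.Helper67.C2g

open Cfsg Cfsg.Lie Cfsg.Agent.Lib.Helper36 Cfsg.Agent.Lib.Helper40.C2g

section main
variable (D : ChevalleyDatum) (hD : D ∈ [chevG2, chevB2, chevD4, chevF4, chevE6, chevE7, chevE8])
  (F : Type*) [Field F]

/-- `(h_d(k) x_a(1) x_b(1))^q = h_d(k)` when `h_d(k)` centralises `X_a`, `X_b` and `x_a(1)`, `x_b(1)` commute -/
theorem f4g_pow_card [Fintype F] (a b d : ℕ) (ha : a < D.nroots) (hb : b < D.nroots) (hd : d < D.nroots) (k : F)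
    (hk : k ≠ 0) (hgca : gc D d a = 0) (hgcb : gc D d b = 0)
    (hab : Commute (xGL D hD F a 1) (xGL D hD F b 1)) :
    (hGL D hD F d k * xGL D hD F a 1 * xGL D hD F b 1) ^ Fintype.card F = hGL D hD F d k := by
  have hcb : Commute (hGL D hD F d k) (xGL D hD F b 1) := by
    have := hGL_conj_xGL D hD F d b hd hb k hk 1
    rw [hgcb, zpow_zero, one_mul, mul_inv_eq_iff_eq_mul] at this
    exact this
  have h1 : Commute (hGL D hD F d k * xGL D hD F a 1) (xGL D hD F b 1) := hcb.mul_left hab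
  rw [h1.mul_pow, pow_card_hx D hD F a d ha hd k hk hgca, xGL_pow', FiniteField.cast_card_eq_zero, zero_mul,
    xGL_zero', mul_one]

/-- the commutator formula with a single term `(c, e, 1, 1)` -/
theorem f4g_comm_single (r s c : ℕ) (e : ℤ) (hr : r < D.nroots) (hs : s < D.nroots) (hne1 : s ≠ r)
    (hne2 : s ≠ D.neg r) (hterms : D.commTerms r s = [(c, e, 1, 1)]) (t u : F) :
    xGL D hD F s u * xGL D hD F r t = xGL D hD F r t * xGL D hD F s u * xGL D hD F c ((e : F) * (-t) * u) := by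
  have hcf := Cfsg.Agent.S1025.result (F := F) D hD r s hr hs hne1 hne2 t u
  have hw : D.wordMat F (D.commWord F r s t u) = D.x F c ((e : F) * (-t) * u) := by
    unfold ChevalleyDatum.commWord ChevalleyDatum.wordMat
    rw [hterms]
    simp
  rw [hw] at hcf
  apply Units.ext
  simp only [Units.val_mul, xGL_coe]
  exact hcf

include hD in
/-- mechanism F -/
theorem f4g_mech [Finite F] (a b c d : ℕ) (e : ℤ) (ha : a < D.nroots) (hb : b < D.nroots) (hc : c < D.nroots)
    (hd : d < D.nroots) (hgca : gc D d a = 0) (hgcb : gc D d b = 0)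
    (hab1 : b ≠ a) (hab2 : b ≠ D.neg a) (hab : D.commTerms a b = [])
    (haa1 : coxRoot D a ≠ a) (haa2 : coxRoot D a ≠ D.neg a) (haa : D.commTerms a (coxRoot D a) = [])
    (hab'1 : coxRoot D b ≠ a) (hab'2 : coxRoot D b ≠ D.neg a) (hab' : D.commTerms a (coxRoot D b) = [])
    (hba1 : coxRoot D a ≠ b) (hba2 : coxRoot D a ≠ D.neg b) (hba : D.commTerms b (coxRoot D a) = [])
    (hbb1 : coxRoot D b ≠ b) (hbb2 : coxRoot D b ≠ D.neg b)
    (hbb : D.commTerms b (coxRoot D b) = [(c, e, 1, 1)]) (he : e = 1 ∨ e = -1)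
    (hfc : gc D (coxRoot D d) c = 1 ∨ gc D (coxRoot D d) c = -1)
    (hfa : gc D (coxRoot D d) a = 1 ∨ gc D (coxRoot D d) a = -1)
    (steps1 : List (ℕ × ℕ × ℕ × ℕ)) (hcert1 : (runCert D [c] steps1).contains b = true)
    (steps2 : List (ℕ × ℕ × ℕ × ℕ)) (hcert2 : certOK D [a, c] steps2 = true) :
    ∃ x y : ↥(D.group F), Subgroup.closure ({x, y} : Set ↥(D.group F)) = ⊤ := by
  have : Fintype F := Fintype.ofFinite F
  obtain ⟨k, hk, hgen⟩ := exists_field_generator F
  set g1 : GL D.Idx F := hGL D hD F d k * xGL D hD F a 1 * xGL D hD F b 1 with hg1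
  set g2 : GL D.Idx F := coxN D hD F with hg2
  set K0 : Subgroup (GL D.Idx F) := Subgroup.closure {g1, g2} with hK0
  have hg1K : g1 ∈ K0 := Subgroup.subset_closure (by simp)
  have hg2K : g2 ∈ K0 := Subgroup.subset_closure (by simp)
  have ha' : coxRoot D a < D.nroots := coxRoot_lt D hD a ha
  have hb' : coxRoot D b < D.nroots := coxRoot_lt D hD b hb
  have cab := xGL_comm_of_nil D hD F a b ha hb hab1 hab2 hab
  have c1 := xGL_comm_of_nil D hD F a (coxRoot D a) ha ha' haa1 haa2 haa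
  have c2 := xGL_comm_of_nil D hD F a (coxRoot D b) ha hb' hab'1 hab'2 hab'
  have c3 := xGL_comm_of_nil D hD F b (coxRoot D a) hb ha' hba1 hba2 hba
  have c4 := f4g_comm_single D hD F b (coxRoot D b) c e hb hb' hbb1 hbb2 hbb
  -- the torus element
  have hh : hGL D hD F d k ∈ K0 := by
    rw [← f4g_pow_card D hD F a b d ha hb hd k hk hgca hgcb (cab 1 1).symm]
    exact pow_mem hg1K _
  -- `u = x_a(1) x_b(1)`
  have hU : xGL D hD F a 1 * xGL D hD F b 1 ∈ K0 := by
    have : xGL D hD F a 1 * xGL D hD F b 1 = (hGL D hD F d k)⁻¹ * g1 := by rw [hg1]; group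
    rw [this]
    exact mul_mem (inv_mem hh) hg1K
  -- `v = n u n⁻¹`
  obtain ⟨e1, -, hconj1⟩ := xGL_nList_elem D hD F (List.range D.rank) (fun _ hi => List.mem_range.1 hi) a ha
  obtain ⟨e2, he2, hconj2⟩ := xGL_nList_elem D hD F (List.range D.rank) (fun _ hi => List.mem_range.1 hi) b hb
  have hV : xGL D hD F (coxRoot D a) (e1 * 1) * xGL D hD F (coxRoot D b) (e2 * 1) ∈ K0 := by
    have h1 : xGL D hD F (coxRoot D a) (e1 * 1) = g2 * xGL D hD F a 1 * g2⁻¹ := (hconj1 1).symm
    have h2 : xGL D hD F (coxRoot D b) (e2 * 1) = g2 * xGL D hD F b 1 * g2⁻¹ := (hconj2 1).symm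
    have : xGL D hD F (coxRoot D a) (e1 * 1) * xGL D hD F (coxRoot D b) (e2 * 1) =
        g2 * (xGL D hD F a 1 * xGL D hD F b 1) * g2⁻¹ := by
      rw [h1, h2]; group
    rw [this]
    exact mul_mem (mul_mem hg2K hU) (inv_mem hg2K)
  -- `v u = u v x_c(±1)`
  have key : (xGL D hD F (coxRoot D a) (e1 * 1) * xGL D hD F (coxRoot D b) (e2 * 1)) *
      (xGL D hD F a 1 * xGL D hD F b 1) =
      (xGL D hD F a 1 * xGL D hD F b 1) *
        (xGL D hD F (coxRoot D a) (e1 * 1) * xGL D hD F (coxRoot D b) (e2 * 1)) *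
        xGL D hD F c ((e : F) * (-1) * (e2 * 1)) := by
    calc (xGL D hD F (coxRoot D a) (e1 * 1) * xGL D hD F (coxRoot D b) (e2 * 1)) *
          (xGL D hD F a 1 * xGL D hD F b 1)
        = xGL D hD F (coxRoot D a) (e1 * 1) * (xGL D hD F (coxRoot D b) (e2 * 1) * xGL D hD F a 1) *
            xGL D hD F b 1 := by group
      _ = xGL D hD F (coxRoot D a) (e1 * 1) * (xGL D hD F a 1 * xGL D hD F (coxRoot D b) (e2 * 1)) *
            xGL D hD F b 1 := by rw [c2]
      _ = (xGL D hD F (coxRoot D a) (e1 * 1) * xGL D hD F a 1) *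
            (xGL D hD F (coxRoot D b) (e2 * 1) * xGL D hD F b 1) := by group
      _ = (xGL D hD F a 1 * xGL D hD F (coxRoot D a) (e1 * 1)) *
            (xGL D hD F b 1 * xGL D hD F (coxRoot D b) (e2 * 1) * xGL D hD F c ((e : F) * (-1) * (e2 * 1))) := by
          rw [c1, c4]
      _ = xGL D hD F a 1 * (xGL D hD F (coxRoot D a) (e1 * 1) * xGL D hD F b 1) *
            xGL D hD F (coxRoot D b) (e2 * 1) * xGL D hD F c ((e : F) * (-1) * (e2 * 1)) := by group
      _ = xGL D hD F a 1 * (xGL D hD F b 1 * xGL D hD F (coxRoot D a) (e1 * 1)) *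
            xGL D hD F (coxRoot D b) (e2 * 1) * xGL D hD F c ((e : F) * (-1) * (e2 * 1)) := by rw [c3]
      _ = _ := by group
  have hxc : xGL D hD F c ((e : F) * (-1) * (e2 * 1)) ∈ K0 := by
    have : xGL D hD F c ((e : F) * (-1) * (e2 * 1)) =
        ((xGL D hD F a 1 * xGL D hD F b 1) *
          (xGL D hD F (coxRoot D a) (e1 * 1) * xGL D hD F (coxRoot D b) (e2 * 1)))⁻¹ *
        ((xGL D hD F (coxRoot D a) (e1 * 1) * xGL D hD F (coxRoot D b) (e2 * 1)) *
          (xGL D hD F a 1 * xGL D hD F b 1)) := by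
      rw [key]; group
    rw [this]
    exact mul_mem (inv_mem (mul_mem hU hV)) (mul_mem hV hU)
  have hpm : (e : F) * (-1) * (e2 * 1) = 1 ∨ (e : F) * (-1) * (e2 * 1) = -1 := by
    rcases he with rfl | rfl <;> rcases he2 with rfl | rfl <;> simp
  have hxc1 : xGL D hD F c 1 ∈ K0 := by
    rcases hpm with h | h
    · rwa [h] at hxc
    · rw [h] at hxc
      have : xGL D hD F c 1 = (xGL D hD F c (-1))⁻¹ := by rw [xGL_inv', neg_neg]
      rw [this]
      exact inv_mem hxc
  have hd' : coxRoot D d < D.nroots := coxRoot_lt D hD d hd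
  have hh' : hGL D hD F (coxRoot D d) k ∈ K0 := hGL_cox_mem D hD F K0 hg2K d hd k hk hh
  have hPc : PX D hD F K0 c := PX_fill D hD F K0 c (coxRoot D d) hc hd' k hk hgen hfc hh' hxc1
  have hPb : PX D hD F K0 b := by
    have hS : ∀ r ∈ [c], r < D.nroots ∧ PX D hD F K0 r := by
      intro r hr
      rw [List.mem_singleton] at hr
      subst hr
      exact ⟨hc, hPc⟩
    exact (runCert_sound D hD F K0 hg2K steps1 [c] hS b (List.contains_iff_mem.1 hcert1)).2
  have hxa : xGL D hD F a 1 ∈ K0 := by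
    have : xGL D hD F a 1 = (xGL D hD F a 1 * xGL D hD F b 1) * (xGL D hD F b 1)⁻¹ := by group
    rw [this]
    exact mul_mem hU (inv_mem (hPb 1))
  have hPa : PX D hD F K0 a := PX_fill D hD F K0 a (coxRoot D d) ha hd' k hk hgen hfa hh' hxa
  have hle : D.group F ≤ K0 := by
    apply cert_sound D hD F K0 hg2K [a, c] steps2 _ hcert2
    intro r hr
    simp only [List.mem_cons, List.not_mem_nil, or_false] at hr
    rcases hr with rfl | rfl
    · exact ⟨ha, hPa⟩
    · exact ⟨hc, hPc⟩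
  exact two_gen_of_le D F g1 g2
    (mul_mem (mul_mem (hGL_mem_group D hD F d k) (xGL_mem_group D hD F a 1)) (xGL_mem_group D hD F b 1))
    (coxN_mem_group D hD F) hle

end main

end Cfsg.Agent.Lib.Helper67.C2g
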