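import Mathlib
import Cfsg.Agent.Lib.Helper1.Carter1
import Cfsg.Agent.Lib.Helper1.Hall

set_option autoImplicit false

universe u

namespace Cfsg.Agent.Lib.Helper1

open Subgroup
open scoped Pointwise

section L1
variable {G : Type u} [Group G]

theorem card_eq_relIndex_mul_card {H K : Subgroup G} (h : H ≤ K) :
    Nat.card K = H.relIndex K * Nat.card H := by
  have := Subgroup.relIndex_mul_relIndex ⊥ H K bot_le h
  rw [Subgroup.relIndex_bot_left, Subgroup.relIndex_bot_left, mul_comm] at this
  exact this.symm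

/-- Key step for Carter subgroups: `N` a normal `p`-subgroup, `K ≥ N` with `K/N` nilpotent, `Q` a
Hall `p'`-subgroup of `K`. Then `N_K(Q)` is nilpotent and `N_K(Q) N = K`. -/
theorem carter_step [Finite G] (N K Q : Subgroup G) [N.Normal] (p : ℕ) [hp : Fact p.Prime]
    (hN : IsPGroup p N) (hNK : N ≤ K)
    (hKnil : Group.IsNilpotent (K.map (QuotientGroup.mk' N)))
    (hQK : Q ≤ K) (hQp : (Nat.card Q).Coprime p) (hQidx : ∃ b, Q.relIndex K = p ^ b) :
    Group.IsNilpotent (K ⊓ normalizer (Q : Set G) : Subgroup G) ∧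
      (K ⊓ normalizer (Q : Set G)) ⊔ N = K := by
  obtain ⟨b, hb⟩ := hQidx
  obtain ⟨a, ha⟩ := IsPGroup.iff_card.mp hN
  set C := K ⊓ normalizer (Q : Set G) with hC
  have hQC : Q ≤ C := le_inf hQK le_normalizer
  have hCK : C ≤ K := inf_le_left
  have hcopQN : (Nat.card Q).Coprime (Nat.card N) := by
    rw [ha]; exact Nat.Coprime.pow_right a hQp
  have hQN : Q ⊓ N = ⊥ := (Subgroup.disjoint_of_coprime_natCard hcopQN).eq_bot
  set π := QuotientGroup.mk' N with hπ
  -- `Q̄` is a Hall subgroup of `K̄`
  have hQbar : Nat.card (Q.map π) = Nat.card Q := card_map_mk_of_inf_eq_bot N Q hQN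
  have hKbar : Nat.card (K.map π) * Nat.card N = Nat.card K := card_map_mk_of_le N K hNK
  have hQKbar : Q.map π ≤ K.map π := Subgroup.map_mono hQK
  have hidxbar : (Q.map π).relIndex (K.map π) ∣ p ^ b := by
    have h1 := card_eq_relIndex_mul_card hQKbar
    have h2 := card_eq_relIndex_mul_card hQK
    rw [hb] at h2
    rw [h1, hQbar, h2, ha] at hKbar
    have hQpos : 0 < Nat.card Q := Nat.card_pos
    have h3 : (Q.map π).relIndex (K.map π) * p ^ a = p ^ b := by
      have : (Q.map π).relIndex (K.map π) * p ^ a * Nat.card Q = p ^ b * Nat.card Q := by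
        rw [← hKbar]; ring
      exact Nat.eq_of_mul_eq_mul_right hQpos this
    exact Dvd.intro _ h3
  have hcopbar : (Nat.card (Q.map π)).Coprime ((Q.map π).relIndex (K.map π)) := by
    rw [hQbar]
    exact Nat.Coprime.coprime_dvd_right hidxbar (Nat.Coprime.pow_right b hQp)
  have hnormbar : K.map π ≤ normalizer ((Q.map π : Subgroup (G ⧸ N)) : Set (G ⧸ N)) :=
    le_normalizer_of_hall_of_isNilpotent (K.map π) (Q.map π) hQKbar hKnil hcopbar
  -- `M = QN` is normalised by `K`
  set M := Q ⊔ N with hM
  have hMK : M ≤ K := sup_le hQK hNK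
  have hMnorm : K ≤ normalizer (M : Set G) := by
    have h1 : M = (Q.map π).comap π := by
      rw [hπ, QuotientGroup.comap_map_mk', sup_comm]
    rw [h1, ← Subgroup.comap_normalizer_eq_of_surjective _ (QuotientGroup.mk'_surjective N)]
    intro k hk
    rw [Subgroup.mem_comap]
    exact hnormbar (Subgroup.mem_map_of_mem π hk)
  refine ⟨?_, ?_⟩
  · -- nilpotency
    have hQCn : (Q.subgroupOf C).Normal :=
      (normal_subgroupOf_iff_le_normalizer hQC).mpr inf_le_right
    have hcard2 : ∃ j, Nat.card (C ⧸ Q.subgroupOf C) = p ^ j := by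
      have h1 : Nat.card (C ⧸ Q.subgroupOf C) = Q.relIndex C := rfl
      have h2 := Subgroup.relIndex_mul_relIndex Q C K hQC hCK
      rw [hb] at h2
      obtain ⟨j, -, hj⟩ := (Nat.dvd_prime_pow hp.out).mp (Dvd.intro _ h2)
      exact ⟨j, by rw [h1, hj]⟩
    obtain ⟨j, hj⟩ := hcard2
    have hnil2 : Group.IsNilpotent (C ⧸ Q.subgroupOf C) := (IsPGroup.of_card hj).isNilpotent
    let f₁ : C →* K.map π := (π.subgroupMap K).comp (Subgroup.inclusion hCK)
    let f₂ : C →* C ⧸ Q.subgroupOf C := QuotientGroup.mk' (Q.subgroupOf C)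
    let f : C →* (K.map π) × (C ⧸ Q.subgroupOf C) := f₁.prod f₂
    have hf : Function.Injective f := by
      rw [injective_iff_map_eq_one]
      intro x hx
      have hx1 : f₁ x = 1 := congrArg Prod.fst hx
      have hx2 : f₂ x = 1 := congrArg Prod.snd hx
      have h1 : (x : G) ∈ N := by
        have := congrArg Subtype.val hx1
        simp only [f₁, MonoidHom.comp_apply, MonoidHom.subgroupMap_apply_coe, OneMemClass.coe_one,
          Subgroup.coe_inclusion] at this
        rwa [hπ, QuotientGroup.mk'_apply, QuotientGroup.eq_one_iff] at this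
      have h2 : (x : G) ∈ Q := by
        have := (QuotientGroup.eq_one_iff x).mp hx2
        exact this
      have h3 : (x : G) ∈ Q ⊓ N := ⟨h2, h1⟩
      rw [hQN, mem_bot] at h3
      exact Subtype.ext h3
    have hnilprod : Group.IsNilpotent ((K.map π) × (C ⧸ Q.subgroupOf C)) := inferInstance
    have hnilrange : Group.IsNilpotent f.range := inferInstance
    exact Group.nilpotent_of_mulEquiv (MonoidHom.ofInjective hf).symm
  · -- Frattini argument
    apply le_antisymm (sup_le hCK hNK)
    intro k hk
    have hkM : MulAut.conj k • M = M := conj_smul_eq_of_mem_normalizer (hMnorm hk)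
    have hQ2M : MulAut.conj k • Q ≤ M := by
      rw [← hkM]
      exact Subgroup.pointwise_smul_le_pointwise_smul_iff.mpr le_sup_left
    have hQM : Q ≤ M := le_sup_left
    have hNM : N ≤ M := le_sup_right
    have hidxN : (N.subgroupOf M).index = Nat.card Q := by
      have h1 : N.relIndex M = N.relIndex Q := Subgroup.relIndex_sup_right Q N
      have h2 : N.relIndex Q = Nat.card Q := by
        rw [← Subgroup.inf_relIndex_right, inf_comm, hQN, Subgroup.relIndex_bot_left]
      exact h1.trans h2
    have hcopN : (Nat.card (N.subgroupOf M)).Coprime (N.subgroupOf M).index := by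
      rw [hidxN, card_subgroupOf_of_le hNM]
      exact hcopQN.symm
    have hsolvN : Group.IsSolvable (N.subgroupOf M) := by
      have : IsPGroup p (N.subgroupOf M) := hN.comap_subtype
      have := this.isNilpotent
      infer_instance
    obtain ⟨x, hx⟩ := sz_conj_of_card (N.subgroupOf M) hcopN (Q.subgroupOf M)
      ((MulAut.conj k • Q).subgroupOf M)
      (by rw [card_subgroupOf_of_le hQM, hidxN])
      (by rw [card_subgroupOf_of_le hQ2M, hidxN, card_conj_smul])
      (Or.inl hsolvN)
    have hx' : MulAut.conj (x : G) • Q = MulAut.conj k • Q := conj_of_conj_subgroupOf hQM hQ2M x hx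
    have h1 : MulAut.conj ((x : G)⁻¹ * k) • Q = Q := by
      rw [← conj_smul_smul, ← hx', conj_smul_smul, inv_mul_cancel, map_one, one_smul]
    have h2 : (x : G)⁻¹ * k ∈ C :=
      ⟨K.mul_mem (K.inv_mem (hMK x.2)) hk, mem_normalizer_of_conj_smul_eq h1⟩
    have h3 : M ≤ C ⊔ N := sup_le (hQC.trans le_sup_left) le_sup_right
    have : k = (x : G) * ((x : G)⁻¹ * k) := by group
    rw [this]
    exact (C ⊔ N).mul_mem (h3 x.2) (le_sup_left (a := C) h2)

end L1

end Cfsg.Agent.Lib.Helper1
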