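import Mathlib
import Cfsg.Agent.Lib.Helper1.Carter2

set_option autoImplicit false

universe u

namespace Cfsg.Agent.Lib.Helper1

open Subgroup
open scoped Pointwise

section HallCompl
variable {G : Type u} [Group G]

/-- `Q` is a Hall `p'`-subgroup of `C`. -/
def IsHallCompl (p : ℕ) (Q C : Subgroup G) : Prop :=
  Q ≤ C ∧ (Nat.card Q).Coprime p ∧ ∃ c, Nat.card C = p ^ c * Nat.card Q

theorem IsHallCompl.relIndex_eq [Finite G] {p : ℕ} {Q C : Subgroup G} (h : IsHallCompl p Q C) :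
    ∃ c, Q.relIndex C = p ^ c := by
  obtain ⟨hQC, -, c, hc⟩ := h
  refine ⟨c, ?_⟩
  have h1 := card_eq_relIndex_mul_card hQC
  rw [hc] at h1
  exact (Nat.eq_of_mul_eq_mul_right Nat.card_pos h1).symm

theorem IsHallCompl.conj {p : ℕ} {Q C : Subgroup G} (h : IsHallCompl p Q C) (g : G) :
    IsHallCompl p (MulAut.conj g • Q) (MulAut.conj g • C) := by
  obtain ⟨hQC, hcop, c, hc⟩ := h
  refine ⟨Subgroup.pointwise_smul_le_pointwise_smul_iff.mpr hQC, ?_, c, ?_⟩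
  · rw [card_conj_smul]; exact hcop
  · rw [card_conj_smul, card_conj_smul]; exact hc

theorem IsHallCompl.of_le [Finite G] {p : ℕ} {Q C K : Subgroup G} (h : IsHallCompl p Q C)
    (hCK : C ≤ K) (hidx : ∃ j, C.relIndex K = p ^ j) : IsHallCompl p Q K := by
  obtain ⟨hQC, hcop, c, hc⟩ := h
  obtain ⟨j, hj⟩ := hidx
  refine ⟨hQC.trans hCK, hcop, j + c, ?_⟩
  rw [card_eq_relIndex_mul_card hCK, hj, hc, pow_add, mul_assoc]

theorem relIndex_sup_pgroup [Finite G] (N C : Subgroup G) [N.Normal] (p : ℕ) [hp : Fact p.Prime]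
    (hN : IsPGroup p N) : ∃ j, C.relIndex (C ⊔ N) = p ^ j := by
  obtain ⟨a, ha⟩ := IsPGroup.iff_card.mp hN
  have h1 := card_sup_mul_card_inf C N
  have h2 := card_eq_relIndex_mul_card (le_sup_left : C ≤ C ⊔ N)
  rw [h2, ha] at h1
  have h3 : C.relIndex (C ⊔ N) * Nat.card (C ⊓ N : Subgroup G) = p ^ a := by
    have : C.relIndex (C ⊔ N) * Nat.card (C ⊓ N : Subgroup G) * Nat.card C = p ^ a * Nat.card C := by
      rw [← mul_comm (Nat.card C) (p ^ a), ← h1]; ring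
    exact Nat.eq_of_mul_eq_mul_right Nat.card_pos this
  obtain ⟨j, -, hj⟩ := (Nat.dvd_prime_pow hp.out).mp (Dvd.intro _ h3)
  exact ⟨j, hj⟩

theorem exists_isHallCompl [Finite G] (p : ℕ) [hp : Fact p.Prime] (C : Subgroup G)
    (hs : Group.IsSolvable C) : ∃ Q, IsHallCompl p Q C := by
  have hpos : Nat.card C ≠ 0 := Nat.card_pos.ne'
  obtain ⟨e, m, hm, hcard⟩ := Nat.exists_eq_pow_mul_and_not_dvd hpos p hp.out.ne_one
  have hcop : m.Coprime (p ^ e) :=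
    Nat.Coprime.pow_right e ((Nat.Prime.coprime_iff_not_dvd hp.out).mpr hm).symm
  obtain ⟨H, hH, -⟩ := hallDom_all C hs m (p ^ e) (by rw [hcard, mul_comm]) hcop ⊥
    (by rw [Subgroup.card_bot]; exact Nat.coprime_one_left _)
  refine ⟨H.map C.subtype, Subgroup.map_subtype_le H, ?_, e, ?_⟩
  · rw [Subgroup.card_map_of_injective C.subtype_injective, hH]
    exact ((Nat.Prime.coprime_iff_not_dvd hp.out).mpr hm).symm
  · rw [Subgroup.card_map_of_injective C.subtype_injective, hH, hcard]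

theorem IsHallCompl.card_eq [Finite G] {p : ℕ} {Q₁ Q₂ K : Subgroup G}
    (h₁ : IsHallCompl p Q₁ K) (h₂ : IsHallCompl p Q₂ K) : Nat.card Q₁ = Nat.card Q₂ := by
  obtain ⟨-, hc1, c1, hk1⟩ := h₁
  obtain ⟨-, hc2, c2, hk2⟩ := h₂
  have h : p ^ c1 * Nat.card Q₁ = p ^ c2 * Nat.card Q₂ := by rw [← hk1, ← hk2]
  apply Nat.dvd_antisymm
  · have : Nat.card Q₁ ∣ p ^ c2 * Nat.card Q₂ := Dvd.intro_left _ h
    exact (Nat.Coprime.pow_right c2 hc1).dvd_of_dvd_mul_left this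
  · have : Nat.card Q₂ ∣ p ^ c1 * Nat.card Q₁ := Dvd.intro_left _ h.symm
    exact (Nat.Coprime.pow_right c1 hc2).dvd_of_dvd_mul_left this

theorem IsHallCompl.conj_in [Finite G] {p : ℕ} {Q₁ Q₂ K : Subgroup G}
    (hs : Group.IsSolvable K) (h₁ : IsHallCompl p Q₁ K) (h₂ : IsHallCompl p Q₂ K) :
    ∃ k ∈ K, MulAut.conj k • Q₁ = Q₂ := by
  have hcard := h₁.card_eq h₂
  obtain ⟨hQ1K, hc1, c1, hk1⟩ := h₁
  obtain ⟨hQ2K, hc2, c2, hk2⟩ := h₂
  obtain ⟨k, hk⟩ := hallConj_all K hs (Nat.card Q₁) (p ^ c1) (by rw [hk1, mul_comm])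
    (Nat.Coprime.pow_right c1 hc1) (Q₁.subgroupOf K) (Q₂.subgroupOf K)
    (card_subgroupOf_of_le hQ1K) (by rw [card_subgroupOf_of_le hQ2K, hcard])
  exact ⟨k, k.2, conj_of_conj_subgroupOf hQ1K hQ2K k hk⟩

end HallCompl

end Cfsg.Agent.Lib.Helper1
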