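import Mathlib
import Cfsg.Agent.Lib.Helper1.Carter3

set_option autoImplicit false

universe u

namespace Cfsg.Agent.Lib.Helper1

open Subgroup
open scoped Pointwise

section Carter
variable {G : Type u} [Group G]

/-- Carter subgroups: nilpotent and self-normalising. -/
def IsCarter (C : Subgroup G) : Prop :=
  Group.IsNilpotent C ∧ normalizer (C : Set G) = C

theorem normalizer_conj_smul (g : G) (C : Subgroup G) :
    normalizer ((MulAut.conj g • C : Subgroup G) : Set G) = MulAut.conj g • normalizer (C : Set G) :=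
  (Subgroup.map_equiv_normalizer_eq C (MulAut.conj g)).symm

theorem IsCarter.conj {C : Subgroup G} (h : IsCarter C) (g : G) :
    IsCarter (MulAut.conj g • C) := by
  obtain ⟨h1, h2⟩ := h
  refine ⟨?_, ?_⟩
  · exact Group.nilpotent_of_mulEquiv (Subgroup.equivSMul (MulAut.conj g) C)
  · rw [normalizer_conj_smul, h2]

/-- If `C` is a Carter subgroup, `N` a normal `p`-subgroup and `Q` a Hall `p'`-subgroup of `C`,
then `N_{CN}(Q) = C`. -/
theorem carter_eq_inf_normalizer [Finite G] (N C Q : Subgroup G) [N.Normal] (p : ℕ)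
    [hp : Fact p.Prime] (hN : IsPGroup p N) (hC : IsCarter C) (hQ : IsHallCompl p Q C) :
    (C ⊔ N) ⊓ normalizer (Q : Set G) = C := by
  obtain ⟨hCnil, hCself⟩ := hC
  have hQC : Q ≤ C := hQ.1
  obtain ⟨c, hc⟩ := hQ.relIndex_eq
  have hcopQ : (Nat.card Q).Coprime (Q.relIndex C) := by
    rw [hc]; exact Nat.Coprime.pow_right c hQ.2.1
  have hCQ : C ≤ normalizer (Q : Set G) :=
    le_normalizer_of_hall_of_isNilpotent C Q hQC hCnil hcopQ
  set K := C ⊔ N with hK
  have hCK : C ≤ K := le_sup_left
  have hNK : N ≤ K := le_sup_right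
  have hQK : IsHallCompl p Q K := hQ.of_le hCK (relIndex_sup_pgroup N C p hN)
  set π := QuotientGroup.mk' N with hπ
  have hKnil : Group.IsNilpotent (K.map π) := by
    have h1 : K.map π = C.map π := by
      rw [hK, Subgroup.map_sup, hπ, QuotientGroup.map_mk'_self, sup_bot_eq]
    rw [h1]
    exact Group.nilpotent_of_surjective (π.subgroupMap C) (π.subgroupMap_surjective C)
  obtain ⟨hnil, -⟩ := carter_step N K Q p hN hNK hKnil hQK.1 hQK.2.1 hQK.relIndex_eq
  set C' := K ⊓ normalizer (Q : Set G) with hC'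
  have hCC' : C ≤ C' := le_inf hCK hCQ
  apply le_antisymm _ hCC'
  -- `C` is self-normalising in the nilpotent group `C'`
  have h1 : normalizer ((C.subgroupOf C' : Subgroup C') : Set C') = C.subgroupOf C' := by
    rw [← Subgroup.subgroupOf_normalizer_eq hCC', hCself]
  have h2 : C.subgroupOf C' = ⊤ :=
    (normalizerCondition_iff_only_full_group_self_normalizing.mp
      Group.normalizerCondition_of_isNilpotent) _ h1
  exact Subgroup.subgroupOf_eq_top.mp h2

/-- The image of a Carter subgroup modulo a normal `p`-subgroup is self-normalising. -/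
theorem carter_sup_self_normalizing [Finite G] [hs : Group.IsSolvable G] (N C : Subgroup G)
    [N.Normal] (p : ℕ) [hp : Fact p.Prime] (hN : IsPGroup p N) (hC : IsCarter C) :
    normalizer ((C ⊔ N : Subgroup G) : Set G) = C ⊔ N := by
  have hCs : Group.IsSolvable C := inferInstance
  obtain ⟨Q, hQ⟩ := exists_isHallCompl p C hCs
  have hkey := carter_eq_inf_normalizer N C Q p hN hC hQ
  set K := C ⊔ N with hK
  have hCK : C ≤ K := le_sup_left
  have hQK : IsHallCompl p Q K := hQ.of_le hCK (relIndex_sup_pgroup N C p hN)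
  have hKs : Group.IsSolvable K := inferInstance
  apply le_antisymm _ le_normalizer
  intro x hx
  have hxK : MulAut.conj x • K = K := conj_smul_eq_of_mem_normalizer hx
  have hQ2 : IsHallCompl p (MulAut.conj x • Q) K := by
    have := hQK.conj x
    rwa [hxK] at this
  obtain ⟨k, hkK, hk⟩ := IsHallCompl.conj_in hKs hQK hQ2
  -- `y = k⁻¹ x` normalises `K` and `Q`
  set y := k⁻¹ * x with hy
  have hyQ : MulAut.conj y • Q = Q := by
    rw [hy, ← conj_smul_smul, ← hk, conj_smul_smul, inv_mul_cancel, map_one, one_smul]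
  have hyK : y ∈ normalizer (K : Set G) :=
    Subgroup.mul_mem _ (Subgroup.inv_mem _ (le_normalizer hkK)) hx
  have hyNQ : y ∈ normalizer (Q : Set G) := mem_normalizer_of_conj_smul_eq hyQ
  have hyC : y ∈ normalizer (C : Set G) := by
    have hconj : ∀ z, z ∈ normalizer (K : Set G) → z ∈ normalizer (Q : Set G) →
        ∀ c ∈ C, z * c * z⁻¹ ∈ C := by
      intro z hzK hzQ c hc
      rw [← hkey]
      refine ⟨(mem_normalizer_iff.mp hzK c).mp (hCK hc), ?_⟩
      have hcQ : c ∈ normalizer (Q : Set G) := by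
        have : c ∈ K ⊓ normalizer (Q : Set G) := by rw [hkey]; exact hc
        exact this.2
      exact Subgroup.mul_mem _ (Subgroup.mul_mem _ hzQ hcQ) (Subgroup.inv_mem _ hzQ)
    rw [mem_normalizer_iff]
    intro c
    constructor
    · exact hconj y hyK hyNQ c
    · intro h
      have := hconj y⁻¹ (Subgroup.inv_mem _ hyK) (Subgroup.inv_mem _ hyNQ) _ h
      simpa [mul_assoc] using this
  rw [hC.2] at hyC
  have : x = k * y := by rw [hy]; group
  rw [this]
  exact K.mul_mem hkK (hCK hyC)

/-- Existence step. -/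
theorem carter_exists_step [Finite G] [hs : Group.IsSolvable G] (N K : Subgroup G)
    [N.Normal] (p : ℕ) [hp : Fact p.Prime] (hN : IsPGroup p N) (hNK : N ≤ K)
    (hKnil : Group.IsNilpotent (K.map (QuotientGroup.mk' N)))
    (hKself : normalizer (K : Set G) = K) : ∃ C : Subgroup G, IsCarter C := by
  have hKs : Group.IsSolvable K := inferInstance
  obtain ⟨Q, hQ⟩ := exists_isHallCompl p K hKs
  obtain ⟨hnil, hsup⟩ := carter_step N K Q p hN hNK hKnil hQ.1 hQ.2.1 hQ.relIndex_eq
  set C := K ⊓ normalizer (Q : Set G) with hC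
  have hQC : Q ≤ C := le_inf hQ.1 le_normalizer
  have hCK : C ≤ K := inf_le_left
  refine ⟨C, hnil, ?_⟩
  apply le_antisymm _ le_normalizer
  intro x hx
  have hxC : MulAut.conj x • C = C := conj_smul_eq_of_mem_normalizer hx
  have hxK : x ∈ K := by
    rw [← hKself]
    apply mem_normalizer_of_conj_smul_eq
    rw [← hsup, Subgroup.smul_sup, hxC, Subgroup.Normal.conj_smul_eq_self x N]
  refine ⟨hxK, ?_⟩
  apply mem_normalizer_of_conj_smul_eq
  obtain ⟨b, hb⟩ := hQ.relIndex_eq
  have hcop : (Nat.card Q).Coprime (Q.relIndex C) := by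
    have h2 := Subgroup.relIndex_mul_relIndex Q C K hQC hCK
    rw [hb] at h2
    exact Nat.Coprime.coprime_dvd_right (Dvd.intro _ h2) (Nat.Coprime.pow_right b hQ.2.1)
  have hle : MulAut.conj x • Q ≤ C := by
    rw [← hxC]
    exact Subgroup.pointwise_smul_le_pointwise_smul_iff.mpr hQC
  exact eq_of_normal_hall_of_card C Q (MulAut.conj x • Q) hQC hle inf_le_right hcop
    (card_conj_smul x Q)

/-- Conjugacy step. -/
theorem carter_conj_step [Finite G] [hs : Group.IsSolvable G] (N C D : Subgroup G)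
    [N.Normal] (p : ℕ) [hp : Fact p.Prime] (hN : IsPGroup p N) (hC : IsCarter C)
    (hD : IsCarter D) (hsup : C ⊔ N = D ⊔ N) : ∃ k : G, MulAut.conj k • C = D := by
  have hCs : Group.IsSolvable C := inferInstance
  have hDs : Group.IsSolvable D := inferInstance
  obtain ⟨Q₁, hQ₁⟩ := exists_isHallCompl p C hCs
  obtain ⟨Q₂, hQ₂⟩ := exists_isHallCompl p D hDs
  set K := D ⊔ N with hK
  have hKs : Group.IsSolvable K := inferInstance
  have hQ₁K : IsHallCompl p Q₁ K := by
    have := hQ₁.of_le (le_sup_left : C ≤ C ⊔ N) (relIndex_sup_pgroup N C p hN)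
    rwa [hsup] at this
  have hQ₂K : IsHallCompl p Q₂ K := hQ₂.of_le le_sup_left (relIndex_sup_pgroup N D p hN)
  obtain ⟨k, hkK, hk⟩ := IsHallCompl.conj_in hKs hQ₁K hQ₂K
  refine ⟨k, ?_⟩
  have hC2 : IsCarter (MulAut.conj k • C) := hC.conj k
  have hQ2' : IsHallCompl p Q₂ (MulAut.conj k • C) := by
    have := hQ₁.conj k
    rwa [hk] at this
  have h1 := carter_eq_inf_normalizer N (MulAut.conj k • C) Q₂ p hN hC2 hQ2'
  have h2 := carter_eq_inf_normalizer N D Q₂ p hN hD hQ₂
  have h3 : MulAut.conj k • C ⊔ N = K := by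
    have : MulAut.conj k • (C ⊔ N) = MulAut.conj k • C ⊔ N := by
      rw [Subgroup.smul_sup, Subgroup.Normal.conj_smul_eq_self k N]
    rw [← this, hsup]
    exact Subgroup.conj_smul_eq_self_of_mem hkK
  rw [h3] at h1
  rw [← h1, ← h2]

end Carter

end Cfsg.Agent.Lib.Helper1
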