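import Mathlib
import Cfsg.Agent.Lib.Helper1.ChiefFitting

set_option autoImplicit false

universe u

namespace Cfsg.Agent.Lib.Helper1

open Subgroup
open scoped commutatorElement

section CentMod
variable {G : Type u} [Group G]

/-- The elements of `G` centralising `U / V`. -/
def centMod (U V : Subgroup G) [V.Normal] : Subgroup G :=
  (centralizer ((U.map (QuotientGroup.mk' V) : Subgroup (G ⧸ V)) : Set (G ⧸ V))).comap
    (QuotientGroup.mk' V)

theorem mem_centMod {U V : Subgroup G} [V.Normal] (g : G) :
    g ∈ centMod U V ↔ ∀ u ∈ U, u * g * u⁻¹ * g⁻¹ ∈ V := by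
  unfold centMod
  rw [Subgroup.mem_comap, mem_centralizer_iff]
  constructor
  · intro h u hu
    have h1 := h _ (Subgroup.mem_map_of_mem _ hu)
    rw [← QuotientGroup.eq_one_iff]
    simp only [QuotientGroup.mk'_apply] at h1
    simp only [QuotientGroup.mk_mul, QuotientGroup.mk_inv]
    rw [h1]
    group
  · intro h x hx
    rw [SetLike.mem_coe] at hx
    obtain ⟨u, hu, rfl⟩ := hx
    have h1 := h u hu
    rw [← QuotientGroup.eq_one_iff] at h1
    simp only [QuotientGroup.mk_mul, QuotientGroup.mk_inv] at h1
    simp only [QuotientGroup.mk'_apply]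
    have h2 := mul_inv_eq_one.mp h1
    exact mul_inv_eq_iff_eq_mul.mp h2

theorem centMod_normal (U V : Subgroup G) [hU : U.Normal] [hV : V.Normal] :
    (centMod U V).Normal := by
  unfold centMod
  have h1 : (U.map (QuotientGroup.mk' V)).Normal :=
    Subgroup.Normal.map hU _ (QuotientGroup.mk'_surjective V)
  have h2 : (centralizer ((U.map (QuotientGroup.mk' V) : Subgroup (G ⧸ V)) : Set (G ⧸ V))).Normal :=
    Subgroup.normal_centralizer
  exact Subgroup.Normal.comap h2 _

theorem commutator_le_of_le_centMod {U V K : Subgroup G} [V.Normal] (h : K ≤ centMod U V) :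
    ⁅U, K⁆ ≤ V := by
  rw [Subgroup.commutator_le]
  intro u hu k hk
  have := (mem_centMod k).mp (h hk) u hu
  rwa [commutatorElement_def]

theorem le_centMod_of_commutator_le {U V K : Subgroup G} [V.Normal] (h : ⁅U, K⁆ ≤ V) :
    K ≤ centMod U V := by
  intro k hk
  rw [mem_centMod]
  intro u hu
  have := h (Subgroup.commutator_mem_commutator hu hk)
  rwa [commutatorElement_def] at this

end CentMod

end Cfsg.Agent.Lib.Helper1
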