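import Mathlib
import Cfsg.Agent.Lib.Helper24.CoprimeAbelian
import Cfsg.Agent.Lib.Helper24.SylowInv

set_option autoImplicit false

namespace Cfsg.Agent.Lib.Helper1

open Subgroup
open Cfsg.Agent.Lib.Helper24

section
variable {G : Type*} [Group G]

/-- A subgroup `L` containing a central subgroup `D` of prime relative index is abelian. -/
theorem isMulCommutative_of_central_prime_index (L D : Subgroup G) (_hDL : D ≤ L)
    (hcent : ∀ x ∈ D, ∀ y ∈ L, x * y = y * x) (p : ℕ) (hp : p.Prime) (hidx : D.relIndex L = p) :
    IsMulCommutative L := by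
  have hcenter : D.subgroupOf L ≤ center L := by
    intro x hx
    rw [mem_center_iff]
    intro y
    apply Subtype.ext
    exact (hcent x hx y y.2).symm
  have : (D.subgroupOf L).Normal := by
    constructor
    intro n hn g
    have := mem_center_iff.mp (hcenter hn) g
    rw [this, mul_inv_cancel_right]
    exact hn
  have : Fact p.Prime := ⟨hp⟩
  have hcard : Nat.card (L ⧸ D.subgroupOf L) = p := hidx
  have : IsCyclic (L ⧸ D.subgroupOf L) := isCyclic_of_prime_card hcard
  apply (QuotientGroup.mk' (D.subgroupOf L)).isMulCommutative_of_isCyclic_of_ker_le_center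
  rw [QuotientGroup.ker_mk']
  exact hcenter

/-- Coprime action on a `p`-group with `|S : C_S(A)| = p`: then `|[S, A]| = p`. -/
theorem card_commutator_of_pgroup_index_p [Finite G] (A S : Subgroup G)
    (hAS : A ≤ normalizer (S : Set G)) (hcop : (Nat.card A).Coprime (Nat.card S))
    (p : ℕ) [hp : Fact p.Prime] (hS : IsPGroup p S)
    (hidx : (S ⊓ centralizer (A : Set G)).relIndex S = p) :
    Nat.card (⁅S, A⁆ : Subgroup G) = p := by
  set C := S ⊓ centralizer (A : Set G) with hC
  have hCS : C ≤ S := inf_le_left
  have hsolvS : Group.IsSolvable S := by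
    have := hS.isNilpotent
    infer_instance
  have hsolv : Group.IsSolvable A ∨ Group.IsSolvable S := Or.inr hsolvS
  -- `C` is normal in `S`
  have hCn : S ≤ normalizer (C : Set G) := by
    rw [← normal_subgroupOf_iff_le_normalizer hCS]
    apply normal_of_index_eq_minFac_card
    have h1 : (C.subgroupOf S).index = p := hidx
    rw [h1]
    obtain ⟨n, hn⟩ := IsPGroup.iff_card.mp hS
    have hn0 : n ≠ 0 := by
      rintro rfl
      rw [pow_zero] at hn
      have h2 : (C.subgroupOf S).index ∣ Nat.card S := Subgroup.index_dvd_card _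
      rw [h1, hn] at h2
      exact hp.out.one_lt.ne' (Nat.dvd_one.mp h2)
    rw [hn, hp.out.pow_minFac hn0]
  set L := (⁅S, A⁆ : Subgroup G) with hL
  have hLS : L ≤ S := commutator_le_of_le_normalizer S A hAS
  have hAL : A ≤ normalizer (L : Set G) := le_normalizer_commutator_right S A hAS
  have hsup : L ⊔ C = S := commutator_sup_centralizer_eq A S hAS hcop hsolv
  have hLL : ⁅L, A⁆ = L := commutator_commutator_eq A S hAS hcop hsolv
  -- `C` commutes with `A`
  have hCA : ⁅C, A⁆ = ⊥ := by
    rw [commutator_eq_bot_iff_le_centralizer]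
    intro c hc
    rw [mem_centralizer_iff]
    intro a ha
    have this : c ∈ centralizer (A : Set G) := hc.2
    rw [mem_centralizer_iff] at this
    exact this a ha
  -- three subgroups
  have h3 : ⁅L, C⁆ = ⊥ := by
    apply commutator_commutator_eq_bot_of_rotate
    · rw [commutator_comm A C, hCA]
      exact (commutator_eq_bot_iff_le_centralizer).mpr bot_le
    · have h1 : ⁅C, S⁆ ≤ C := commutator_le_of_le_normalizer C S hCn
      have h2 : ⁅⁅C, S⁆, A⁆ ≤ ⁅C, A⁆ := commutator_mono h1 le_rfl
      rw [hCA] at h2
      exact le_bot_iff.mp h2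
  -- `L` is abelian
  set D := L ⊓ C with hD
  have hDidx : D.relIndex L = p := by
    rw [hD, inf_comm, inf_relIndex_right]
    have h1 : L ≤ normalizer (C : Set G) := hLS.trans hCn
    rw [← relIndex_sup_right_of_le_normalizer L C h1, hsup]
    exact hidx
  have hcentral : ∀ x ∈ D, ∀ y ∈ L, x * y = y * x := by
    intro x hx y hy
    rw [commutator_eq_bot_iff_le_centralizer] at h3
    have := h3 hy
    rw [mem_centralizer_iff] at this
    exact this x hx.2
  have : IsMulCommutative L :=
    isMulCommutative_of_central_prime_index L D inf_le_left hcentral p hp.out hDidx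
  have hcopL : (Nat.card A).Coprime (Nat.card L) :=
    Nat.Coprime.coprime_dvd_right (card_dvd_of_le hLS) hcop
  have h4 := commutator_inf_centralizer_eq_bot_of_abelian L A hAL hcopL
  rw [hLL] at h4
  have hDbot : D = ⊥ := by
    rw [eq_bot_iff]
    intro x hx
    rw [← h4]
    exact ⟨hx.1, hx.2.2⟩
  rw [hDbot, relIndex_bot_left] at hDidx
  exact hDidx

end

end Cfsg.Agent.Lib.Helper1
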