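import Cfsg.Agent.Lib.Helper1.E8m_TCONNdefs

/-! # E8m hive, T-CONN backup (helper1): rows 60-119 of the `chevE8` chain table -/

set_option autoImplicit false

namespace Cfsg.Agent.Lib.Helper76.E8m

open Cfsg Cfsg.Lie

theorem h1conn_r60 : h1conn_rows chevE8 60 10 = true := by decide +kernel
theorem h1conn_r70 : h1conn_rows chevE8 70 10 = true := by decide +kernel
theorem h1conn_r80 : h1conn_rows chevE8 80 10 = true := by decide +kernel
theorem h1conn_r90 : h1conn_rows chevE8 90 10 = true := by decide +kernel
theorem h1conn_r100 : h1conn_rows chevE8 100 10 = true := by decide +kernel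
theorem h1conn_r110 : h1conn_rows chevE8 110 10 = true := by decide +kernel

end Cfsg.Agent.Lib.Helper76.E8m
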