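import Cfsg.Agent.Lib.Helper1.E8m_TCONNa
import Cfsg.Agent.Lib.Helper1.E8m_TCONNb
import Cfsg.Agent.Lib.Helper1.E8m_TCONNc
import Cfsg.Agent.Lib.Helper1.E8m_TCONNd

/-! # E8m hive (S2107), leaf T-CONN (backup by helper1): assembly of the row chunks -/

set_option autoImplicit false

namespace Cfsg.Agent.Lib.Helper76.E8m

open Cfsg Cfsg.Lie Cfsg.Agent.Lib.Helper39.Sm

theorem h1conn_size : chevE8.chain.size ≤ 240 := by decide +kernel

theorem h1conn_all (a : ℕ) (ha : a < chevE8.chain.size) : h1conn_row chevE8 a = true := by
  have ha' : a < 240 := lt_of_lt_of_le ha h1conn_size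
  have key : ∀ lo, lo ≤ a → a < lo + 10 → h1conn_rows chevE8 lo 10 = true → h1conn_row chevE8 a = true :=
    fun lo h1 h2 h => h1conn_rows_spec chevE8 lo 10 h a h1 h2
  have hd : a / 10 * 10 ≤ a := Nat.div_mul_le_self a 10
  have hd2 : a < a / 10 * 10 + 10 := by omega
  have hq : a / 10 < 24 := by omega
  interval_cases hk : a / 10
  · exact key 0 (by omega) (by omega) h1conn_r0
  · exact key 10 (by omega) (by omega) h1conn_r10
  · exact key 20 (by omega) (by omega) h1conn_r20
  · exact key 30 (by omega) (by omega) h1conn_r30
  · exact key 40 (by omega) (by omega) h1conn_r40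
  · exact key 50 (by omega) (by omega) h1conn_r50
  · exact key 60 (by omega) (by omega) h1conn_r60
  · exact key 70 (by omega) (by omega) h1conn_r70
  · exact key 80 (by omega) (by omega) h1conn_r80
  · exact key 90 (by omega) (by omega) h1conn_r90
  · exact key 100 (by omega) (by omega) h1conn_r100
  · exact key 110 (by omega) (by omega) h1conn_r110
  · exact key 120 (by omega) (by omega) h1conn_r120
  · exact key 130 (by omega) (by omega) h1conn_r130
  · exact key 140 (by omega) (by omega) h1conn_r140
  · exact key 150 (by omega) (by omega) h1conn_r150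
  · exact key 160 (by omega) (by omega) h1conn_r160
  · exact key 170 (by omega) (by omega) h1conn_r170
  · exact key 180 (by omega) (by omega) h1conn_r180
  · exact key 190 (by omega) (by omega) h1conn_r190
  · exact key 200 (by omega) (by omega) h1conn_r200
  · exact key 210 (by omega) (by omega) h1conn_r210
  · exact key 220 (by omega) (by omega) h1conn_r220
  · exact key 230 (by omega) (by omega) h1conn_r230

/-- T-CONN (240 roots; 13440 chain-table pairs in 24 row chunks). -/
theorem tabConn_E8 : TabConn chevE8 (decOf chevE8) := h1conn_spec chevE8 h1conn_all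

end Cfsg.Agent.Lib.Helper76.E8m
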