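import Cfsg.Agent.Lib.Helper83.Ez_TCONN
import Cfsg.Prelude.Def_ChevE8

/-! # E8m hive (S2107, owner helper76), leaf T-CONN (backup by helper1): `TabConn chevE8 (decOf chevE8)`.
Row-chunked instantiation of helper83's generic checker (`conn_pair`, `conn_mem`, `conn_a3b_spec` of
`Lib/Helper83/Ez_TCONN.lean`); each chunk of 10 rows is its own `decide +kernel` (kernel memory stays low). -/

set_option autoImplicit false

namespace Cfsg.Agent.Lib.Helper76.E8m

open Cfsg Cfsg.Lie Cfsg.Agent.Lib.Helper83.Ez

/-- the check of one row of the chain table -/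
def h1conn_row (D : ChevalleyDatum) (a : ℕ) : Bool :=
  (D.chain.getD a #[]).toList.all fun ent => conn_pair D a ent.1

/-- the check over the rows `lo ≤ a < lo + n` of the chain table -/
def h1conn_rows (D : ChevalleyDatum) (lo n : ℕ) : Bool :=
  (List.range' lo n).all fun a => h1conn_row D a

theorem h1conn_rows_spec (D : ChevalleyDatum) (lo n : ℕ) (h : h1conn_rows D lo n = true) (a : ℕ)
    (h1 : lo ≤ a) (h2 : a < lo + n) : h1conn_row D a = true := by
  unfold h1conn_rows at h
  rw [List.all_eq_true] at h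
  exact h a (by rw [List.mem_range'_1]; exact ⟨h1, h2⟩)

theorem h1conn_spec (D : ChevalleyDatum) (h : ∀ a, a < D.chain.size → h1conn_row D a = true) :
    TabConn D (decOf D) := by
  intro a b e hsm
  obtain ⟨ha, ent, hent, rfl⟩ := conn_mem D a b e hsm
  have h1 := h a ha
  unfold h1conn_row at h1
  rw [List.all_eq_true] at h1
  have h2 := h1 ent hent
  unfold conn_pair at h2
  rw [hsm] at h2
  simp only [Bool.or_eq_true, Bool.and_eq_true, beq_iff_eq] at h2
  rcases h2 with ((h2 | h2) | h2) | h2
  · exact Or.inl h2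
  · exact Or.inr (Or.inl h2)
  · exact Or.inr (Or.inr (Or.inl (conn_a3b_spec D _ _ _ _ _ _ h2)))
  · exact Or.inr (Or.inr (Or.inr (conn_a3b_spec D _ _ _ _ _ _ h2)))

end Cfsg.Agent.Lib.Helper76.E8m
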