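import Cfsg.Agent.Lib.Helper1.Ez_SUB7

/-! # Ez hive (S1079, S2105, S2106; owner helper83), leaf EZ-SUB6 (helper1):
the subsystem embedding `E₆ < E₈` carries the Prelude structure constants exactly. -/

set_option autoImplicit false

namespace Cfsg.Agent.Lib.Helper83.Ez

open Cfsg Cfsg.Lie

theorem sub6_chk_E6 : sub7_chk chevE6 chevE8 iota6 = true := by decide +kernel

/-- EZ-SUB6 (72 x 72 pairs). -/
theorem subSys_E6 : SubSys chevE6 chevE8 iota6 := sub7_sound _ _ _ sub6_chk_E6

end Cfsg.Agent.Lib.Helper83.Ez
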