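import Cfsg.Agent.Lib.Helper83.EzDefs

/-! # Ez hive (S1079, S2105, S2106; owner helper83), leaf EZ-SUB7 (helper1):
the subsystem embedding `E₇ < E₈` carries the Prelude structure constants exactly.
The Boolean checker `sub7_chk` and its soundness are generic in `(D, D', ι)`. -/

set_option autoImplicit false

namespace Cfsg.Agent.Lib.Helper83.Ez

open Cfsg Cfsg.Lie

/-- the Boolean check behind `SubSys` -/
def sub7_chk (D D' : ChevalleyDatum) (ι : ℕ → ℕ) : Bool :=
  ((List.range D.nroots).all fun r =>
      decide (ι r < D'.nroots) && (decide (D.neg r < D.nroots) && decide (ι (D.neg r) = D'.neg (ι r)))) &&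
  (((List.range D.nroots).all fun r => (List.range D.nroots).all fun s =>
      (decide (ι r ≠ ι s) || decide (r = s)) &&
      (((D.commTerms r s).all fun c => decide (c.1 < D.nroots)) &&
        (decide (s = r) || (decide (s = D.neg r) ||
          decide ((D.commTerms r s).map (fun c => (ι c.1, c.2)) = D'.commTerms (ι r) (ι s)))))) &&
  (((List.range D.rank).all fun i =>
      decide (D.simple i < D.nroots) && decide (ι (D.simple i) = D'.simple i)) &&
    decide (D.rank ≤ D'.rank)))

theorem sub7_sound (D D' : ChevalleyDatum) (ι : ℕ → ℕ) (h : sub7_chk D D' ι = true) : SubSys D D' ι := by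
  unfold sub7_chk at h
  simp only [Bool.and_eq_true, List.all_eq_true, List.mem_range, decide_eq_true_eq, Bool.or_eq_true] at h
  obtain ⟨h1, h2, h3, h4⟩ := h
  refine ⟨fun r hr => (h1 r hr).1, ?_, fun r hr => (h1 r hr).2.1, fun r hr => (h1 r hr).2.2, ?_, ?_,
    fun i hi => (h3 i hi).1, fun i hi => (h3 i hi).2, h4⟩
  · intro r s hr hs hrs
    rcases (h2 r hr s hs).1 with h | h
    · exact absurd hrs h
    · exact h
  · intro r s hr hs c hc
    exact (h2 r hr s hs).2.1 c hc
  · intro r s hr hs hsr hsn
    rcases (h2 r hr s hs).2.2 with h | h | h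
    · exact absurd h hsr
    · exact absurd h hsn
    · exact h

theorem sub7_chk_E7 : sub7_chk chevE7 chevE8 iota7 = true := by decide +kernel

/-- EZ-SUB7 (Bool checker + `decide +kernel`; 126 x 126 pairs). -/
theorem subSys_E7 : SubSys chevE7 chevE8 iota7 := sub7_sound _ _ _ sub7_chk_E7

end Cfsg.Agent.Lib.Helper83.Ez
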