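import Mathlib
import Cfsg.Agent.Lib.Helper6.FH.ADefs

/-! # Feit–Higman hive, leaf FH-A5J: an `n`-th root of unity `t` with `t² ≠ 1` has
`t + t⁻¹ = 2 cos (2πj/n)` with `0 < 2j < n`. -/

set_option autoImplicit false

namespace Cfsg.Agent.Lib.Helper6.FH

theorem a5j_exp_add_inv (x : ℝ) :
    Complex.exp ((x : ℂ) * Complex.I) + (Complex.exp ((x : ℂ) * Complex.I))⁻¹ =
      ((2 * Real.cos x : ℝ) : ℂ) := by
  rw [← Complex.exp_neg, Complex.ofReal_mul, Complex.ofReal_cos, Complex.cos]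
  push_cast
  ring_nf

theorem exists_j {n : ℕ} (hn : 1 ≤ n) {t : ℂ} (ht : t ^ n = 1) (ht2 : t ^ 2 ≠ 1) :
    ∃ j : ℕ, 0 < j ∧ 2 * j < n ∧ t + t⁻¹ = ((2 * Real.cos (2 * Real.pi * j / n) : ℝ) : ℂ) := by
  haveI : NeZero n := ⟨by omega⟩
  have hn0 : (n : ℝ) ≠ 0 := by
    have : n ≠ 0 := by omega
    exact_mod_cast this
  have hn0' : (n : ℂ) ≠ 0 := by
    have : n ≠ 0 := by omega
    exact_mod_cast this
  have ht0 : t ≠ 0 := by
    rintro rfl
    rw [zero_pow (by omega)] at ht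
    exact zero_ne_one ht
  have hmem : Units.mk0 t ht0 ∈ rootsOfUnity n ℂ := by
    rw [_root_.mem_rootsOfUnity]
    apply Units.ext
    simpa using ht
  obtain ⟨k, hk, hkt⟩ := (Complex.mem_rootsOfUnity n (Units.mk0 t ht0)).mp hmem
  have hkt' : t = Complex.exp (((2 * Real.pi * k / n : ℝ) : ℂ) * Complex.I) := by
    have : (Units.mk0 t ht0 : ℂ) = t := rfl
    rw [← this, ← hkt]
    congr 1
    push_cast
    field_simp
  have hval : t + t⁻¹ = ((2 * Real.cos (2 * Real.pi * k / n) : ℝ) : ℂ) := by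
    rw [hkt']
    exact a5j_exp_add_inv _
  have hsq : t ^ 2 = Complex.exp (2 * Real.pi * Complex.I * ((2 * k : ℕ) / n)) := by
    rw [hkt', ← Complex.exp_nat_mul]
    congr 1
    push_cast
    field_simp
  have hk0 : k ≠ 0 := by
    rintro rfl
    apply ht2
    rw [hsq]
    simp
  have hk2 : 2 * k ≠ n := by
    intro h
    apply ht2
    rw [hsq, h, div_self hn0', mul_one]
    exact Complex.exp_two_pi_mul_I
  by_cases hlt : 2 * k < n
  · exact ⟨k, by omega, hlt, hval⟩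
  · refine ⟨n - k, by omega, by omega, ?_⟩
    rw [hval]
    congr 2
    have hcast : ((n - k : ℕ) : ℝ) = (n : ℝ) - k := by
      rw [Nat.cast_sub hk.le]
    rw [hcast]
    have e : 2 * Real.pi * ((n : ℝ) - k) / n = 2 * Real.pi - 2 * Real.pi * k / n := by
      field_simp
    rw [e, Real.cos_two_pi_sub]

end Cfsg.Agent.Lib.Helper6.FH
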