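import Mathlib
import Cfsg.Agent.Lib.Helper6.FH.ADefs

/-! # Feit–Higman hive, leaf FH-A6D: rewriting the closed form of the pairing as `Dfun`. -/

set_option autoImplicit false

namespace Cfsg.Agent.Lib.Helper6.FH

theorem to_Dfun {n u v j : ℕ} (hn : 2 ≤ n) (hu : 1 ≤ u) (hv : 1 ≤ v) {t D : ℂ} (ht2 : t ^ 2 ≠ 1) (ht0 : t ≠ 0)
    (hj : t + t⁻¹ = ((2 * Real.cos (2 * Real.pi * j / n) : ℝ) : ℂ))
    (hD : D * (t - t⁻¹) ^ 2 = -2 * n * (((u : ℂ) - 1) ^ 2 / u + ((v : ℂ) - 1) ^ 2 / v +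
      ((u : ℂ) - 1) * ((v : ℂ) - 1) * ((Real.sqrt (u * v) : ℝ) : ℂ) / ((u : ℂ) * v) * (t + t⁻¹) - (t - t⁻¹) ^ 2)) :
    D = ((Dfun n u v j : ℝ) : ℂ) := by
  set c : ℝ := Real.cos (2 * Real.pi * j / n) with hc
  set s : ℝ := Real.sqrt (u * v) with hs
  have huv : (0 : ℝ) < (u : ℝ) * v := by
    have h1 : (0 : ℝ) < u := by exact_mod_cast hu
    have h2 : (0 : ℝ) < v := by exact_mod_cast hv
    positivity
  have hs0 : 0 < s := Real.sqrt_pos.mpr huv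
  have hss : s * s = (u : ℝ) * v := Real.mul_self_sqrt huv.le
  have hssC : (u : ℂ) * v = (s : ℂ) * s := by
    rw [← Complex.ofReal_mul, hss]; push_cast; ring
  have hsC : (s : ℂ) ≠ 0 := by exact_mod_cast hs0.ne'
  have huC : (u : ℂ) ≠ 0 := by
    have : u ≠ 0 := by omega
    exact_mod_cast this
  have hvC : (v : ℂ) ≠ 0 := by
    have : v ≠ 0 := by omega
    exact_mod_cast this
  have h1 : (t - t⁻¹) ^ 2 = (t + t⁻¹) ^ 2 - 4 := by
    field_simp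
    ring
  have hne : (t - t⁻¹) ^ 2 ≠ 0 := by
    have h2 : t - t⁻¹ = (t ^ 2 - 1) / t := by
      field_simp
    rw [h2]
    apply pow_ne_zero
    apply div_ne_zero _ ht0
    exact sub_ne_zero.mpr ht2
  rw [h1, hj] at hne hD
  have hc1 : (1 : ℝ) - c ^ 2 ≠ 0 := by
    intro h
    apply hne
    have : ((2 * c : ℝ) : ℂ) ^ 2 - 4 = ((-4 * (1 - c ^ 2) : ℝ) : ℂ) := by
      push_cast; ring
    rw [this, h]
    simp
  have hc1C : (1 : ℂ) - (c : ℂ) ^ 2 ≠ 0 := by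
    have : ((1 - c ^ 2 : ℝ) : ℂ) ≠ 0 := by exact_mod_cast hc1
    simpa using this
  have huR : (u : ℝ) ≠ 0 := by
    have : u ≠ 0 := by omega
    exact_mod_cast this
  have hvR : (v : ℝ) ≠ 0 := by
    have : v ≠ 0 := by omega
    exact_mod_cast this
  unfold Dfun
  rw [← hc, ← hs]
  push_cast
  rw [hssC] at hD
  push_cast at hD
  rw [eq_div_iff (by
    intro h
    apply hc1C
    have h2 : (2 : ℂ) ≠ 0 := two_ne_zero
    exact (mul_eq_zero.mp h).resolve_left h2)]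
  have key : ((u : ℂ) - 1) * ((v : ℂ) - 1) * (s : ℂ) / ((s : ℂ) * s) =
      ((u : ℂ) - 1) * ((v : ℂ) - 1) / s := by
    field_simp
  rw [key] at hD
  linear_combination (-1 / 2 : ℂ) * hD

end Cfsg.Agent.Lib.Helper6.FH
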