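import Cfsg.Agent.Lib.Helper77.ConjBlocks
import Cfsg.Agent.Lib.Helper77.Cover
import Cfsg.Agent.Lib.Helper77.MinMax
import Cfsg.Agent.Lib.Helper75.Clifford
import Cfsg.Agent.Lib.Helper16.DefectVal
import Cfsg.Agent.Lib.Helper80.Orthogonality

/-!
# Blocks covering an invariant block of a normal subgroup (towards Fong's theorem)
-/

set_option autoImplicit false
set_option linter.unusedSectionVars false

universe u

namespace Cfsg.Agent.Lib.Helper1

open Cfsg
open Cfsg.Agent.Lib.Helper77 Cfsg.Agent.Lib.Helper80 Cfsg.Agent.Lib.Helper81 Cfsg.Agent.Lib.Helper16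
open scoped ComplexConjugate

variable {G : Type u} [Group G] [Fintype G]

/-- `χ` lies over the set `b` of irreducible characters of `N`. -/
def Over (N : Subgroup G) [Fintype N] (b : Set (IrrCharacter N)) (χ : IrrCharacter G) : Prop :=
  ∃ θ ∈ b, classInner (fun n : N => (χ : G → ℂ) n) (θ : N → ℂ) ≠ 0

/-- `b` is invariant under conjugation by `G`. -/
def GInv (N : Subgroup G) [hN : N.Normal] (b : Set (IrrCharacter N)) : Prop :=
  ∀ g : G, ∀ θ ∈ b, ∀ θ' : IrrCharacter N,
    (∀ n : N, (θ' : N → ℂ) n = (θ : N → ℂ) ⟨g * n * g⁻¹, hN.conj_mem n n.2 g⟩) → θ' ∈ b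

variable (N : Subgroup G) [hN : N.Normal] [Fintype N]

theorem irrMap_conjNormal_mem {b : Set (IrrCharacter N)} (hinv : GInv N b) (g : G)
    {θ : IrrCharacter N} (hθ : θ ∈ b) : irrMap (MulAut.conjNormal g : N ≃* N) θ ∈ b := by
  apply hinv g θ hθ
  intro n
  rw [irrMap_apply]
  congr 1

theorem irrMap_conjNormal_image {b : Set (IrrCharacter N)} (hinv : GInv N b) (g : G) :
    irrMap (MulAut.conjNormal g : N ≃* N) '' b = b := by
  ext ψ
  constructor
  · rintro ⟨θ, hθ, rfl⟩
    exact irrMap_conjNormal_mem N hinv g hθ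
  · intro hψ
    refine ⟨irrMap (MulAut.conjNormal g⁻¹ : N ≃* N) ψ, irrMap_conjNormal_mem N hinv g⁻¹ hψ, ?_⟩
    apply Subtype.ext
    funext x
    rw [irrMap_apply, irrMap_apply]
    refine congrArg _ (Subtype.ext ?_)
    simp [MulAut.conjNormal_apply, mul_assoc]

/-- The idempotent coefficients of an invariant set are constant on `G`-classes. -/
theorem blockCoeff_conj_eq {b : Set (IrrCharacter N)} (hinv : GInv N b) (g : G) (n : N) :
    blockCoeff b (⟨g * n * g⁻¹, hN.conj_mem n n.2 g⟩ : N) = blockCoeff b n := by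
  have h := blockCoeff_irrMap_image (MulAut.conjNormal g : N ≃* N) b n
  rw [irrMap_conjNormal_image N hinv g] at h
  rw [h]
  congr 1

theorem extend_blockCoeff_isClassFunction {b : Set (IrrCharacter N)} (hinv : GInv N b) :
    IsClassFunction G (extendByZero N (blockCoeff b)) := by
  intro g h
  by_cases hg : g ∈ N
  · have hg' : h * g * h⁻¹ ∈ N := hN.conj_mem g hg h
    rw [Cfsg.Agent.Lib.Helper25.extendByZero_of_mem N _ hg,
      Cfsg.Agent.Lib.Helper25.extendByZero_of_mem N _ hg']
    exact blockCoeff_conj_eq N hinv h ⟨g, hg⟩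
  · have hg' : h * g * h⁻¹ ∉ N := by
      intro hc
      apply hg
      have := hN.conj_mem _ hc h⁻¹
      simpa [mul_assoc] using this
    rw [Cfsg.Agent.Lib.Helper25.extendByZero_of_not_mem N _ hg,
      Cfsg.Agent.Lib.Helper25.extendByZero_of_not_mem N _ hg']

/-- All constituents of the restriction of a character over an invariant set lie in it. -/
theorem mem_of_over {b : Set (IrrCharacter N)} (hinv : GInv N b) {χ : IrrCharacter G}
    (hχ : Over N b χ) (θ : IrrCharacter N)
    (hθ : classInner (fun n : N => (χ : G → ℂ) n) (θ : N → ℂ) ≠ 0) : θ ∈ b := by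
  obtain ⟨θ₀, hθ₀, hne⟩ := hχ
  obtain ⟨g, hg⟩ := Cfsg.Agent.Lib.Helper75.clifford_conj N χ.2 θ₀.2 θ.2 hne hθ
  apply hinv g θ₀ hθ₀ θ
  intro n
  rw [hg, Cfsg.Agent.Lib.Helper75.conjFun_apply]

open Classical in
/-- The central character of `χ` at the (extended) idempotent of an invariant set `b` is the
indicator of `χ` lying over `b`. -/
theorem omega_extend_blockCoeff {b : Set (IrrCharacter N)} (hinv : GInv N b)
    (χ : IrrCharacter G) :
    omega (χ : G → ℂ) (extendByZero N (blockCoeff b)) = if Over N b χ then 1 else 0 := by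
  have := Fintype.ofFinite (IrrCharacter N)
  have hχ1 : (χ : G → ℂ) 1 ≠ 0 := irr_one_ne_zero χ.2
  unfold omega
  have h1 : ∑ g : G, extendByZero N (blockCoeff b) g * (χ : G → ℂ) g =
      ∑ n : N, blockCoeff b n * (χ : G → ℂ) n := by
    rw [← sum_subgroup_eq (H := N) (fun g => extendByZero N (blockCoeff b) g * (χ : G → ℂ) g)]
    · refine Finset.sum_congr rfl fun n _ => ?_
      rw [Cfsg.Agent.Lib.Helper25.extendByZero_coe]
    · intro x hx
      rw [Cfsg.Agent.Lib.Helper25.extendByZero_of_not_mem N _ hx, zero_mul]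
  have h2 : ∑ n : N, blockCoeff b n * (χ : G → ℂ) n =
      ∑ θ ∈ Finset.univ.filter (fun θ : IrrCharacter N => θ ∈ b),
        (θ : N → ℂ) 1 * classInner (fun n : N => (χ : G → ℂ) n) (θ : N → ℂ) := by
    simp_rw [blockCoeff_eq_sum, Finset.mul_sum, Finset.sum_mul]
    rw [Finset.sum_comm]
    refine Finset.sum_congr rfl fun θ _ => ?_
    unfold classInner
    rw [Finset.mul_sum, Finset.mul_sum]
    refine Finset.sum_congr rfl fun n _ => ?_
    ring
  rw [h1, h2]
  by_cases hO : Over N b χ
  · rw [if_pos hO]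
    have h3 : ∑ θ ∈ Finset.univ.filter (fun θ : IrrCharacter N => θ ∈ b),
        (θ : N → ℂ) 1 * classInner (fun n : N => (χ : G → ℂ) n) (θ : N → ℂ) =
        ∑ θ : IrrCharacter N,
          (θ : N → ℂ) 1 * classInner (fun n : N => (χ : G → ℂ) n) (θ : N → ℂ) := by
      apply Finset.sum_filter_of_ne
      intro θ _ hne
      apply mem_of_over N hinv hO θ
      intro h0
      apply hne
      rw [h0, mul_zero]
    have hcl : ∀ g h : N, (fun n : N => (χ : G → ℂ) n) (h * g * h⁻¹) =
        (fun n : N => (χ : G → ℂ) n) g := by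
      intro g h
      show (χ : G → ℂ) ((h * g * h⁻¹ : N) : G) = (χ : G → ℂ) g
      push_cast
      exact isClassFunction_of_isCharacter χ.2 _ _
    have h4 := Cfsg.Agent.Lib.Helper80.classFun_expansion (fun n : N => (χ : G → ℂ) n) hcl 1
    rw [h3]
    have h5 : ∑ θ : IrrCharacter N,
        (θ : N → ℂ) 1 * classInner (fun n : N => (χ : G → ℂ) n) (θ : N → ℂ) =
        (χ : G → ℂ) 1 := by
      have h6 : (χ : G → ℂ) 1 = ∑ θ : IrrCharacter N,
          ((Nat.card N : ℂ)⁻¹ * ∑ g : N, (χ : G → ℂ) g * conj ((θ : N → ℂ) g)) *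
            (θ : N → ℂ) 1 := h4
      rw [h6]
      refine Finset.sum_congr rfl fun θ _ => ?_
      unfold classInner
      ring
    rw [h5, div_self hχ1]
  · rw [if_neg hO, Finset.sum_eq_zero, zero_div]
    intro θ hθ
    rw [Finset.mem_filter] at hθ
    have : classInner (fun n : N => (χ : G → ℂ) n) (θ : N → ℂ) = 0 := by
      by_contra hne
      exact hO ⟨θ, hθ.2, hne⟩
    rw [this, mul_zero]

/-- The set of irreducible characters of `G` lying over `b`. -/
def overSet (b : Set (IrrCharacter N)) : Set (IrrCharacter G) := {χ | Over N b χ}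

/-- The extended idempotent of an invariant `b` is the idempotent of the characters over `b`. -/
theorem extend_blockCoeff_eq {b : Set (IrrCharacter N)} (hinv : GInv N b) :
    extendByZero N (blockCoeff b) = blockCoeff (overSet N b) := by
  classical
  apply eq_of_omega_eq (extend_blockCoeff_isClassFunction N hinv) (blockCoeff_isClassFunction _)
  intro χ
  rw [omega_extend_blockCoeff N hinv, omega_blockCoeff]
  rfl

theorem extend_blockCoeff_ZS {p : ℕ} {M : Ideal AlgInt} (hpM : IsPModular p M)
    {b : Set (IrrCharacter N)} (hb : IsPBlock M b) (hinv : GInv N b) :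
    ZS M (extendByZero N (blockCoeff b)) := by
  have hM : M.IsPrime := isPrime_of_isPModular hpM
  refine ⟨extend_blockCoeff_isClassFunction N hinv, fun g => ?_⟩
  by_cases hg : g ∈ N
  · rw [Cfsg.Agent.Lib.Helper25.extendByZero_of_mem N _ hg]
    obtain ⟨θ₀, rfl⟩ := hb
    exact memLocalRing_blockCoeff hpM θ₀ _
  · rw [Cfsg.Agent.Lib.Helper25.extendByZero_of_not_mem N _ hg]
    exact memLocalRing_zero hM

/-- The characters over an invariant block form a union of blocks. -/
theorem overSet_saturated {p : ℕ} {M : Ideal AlgInt} (hpM : IsPModular p M)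
    {b : Set (IrrCharacter N)} (hb : IsPBlock M b) (hinv : GInv N b)
    {χ ψ : IrrCharacter G} (hχ : χ ∈ overSet N b)
    (h : SameBlock M (χ : G → ℂ) (ψ : G → ℂ)) : ψ ∈ overSet N b := by
  classical
  have hM : M.IsPrime := isPrime_of_isPModular hpM
  have hZ := extend_blockCoeff_ZS N hpM hb hinv
  have h1 := memLocalIdeal_omega_sub hM (isClassFunction_of_isCharacter χ.2)
    (isClassFunction_of_isCharacter ψ.2) h hZ.1 hZ.2
  rw [omega_extend_blockCoeff N hinv, omega_extend_blockCoeff N hinv,
    if_pos (show Over N b χ from hχ)] at h1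
  by_contra hψ
  rw [if_neg (show ¬ Over N b ψ from hψ), sub_zero] at h1
  exact not_memLocalIdeal_one hM h1

/-- For `χ` over `b` there is a class in `N` at which both the idempotent of `b` and the central
character of `χ` are units. -/
theorem exists_unit_class {p : ℕ} {M : Ideal AlgInt} (hpM : IsPModular p M)
    {b : Set (IrrCharacter N)} (hb : IsPBlock M b) (hinv : GInv N b)
    {χ : IrrCharacter G} (hχ : Over N b χ) :
    ∃ x : N, ¬ MemLocalIdeal M (blockCoeff b x) ∧
      ¬ MemLocalIdeal M (centralChar (χ : G → ℂ) (x : G)) := by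
  classical
  have hM : M.IsPrime := isPrime_of_isPModular hpM
  have hZ := extend_blockCoeff_ZS N hpM hb hinv
  have h1 := omega_extend_blockCoeff N hinv χ
  rw [if_pos hχ, omega_eq_sum_conjClasses (isClassFunction_of_isCharacter χ.2) hZ.1] at h1
  by_contra hcon
  push Not at hcon
  apply not_memLocalIdeal_one hM
  rw [← h1]
  refine memLocalIdeal_sum hM _ _ fun c _ => ?_
  by_cases hc : Quotient.out c ∈ N
  · by_cases hu : MemLocalIdeal M (blockCoeff b ⟨Quotient.out c, hc⟩)
    · rw [Cfsg.Agent.Lib.Helper25.extendByZero_of_mem N _ hc]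
      exact memLocalIdeal_mul_right hM hu (memLocalRing_centralChar hM χ.2 _)
    · exact memLocalIdeal_mul_left hM (hZ.2 _) (hcon ⟨_, hc⟩ hu)
  · rw [Cfsg.Agent.Lib.Helper25.extendByZero_of_not_mem N _ hc, zero_mul]
    exact memLocalIdeal_zero hM

end Cfsg.Agent.Lib.Helper1
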