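import Cfsg.Agent.Lib.Helper1.FongCover

set_option autoImplicit false
set_option linter.unusedSectionVars false

universe u

namespace Cfsg.Agent.Lib.Helper1

open Cfsg
open Cfsg.Agent.Lib.Helper77 Cfsg.Agent.Lib.Helper80 Cfsg.Agent.Lib.Helper81 Cfsg.Agent.Lib.Helper16
open scoped ComplexConjugate

variable {G : Type u} [Group G] [Fintype G]
variable (N : Subgroup G) [hN : N.Normal] [Fintype N]

theorem sum_ite_mem_const {ι : Type*} [Fintype ι] (S : Finset ι)
    [DecidablePred (fun c => c ∈ S)] (k : ℂ) :
    ∑ c, (if c ∈ S then k else 0) = S.card * k := by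
  classical
  have h : Finset.univ.filter (fun c => c ∈ S) = S := by
    ext c
    simp
  rw [← Finset.sum_filter, Finset.sum_const, nsmul_eq_mul, h]

open Classical in
/-- The `N`-classes contained in the `G`-class of `x`. -/
noncomputable def subClasses (x : N) : Finset (ConjClasses N) :=
  Finset.univ.filter (fun c : ConjClasses N => IsConj (x : G) ((Quotient.out c : N) : G))

theorem exists_conjNormal_of_mem_subClasses {x : N} {c : ConjClasses N}
    (hc : c ∈ subClasses N x) : ∃ g : G, (Quotient.out c : N) = MulAut.conjNormal g x := by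
  classical
  unfold subClasses at hc
  rw [Finset.mem_filter] at hc
  obtain ⟨g, hg⟩ := isConj_iff.mp hc.2
  refine ⟨g, Subtype.ext ?_⟩
  rw [← hg]
  rfl

/-- The central character of `χ` at `x ∈ N` is the sum of the central characters of a constituent
`θ` over the `N`-classes in the `G`-class of `x`. -/
theorem centralChar_eq_sum_subClasses {χ : IrrCharacter G} {θ : IrrCharacter N}
    (hne : classInner (fun n : N => (χ : G → ℂ) n) (θ : N → ℂ) ≠ 0) (x : N) :
    centralChar (χ : G → ℂ) (x : G) =
      ∑ c ∈ subClasses N x, centralChar (θ : N → ℂ) (Quotient.out c) := by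
  classical
  have h0 := inducedCentralChar_eq_of_mem N χ.2 θ.2 hne x.2
  have h1 := inducedCentralChar_eq_omega N (θ : N → ℂ) (x : G)
  have h2 := omega_eq_sum_conjClasses (isClassFunction_of_isCharacter θ.2)
    (indClassFn_isClassFunction N (x : G))
  rw [← h0, h1, h2]
  unfold subClasses
  rw [Finset.sum_filter]
  refine Finset.sum_congr (Finset.ext fun c => by simp) fun c _ => ?_
  unfold indClassFn
  by_cases hc : IsConj (x : G) ((Quotient.out c : N) : G)
  · rw [if_pos hc, if_pos hc, one_mul]
  · rw [if_neg hc, if_neg hc, zero_mul]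

/-- Index of the centralizer in `G` versus in `N`. -/
theorem index_centralizer_eq_mul (x : N) :
    (Subgroup.centralizer ({(x : G)} : Set G)).index =
      (subClasses N x).card * (Subgroup.centralizer ({x} : Set N)).index := by
  classical
  have h1 := sum_eq_sum_conjClasses (indClassFn N (x : G)) (indClassFn_isClassFunction N _)
  have h2 : ∑ h : N, indClassFn N (x : G) h =
      ((Subgroup.centralizer ({(x : G)} : Set G)).index : ℂ) := by
    have hcard : (∑ h : N, indClassFn N (x : G) h) =
        ((Finset.univ.filter (fun h : N => IsConj (x : G) (h : G))).card : ℂ) := by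
      rw [Finset.card_filter]
      push_cast
      refine Finset.sum_congr rfl fun h _ => ?_
      unfold indClassFn
      by_cases hc : IsConj (x : G) (h : G)
      · rw [if_pos hc, if_pos hc]
      · rw [if_neg hc, if_neg hc]
    rw [hcard, index_centralizer_eq_card_conj, Nat.card_eq_fintype_card]
    congr 1
    rw [← Fintype.card_subtype]
    refine Fintype.card_congr ?_
    refine ⟨fun h => ⟨(h.1 : G), h.2⟩, fun k => ⟨⟨k.1, ?_⟩, k.2⟩, ?_, ?_⟩
    · obtain ⟨c, hc⟩ := isConj_iff.mp k.2
      rw [← hc]
      exact hN.conj_mem _ x.2 c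
    · intro h
      rfl
    · intro k
      rfl
  have h8 : ∀ c ∈ subClasses N x,
      ((Subgroup.centralizer ({Quotient.out c} : Set N)).index : ℂ) *
        indClassFn N (x : G) (Quotient.out c) =
      ((Subgroup.centralizer ({x} : Set N)).index : ℂ) := by
    intro c hc
    obtain ⟨g, hg⟩ := exists_conjNormal_of_mem_subClasses N (x := x) hc
    have hc' : IsConj (x : G) ((Quotient.out c : N) : G) := by
      unfold subClasses at hc
      rw [Finset.mem_filter] at hc
      exact hc.2
    unfold indClassFn
    rw [if_pos hc', mul_one, hg, ← centralizer_index_mulEquiv (MulAut.conjNormal g : N ≃* N) x]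
  have h9 : ∀ c : ConjClasses N, c ∉ subClasses N x →
      ((Subgroup.centralizer ({Quotient.out c} : Set N)).index : ℂ) *
        indClassFn N (x : G) (Quotient.out c) = 0 := by
    intro c hc
    have hc' : ¬ IsConj (x : G) ((Quotient.out c : N) : G) := by
      intro h
      apply hc
      unfold subClasses
      rw [Finset.mem_filter]
      exact ⟨Finset.mem_univ _, h⟩
    unfold indClassFn
    rw [if_neg hc', mul_zero]
  have key : ((Subgroup.centralizer ({(x : G)} : Set G)).index : ℂ) =
      ((subClasses N x).card : ℂ) * ((Subgroup.centralizer ({x} : Set N)).index : ℂ) := by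
    rw [← h2, h1]
    have h10 : ((subClasses N x).card : ℂ) * ((Subgroup.centralizer ({x} : Set N)).index : ℂ) =
        ∑ c ∈ subClasses N x,
            ((Subgroup.centralizer ({Quotient.out c} : Set N)).index : ℂ) *
              indClassFn N (x : G) (Quotient.out c) := by
      rw [Finset.sum_congr rfl h8, Finset.sum_const, nsmul_eq_mul]
    rw [h10]
    symm
    apply Finset.sum_subset
    · intro c _
      simp only [Finset.mem_univ]
    · intro c _ hc
      exact h9 c hc
  exact_mod_cast key

theorem sameBlock_of_mem_block {M : Ideal AlgInt} (hM : M.IsPrime) {b : Set (IrrCharacter N)}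
    (hb : IsPBlock M b) {θ θ' : IrrCharacter N} (hθ : θ ∈ b) (hθ' : θ' ∈ b) :
    SameBlock M (θ : N → ℂ) (θ' : N → ℂ) := by
  obtain ⟨θ₀, rfl⟩ := hb
  exact sameBlock_trans hM (sameBlock_symm hθ) hθ'

/-- Modulo the local ideal, the central character of `χ` at `x ∈ N` is the number of `N`-classes
in the `G`-class of `x` times the central character of a constituent `θ ∈ b`. -/
theorem centralChar_cong_card_mul {p : ℕ} {M : Ideal AlgInt} (hpM : IsPModular p M)
    {b : Set (IrrCharacter N)} (hb : IsPBlock M b) (hinv : GInv N b)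
    {χ : IrrCharacter G} {θ : IrrCharacter N} (hθ : θ ∈ b)
    (hne : classInner (fun n : N => (χ : G → ℂ) n) (θ : N → ℂ) ≠ 0) (x : N) :
    MemLocalIdeal M (centralChar (χ : G → ℂ) (x : G) -
      ((subClasses N x).card : ℂ) * centralChar (θ : N → ℂ) x) := by
  classical
  have hM : M.IsPrime := isPrime_of_isPModular hpM
  rw [centralChar_eq_sum_subClasses N hne x]
  have h1 : ((subClasses N x).card : ℂ) * centralChar (θ : N → ℂ) x =
      ∑ c ∈ subClasses N x, centralChar (θ : N → ℂ) x := by
    rw [Finset.sum_const, nsmul_eq_mul]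
  rw [h1, ← Finset.sum_sub_distrib]
  refine memLocalIdeal_sum hM _ _ fun c hc => ?_
  obtain ⟨g, hg⟩ := exists_conjNormal_of_mem_subClasses N (x := x) hc
  rw [hg, ← centralChar_comp_mulEquiv (MulAut.conjNormal g : N ≃* N) (θ : N → ℂ) x]
  have h2 : irrMap (MulAut.conjNormal g : N ≃* N) θ ∈ b := irrMap_conjNormal_mem N hinv g hθ
  exact sameBlock_of_mem_block N hM hb h2 hθ x

/-- If the central character of `χ` (over `b`) is a unit at `x ∈ N`, then so are the central
characters of all members of `b`, and the number of `N`-classes in the `G`-class of `x` is prime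
to `p`. -/
theorem units_of_centralChar_unit {p : ℕ} {M : Ideal AlgInt} (hpM : IsPModular p M)
    {b : Set (IrrCharacter N)} (hb : IsPBlock M b) (hinv : GInv N b)
    {χ : IrrCharacter G} (hχ : Over N b χ) (x : N)
    (hu : ¬ MemLocalIdeal M (centralChar (χ : G → ℂ) (x : G))) :
    (∀ θ' ∈ b, ¬ MemLocalIdeal M (centralChar (θ' : N → ℂ) x)) ∧
      ¬ p ∣ (subClasses N x).card := by
  have hM : M.IsPrime := isPrime_of_isPModular hpM
  obtain ⟨θ, hθ, hne⟩ := hχ
  have h1 := centralChar_cong_card_mul N hpM hb hinv hθ hne x
  have hκ : MemLocalRing M (centralChar (θ : N → ℂ) x) := memLocalRing_centralChar hM θ.2 x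
  have hprod : ¬ MemLocalIdeal M
      (((subClasses N x).card : ℂ) * centralChar (θ : N → ℂ) x) := by
    intro h2
    apply hu
    have := memLocalIdeal_add hM h1 h2
    rwa [sub_add_cancel] at this
  constructor
  · intro θ' hθ' h3
    apply hprod
    have h4 : MemLocalIdeal M (centralChar (θ : N → ℂ) x) := by
      have h5 := sameBlock_of_mem_block N hM hb hθ hθ' x
      have := memLocalIdeal_add hM h5 h3
      rwa [sub_add_cancel] at this
    exact memLocalIdeal_mul_left hM (memLocalRing_natCast hM _) h4
  · intro hdvd
    apply hprod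
    exact memLocalIdeal_mul_right hM ((memLocalIdeal_natCast_iff hpM _).mpr hdvd) hκ

end Cfsg.Agent.Lib.Helper1
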