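import Cfsg.Agent.Lib.Helper1.FongCover2
import Cfsg.Agent.Lib.Helper77.DefectGroup
import Cfsg.Agent.Lib.Helper77.DefectConj
import Cfsg.Agent.Lib.Helper77.InducedBlock2
import Cfsg.Agent.Lib.Helper16.RegularDet
import Cfsg.Agent.S0929
import Cfsg.Agent.S0908

set_option autoImplicit false
set_option linter.unusedSectionVars false

universe u

namespace Cfsg.Agent.Lib.Helper1

open Cfsg
open Cfsg.Agent.Lib.Helper77 Cfsg.Agent.Lib.Helper80 Cfsg.Agent.Lib.Helper81 Cfsg.Agent.Lib.Helper16
open scoped ComplexConjugate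

variable {G : Type u} [Group G] [Fintype G]

/-- The idempotent coefficient of a union of blocks is the sum of those of the blocks; so if it is
a unit at `g`, so is the coefficient of one of the blocks. -/
theorem exists_block_coeff_unit {M : Ideal AlgInt} (hM : M.IsPrime) (U : Set (IrrCharacter G))
    (hU : ∀ χ ∈ U, ∀ ψ : IrrCharacter G, SameBlock M (χ : G → ℂ) (ψ : G → ℂ) → ψ ∈ U) (g : G)
    (hg : ¬ MemLocalIdeal M (blockCoeff U g)) :
    ∃ χ ∈ U, ¬ MemLocalIdeal M (blockCoeff (blockOf M (χ : G → ℂ)) g) := by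
  classical
  have := Fintype.ofFinite (IrrCharacter G)
  by_contra hcon
  push Not at hcon
  apply hg
  set F := Finset.univ.filter (fun χ : IrrCharacter G => χ ∈ U) with hF
  set f : IrrCharacter G → ℂ := fun χ => (χ : G → ℂ) 1 * conj ((χ : G → ℂ) g) with hf
  set T := F.image (fun χ : IrrCharacter G => blockOf M (χ : G → ℂ)) with hT
  have h1 : ∑ B' ∈ T, ∑ χ ∈ F.filter (fun χ : IrrCharacter G => blockOf M (χ : G → ℂ) = B'), f χ = ∑ χ ∈ F, f χ :=
    Finset.sum_fiberwise_of_maps_to (fun χ hχ => Finset.mem_image_of_mem _ hχ) f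
  have h2 : blockCoeff U g = ∑ B' ∈ T, blockCoeff B' g := by
    rw [blockCoeff_eq_sum, ← h1, Finset.mul_sum]
    refine Finset.sum_congr rfl fun B' hB' => ?_
    rw [hT, Finset.mem_image] at hB'
    obtain ⟨χ₁, hχ₁, rfl⟩ := hB'
    rw [blockCoeff_eq_sum]
    congr 1
    refine Finset.sum_congr ?_ fun _ _ => rfl
    rw [hF, Finset.mem_filter] at hχ₁
    ext χ
    simp only [hF, Finset.mem_filter, Finset.mem_univ, true_and]
    constructor
    · rintro ⟨_, h⟩
      rw [← h]
      exact self_mem_blockOf hM χ
    · intro h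
      exact ⟨hU χ₁ hχ₁.2 χ h, blockOf_eq_of_mem hM h⟩
  rw [h2]
  refine memLocalIdeal_sum hM _ _ fun B' hB' => ?_
  rw [hT, Finset.mem_image] at hB'
  obtain ⟨χ₁, hχ₁, rfl⟩ := hB'
  rw [hF, Finset.mem_filter] at hχ₁
  exact hcon χ₁ hχ₁.2

/-- If the `p`-subgroups of `C_G(x)` are conjugate into `D` and `|D| = p ^ d`, then the `p`-part of
`|C_G(x)|` is at most `p ^ d`. -/
theorem val_centralizer_le_of_defLE {p : ℕ} [Fact p.Prime] {x : G} {D : Subgroup G} {d : ℕ}
    (h : DefLE p x D) (hD : Nat.card D = p ^ d) :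
    (Nat.card (Subgroup.centralizer ({x} : Set G))).factorization p ≤ d := by
  have hp : p.Prime := Fact.out
  obtain Q : Sylow p (Subgroup.centralizer ({x} : Set G)) := default
  obtain ⟨y, hy⟩ := h ((Q : Subgroup (Subgroup.centralizer ({x} : Set G))).map
    (Subgroup.centralizer ({x} : Set G)).subtype) (Q.2.map _) (Subgroup.map_subtype_le _)
  have h1 : Nat.card ((Q : Subgroup (Subgroup.centralizer ({x} : Set G))).map
      (Subgroup.centralizer ({x} : Set G)).subtype) =
      p ^ (Nat.card (Subgroup.centralizer ({x} : Set G))).factorization p := by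
    rw [Subgroup.card_map_of_injective (Subgroup.subtype_injective _)]
    exact Q.card_eq_multiplicity
  have h2 := Subgroup.card_dvd_of_le hy
  rw [card_conj_smul, h1, hD] at h2
  exact (Nat.pow_dvd_pow_iff_le_right hp.one_lt).mp h2

variable (N : Subgroup G) [hN : N.Normal] [Fintype N]

/-- A class of `N` at which the idempotent of the invariant block `b` and the central character of
some `χ` over `b` are both units is a defect class of `b`; the `p`-part of the centralizer in `G`
is `p ^ (d(b) + ν(|G : N|))`. -/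
theorem defect_class_of_units {p : ℕ} [Fact p.Prime] {M : Ideal AlgInt} (hpM : IsPModular p M)
    {b : Set (IrrCharacter N)} (hb : IsPBlock M b) (hinv : GInv N b)
    {χ : IrrCharacter G} (hχ : Over N b χ) (x : N)
    (h1 : ¬ MemLocalIdeal M (blockCoeff b x))
    (h2 : ¬ MemLocalIdeal M (centralChar (χ : G → ℂ) (x : G))) :
    IsDefectClass M b x ∧
      (Nat.card (Subgroup.centralizer ({x} : Set N))).factorization p = blockDefect p b ∧
      (Nat.card (Subgroup.centralizer ({(x : G)} : Set G))).factorization p =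
        blockDefect p b + N.index.factorization p := by
  have hp : p.Prime := Fact.out
  have hu := units_of_centralChar_unit N hpM hb hinv hχ x h2
  have hdc : IsDefectClass M b x := by
    refine ⟨?_, h1, hu.1⟩
    obtain ⟨θ₀, hθ₀⟩ := hb
    rw [hθ₀]
    exact memLocalRing_blockCoeff hpM θ₀ _
  have hvN := val_centralizer_of_isDefectClass p M hpM hb hdc
  rw [← blockDefect_eq] at hvN
  refine ⟨hdc, hvN, ?_⟩
  have hidx := index_centralizer_eq_mul N x
  have hG : Nat.card G = Nat.card (Subgroup.centralizer ({(x : G)} : Set G)) *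
      (Subgroup.centralizer ({(x : G)} : Set G)).index := (Subgroup.card_mul_index _).symm
  have hN' : Nat.card N = Nat.card (Subgroup.centralizer ({x} : Set N)) *
      (Subgroup.centralizer ({x} : Set N)).index := (Subgroup.card_mul_index _).symm
  have hGN : Nat.card G = Nat.card N * N.index := (Subgroup.card_mul_index N).symm
  have e1 : (Nat.card G).factorization p =
      (Nat.card (Subgroup.centralizer ({(x : G)} : Set G))).factorization p +
        ((Subgroup.centralizer ({(x : G)} : Set G)).index).factorization p := by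
    rw [hG, Nat.factorization_mul Nat.card_pos.ne' Subgroup.index_ne_zero_of_finite]
    rfl
  have e2 : (Nat.card N).factorization p =
      (Nat.card (Subgroup.centralizer ({x} : Set N))).factorization p +
        ((Subgroup.centralizer ({x} : Set N)).index).factorization p := by
    rw [hN', Nat.factorization_mul Nat.card_pos.ne' Subgroup.index_ne_zero_of_finite]
    rfl
  have e3 : (Nat.card G).factorization p =
      (Nat.card N).factorization p + N.index.factorization p := by
    rw [hGN, Nat.factorization_mul Nat.card_pos.ne' Subgroup.index_ne_zero_of_finite]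
    rfl
  have hc0 : (subClasses N x).card ≠ 0 := by
    intro h0
    rw [h0, zero_mul] at hidx
    exact Subgroup.index_ne_zero_of_finite hidx
  have e4 : ((Subgroup.centralizer ({(x : G)} : Set G)).index).factorization p =
      ((Subgroup.centralizer ({x} : Set N)).index).factorization p := by
    rw [hidx, Nat.factorization_mul hc0 Subgroup.index_ne_zero_of_finite]
    show ((subClasses N x).card).factorization p + _ = _
    rw [Nat.factorization_eq_zero_of_not_dvd hu.2, zero_add]
  omega

/-- Fong's theorem on a block of maximal defect covering an invariant block. -/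
theorem fong_cover {p : ℕ} [Fact p.Prime] {M : Ideal AlgInt} (hpM : IsPModular p M)
    {b : Set (IrrCharacter N)} (hb : IsPBlock M b) (hinv : GInv N b)
    {B : Set (IrrCharacter G)} (hB : IsPBlock M B) (hcov : ∃ χ ∈ B, Over N b χ)
    (hmax : ∀ B' : Set (IrrCharacter G), IsPBlock M B' → (∃ χ ∈ B', Over N b χ) →
      blockDefect p B' ≤ blockDefect p B)
    {P : Subgroup G} (hP : IsDefectGroup p M B P) :
    ¬ p ∣ (P ⊔ N).index ∧ IsDefectGroup p M b ((P ⊓ N).subgroupOf N) ∧
      blockDefect p B = blockDefect p b + N.index.factorization p := by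
  classical
  have hp : p.Prime := Fact.out
  have hM : M.IsPrime := isPrime_of_isPModular hpM
  obtain ⟨χ₀, hχ₀B, hχ₀O⟩ := hcov
  obtain ⟨y, hy1, hy2⟩ := exists_unit_class N hpM hb hinv hχ₀O
  obtain ⟨x, hconj, hxC, -⟩ := Cfsg.Agent.S0929.result p M hpM B hB P hP (y : G) ⟨χ₀, hχ₀B, hy2⟩
  obtain ⟨c, hc⟩ := isConj_iff.mp hconj
  have hxN : x ∈ N := by
    rw [← hc]
    exact hN.conj_mem y y.2 c
  set x₀ : N := ⟨x, hxN⟩ with hx₀
  have hx₀eq : x₀ = ⟨c * y * c⁻¹, hN.conj_mem y y.2 c⟩ := Subtype.ext hc.symm
  have hx1 : ¬ MemLocalIdeal M (blockCoeff b x₀) := by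
    rw [hx₀eq, blockCoeff_conj_eq N hinv c y]
    exact hy1
  have hx2 : ¬ MemLocalIdeal M (centralChar (χ₀ : G → ℂ) ((x₀ : N) : G)) := by
    show ¬ MemLocalIdeal M (centralChar (χ₀ : G → ℂ) x)
    rw [← hc, centralChar_conj (isClassFunction_of_isCharacter χ₀.2)]
    exact hy2
  obtain ⟨hdc, hvN, hvG⟩ := defect_class_of_units N hpM hb hinv hχ₀O x₀ hx1 hx2
  -- a block over `b` with unit coefficient at `x`
  have hext : extendByZero N (blockCoeff b) x = blockCoeff b x₀ :=
    Cfsg.Agent.Lib.Helper25.extendByZero_of_mem N _ hxN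
  have hcoef : ¬ MemLocalIdeal M (blockCoeff (overSet N b) x) := by
    rw [← extend_blockCoeff_eq N hinv, hext]
    exact hx1
  obtain ⟨χ', hχ'O, hχ'⟩ := exists_block_coeff_unit hM (overSet N b)
    (fun χ hχ ψ h => overSet_saturated N hpM hb hinv hχ h) x hcoef
  have hB' : IsPBlock M (blockOf M (χ' : G → ℂ)) := ⟨χ', rfl⟩
  have hle1 := hmax _ hB' ⟨χ', self_mem_blockOf hM χ', hχ'O⟩
  obtain ⟨g', hg'⟩ := exists_isDefectClass hpM χ'
  obtain P' : Sylow p (Subgroup.centralizer ({g'} : Set G)) := default
  have hD' : IsDefectGroup p M (blockOf M (χ' : G → ℂ))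
      ((P' : Subgroup (Subgroup.centralizer ({g'} : Set G))).map
        (Subgroup.centralizer ({g'} : Set G)).subtype) := ⟨g', hg', P', rfl⟩
  have hcardD' := Cfsg.Agent.S0908.result p M hpM _ hB' _ hD'
  have hdefle := defLE_of_blockCoeff hpM χ' g' (hg'.2.2 χ' (self_mem_blockOf hM χ')) P' x hχ'
  have hle2 := val_centralizer_le_of_defLE hdefle hcardD'
  have hcardP := Cfsg.Agent.S0908.result p M hpM B hB P hP
  -- upper bound for `|P|`
  have hPle : P ≤ Subgroup.centralizer ({x} : Set G) := by
    intro g hg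
    rw [Subgroup.mem_centralizer_singleton_iff]
    exact Subgroup.mem_centralizer_iff.mp hxC g hg
  set Q : Subgroup N := (P ⊓ N).subgroupOf N with hQ
  have hQle : Q ≤ Subgroup.centralizer ({x₀} : Set N) := by
    intro n hn
    rw [Subgroup.mem_centralizer_singleton_iff]
    have hnP : (n : G) ∈ P := (Subgroup.mem_subgroupOf.mp hn).1
    have := Subgroup.mem_centralizer_singleton_iff.mp (hPle hnP)
    exact Subtype.ext this
  have hPp : IsPGroup p P := isPGroup_of_isDefectGroup hP
  have hQp : IsPGroup p Q := (hPp.to_le inf_le_left).comap_subtype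
  obtain ⟨k, hk⟩ := hQp.exists_card_eq
  have hk_le : k ≤ blockDefect p b := by
    have := Subgroup.card_dvd_of_le hQle
    rw [hk] at this
    rw [← hvN]
    exact (hp.pow_dvd_iff_le_factorization Nat.card_pos.ne').mp this
  have hcardQ : Nat.card Q = Nat.card (N.subgroupOf P) := by
    rw [hQ, ← Subgroup.inf_subgroupOf_right N P,
      Nat.card_congr (Subgroup.subgroupOfEquivOfLe (inf_le_right : P ⊓ N ≤ N)).toEquiv,
      Nat.card_congr (Subgroup.subgroupOfEquivOfLe (inf_le_right : N ⊓ P ≤ P)).toEquiv, inf_comm]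
  have hmul : Nat.card (N.subgroupOf P) * N.relIndex P = Nat.card P := Subgroup.card_mul_index _
  have hrel_dvd : N.relIndex P ∣ p ^ blockDefect p B := by
    rw [← hcardP, ← hmul]
    exact dvd_mul_left _ _
  obtain ⟨j, -, hj⟩ := (Nat.dvd_prime_pow hp).mp hrel_dvd
  have hj_le : j ≤ N.index.factorization p := by
    have := Subgroup.relIndex_dvd_index_of_normal N P
    rw [hj] at this
    exact (hp.pow_dvd_iff_le_factorization Subgroup.index_ne_zero_of_finite).mp this
  have hsum : blockDefect p B = k + j := by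
    have : p ^ blockDefect p B = p ^ (k + j) := by
      rw [pow_add, ← hk, ← hj, hcardQ, hmul, hcardP]
    exact Nat.pow_right_injective hp.two_le this
  have hvG' : (Nat.card (Subgroup.centralizer ({x} : Set G))).factorization p =
      blockDefect p b + N.index.factorization p := hvG
  have hkeq : k = blockDefect p b := by omega
  have hjeq : j = N.index.factorization p := by omega
  refine ⟨?_, ?_, by omega⟩
  · intro hdvd
    have h1 : N.relIndex (P ⊔ N) * (P ⊔ N).index = N.index :=
      Subgroup.relIndex_mul_index le_sup_right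
    rw [Subgroup.relIndex_sup_right, hj] at h1
    have h2 : p ^ (j + 1) ∣ N.index := by
      rw [← h1, pow_succ]
      exact Nat.mul_dvd_mul_left _ hdvd
    rw [hjeq] at h2
    exact Nat.pow_succ_factorization_not_dvd Subgroup.index_ne_zero_of_finite hp h2
  · rw [isDefectGroup_iff]
    refine ⟨x₀, hdc, hQle, ?_⟩
    rw [hk, hkeq, hvN]

end Cfsg.Agent.Lib.Helper1
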