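import Cfsg.Agent.Lib.Helper1.FongCover3
import Cfsg.Agent.Lib.Helper79.CliffordCorr
import Cfsg.Agent.Lib.Helper15.IrrCrit
import Cfsg.Agent.Lib.Helper74.FR7
import Cfsg.Agent.Lib.Helper16.OrbitBlock

/-!
# A height-zero character of an invariant block whose inertia group has index prime to `p`
-/

set_option autoImplicit false
set_option linter.unusedSectionVars false

universe u

namespace Cfsg.Agent.Lib.Helper1

open Cfsg
open Cfsg.Agent.Lib.Helper77 Cfsg.Agent.Lib.Helper80 Cfsg.Agent.Lib.Helper81 Cfsg.Agent.Lib.Helper16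
open scoped ComplexConjugate

variable {G : Type u} [Group G] [Fintype G]
variable (N : Subgroup G) [hN : N.Normal] [Fintype N]

/-- There is a block of maximal defect among those covering `b`. -/
theorem exists_max_defect_cover {p : ℕ} [Fact p.Prime] {M : Ideal AlgInt} (hpM : IsPModular p M)
    {b : Set (IrrCharacter N)} (hb : IsPBlock M b) :
    ∃ B : Set (IrrCharacter G), IsPBlock M B ∧ (∃ χ ∈ B, Over N b χ) ∧
      ∀ B' : Set (IrrCharacter G), IsPBlock M B' → (∃ χ ∈ B', Over N b χ) →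
        blockDefect p B' ≤ blockDefect p B := by
  classical
  have hM : M.IsPrime := isPrime_of_isPModular hpM
  obtain ⟨θ₀, hbθ₀⟩ := hb
  have hθ₀ : θ₀ ∈ b := by rw [hbθ₀]; exact self_mem_blockOf hM θ₀
  obtain ⟨χ₁, hχ₁⟩ := Cfsg.Agent.Lib.Helper74.fr_exists_over N θ₀
  set D : Set ℕ := {d | ∃ B' : Set (IrrCharacter G), IsPBlock M B' ∧ (∃ χ ∈ B', Over N b χ) ∧
    blockDefect p B' = d} with hD
  have hne : D.Nonempty :=
    ⟨_, blockOf M (χ₁ : G → ℂ), ⟨χ₁, rfl⟩, ⟨χ₁, self_mem_blockOf hM χ₁, θ₀, hθ₀, hχ₁⟩, rfl⟩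
  have hbdd : BddAbove D := by
    refine ⟨(Nat.card G).factorization p, ?_⟩
    rintro d ⟨B', -, -, rfl⟩
    rw [blockDefect_eq]
    exact Nat.sub_le _ _
  obtain ⟨B, hB, hcov, hd⟩ := Nat.sSup_mem hne hbdd
  refine ⟨B, hB, hcov, fun B' hB' hcov' => ?_⟩
  rw [hd]
  exact le_csSup hbdd ⟨B', hB', hcov', rfl⟩

/-- An invariant block contains a character of height zero whose inertia group has index prime
to `p`. -/
theorem exists_height_zero_inertia {p : ℕ} [Fact p.Prime] {M : Ideal AlgInt}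
    (hpM : IsPModular p M) {b : Set (IrrCharacter N)} (hb : IsPBlock M b) (hinv : GInv N b) :
    ∃ θ ∈ b, blockHeight p b (θ : N → ℂ) = 0 ∧
      ¬ p ∣ (Cfsg.Agent.Lib.Helper79.inertia N (θ : N → ℂ)).index := by
  classical
  have hp : p.Prime := Fact.out
  have hM : M.IsPrime := isPrime_of_isPModular hpM
  obtain ⟨B, hB, hcov, hmax⟩ := exists_max_defect_cover N hpM hb
  have hB' := hB
  obtain ⟨χ₀, hBχ₀⟩ := hB'
  obtain ⟨P, hP⟩ := exists_isDefectGroup hpM χ₀ (p := p)
  rw [← hBχ₀] at hP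
  obtain ⟨-, -, hdef⟩ := fong_cover N hpM hb hinv hB hcov hmax hP
  have hBne : B.Nonempty := ⟨χ₀, by rw [hBχ₀]; exact self_mem_blockOf hM χ₀⟩
  obtain ⟨χ, hχB, hχdeg⟩ := exists_minDegVal p hBne
  -- `χ` lies over `b`
  obtain ⟨χ₁, hχ₁B, hχ₁O⟩ := hcov
  have hχO : Over N b χ := by
    have h1 : SameBlock M (χ₁ : G → ℂ) (χ : G → ℂ) := by
      rw [hBχ₀] at hχ₁B hχB
      exact sameBlock_trans hM (sameBlock_symm hχ₁B) hχB
    exact overSet_saturated N hpM hb hinv hχ₁O h1
  obtain ⟨θ, hθ⟩ := exists_constituent N χ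
  have hθb : θ ∈ b := mem_of_over N hinv hχO θ hθ
  refine ⟨θ, hθb, ?_⟩
  -- the degree formula
  have hdeg := Cfsg.Agent.Lib.Helper79.clifford_degree N χ.2 θ.2 hθ
  obtain ⟨e, he⟩ := Cfsg.Agent.Lib.Helper15.exists_nat_classInner
    (Cfsg.Agent.Lib.Helper3.IsCharacter.restrict (Cfsg.Agent.Lib.Helper3.IsIrrCharacter.isCharacter χ.2) N)
    (Cfsg.Agent.Lib.Helper3.IsIrrCharacter.isCharacter θ.2)
  obtain ⟨dχ, hdχ0, hdχ1, hdχ2, -⟩ := irr_degree_spec χ
  obtain ⟨dθ, hdθ0, hdθ1, hdθ2, -⟩ := irr_degree_spec θ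
  set idx := (Cfsg.Agent.Lib.Helper79.inertia N (θ : N → ℂ)).index with hidx
  have he0 : e ≠ 0 := by
    intro h0
    apply hθ
    rw [he, h0, Nat.cast_zero]
  have hnat : dχ = e * idx * dθ := by
    have : (dχ : ℂ) = ((e * idx * dθ : ℕ) : ℂ) := by
      rw [← hdχ1, hdeg, he, hdθ1]
      push_cast
      ring
    exact_mod_cast this
  have hidx0 : idx ≠ 0 := Subgroup.index_ne_zero_of_finite
  have hval : dχ.factorization p = e.factorization p + idx.factorization p +
      dθ.factorization p := by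
    rw [hnat, Nat.factorization_mul (Nat.mul_ne_zero he0 hidx0) hdθ0.ne',
      Nat.factorization_mul he0 hidx0]
    rfl
  rw [hdχ2] at hχdeg
  have h1 : minDegVal p b ≤ dθ.factorization p := by
    have := minDegVal_le p hθb
    rwa [hdθ2] at this
  have h2 : minDegVal p B ≤ (Nat.card G).factorization p := minDegVal_le_card p hBne
  have h3 : minDegVal p b ≤ (Nat.card N).factorization p := minDegVal_le_card p ⟨θ, hθb⟩
  have h4 : (Nat.card G).factorization p =
      (Nat.card N).factorization p + N.index.factorization p := by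
    rw [← Subgroup.card_mul_index N,
      Nat.factorization_mul Nat.card_pos.ne' Subgroup.index_ne_zero_of_finite]
    rfl
  rw [blockDefect_eq, blockDefect_eq] at hdef
  constructor
  · rw [blockHeight_eq, hdθ2]
    omega
  · intro hdvd
    have : 0 < idx.factorization p := hp.factorization_pos_of_dvd hidx0 hdvd
    omega

end Cfsg.Agent.Lib.Helper1
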