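import Mathlib
import Cfsg.Agent.Lib.Helper16.GagDefs

/-! # S4840 hive, leaf GAG-K: invariant subgroups under a fixed point free automorphism of
primitive prime divisor order. -/

set_option autoImplicit false
set_option linter.unusedSectionVars false
set_option linter.unusedVariables false
set_option linter.style.haveILetI false

namespace Cfsg.Agent.Lib.Helper16.Gag

universe u v

section action

variable {p : ℕ} [Fact p.Prime] {N : Type v} [CommGroup N] [Finite N] {Γ : Type u} [Group Γ]
  [Finite Γ] {φ : Γ →* MulAut N}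

/-- the restriction of an automorphism to an invariant subgroup of a finite group. -/
noncomputable def gagk_restrict (w : MulAut N) (W : Subgroup N) (hW : ∀ a ∈ W, w a ∈ W) :
    MulAut W :=
  MulEquiv.ofBijective
    ({ toFun := fun a => ⟨w a, hW a a.2⟩
       map_one' := by apply Subtype.ext; simp
       map_mul' := by intro a b; apply Subtype.ext; simp } : W →* W)
    (by
      apply Finite.injective_iff_bijective.mp
      intro a b hab
      have h1 : w (a : N) = w (b : N) := congrArg Subtype.val hab
      exact Subtype.ext (w.injective h1))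

theorem gagk_restrict_apply (w : MulAut N) (W : Subgroup N) (hW : ∀ a ∈ W, w a ∈ W) (a : W) :
    ((gagk_restrict w W hW a : W) : N) = w a := rfl

theorem gagk_restrict_pow (w : MulAut N) (W : Subgroup N) (hW : ∀ a ∈ W, w a ∈ W) (k : ℕ)
    (a : W) : (((gagk_restrict w W hW) ^ k) a : N) = (w ^ k) (a : N) := by
  induction k generalizing a with
  | zero => simp
  | succ k ih =>
    rw [pow_succ, pow_succ, MulAut.mul_apply, MulAut.mul_apply, ih, gagk_restrict_apply]

/-- GAG-K. `w` of prime order `l` (a primitive prime divisor of `p^d - 1`) acting fpf: the `w`-invariant subgroups of `N` are `⊥`, `⊤`. -/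
theorem invariant_subgroup_of_ppd (hexp : ∀ a : N, a ^ p = 1) (w : MulAut N) (l : ℕ)
    [Fact l.Prime] (hw : w ^ l = 1) (hfpf : ∀ a : N, w a = a → a = 1) (d : ℕ)
    (hN : Nat.card N = p ^ d) (hl : ∀ k, 0 < k → k < d → ¬ l ∣ p ^ k - 1) (W : Subgroup N)
    (hW : ∀ a ∈ W, w a ∈ W) : W = ⊥ ∨ W = ⊤ := by
  classical
  have hp : p.Prime := Fact.out
  have hlp : l.Prime := Fact.out
  -- the order of `W`
  have hdvd : Nat.card W ∣ p ^ d := by
    rw [← hN]; exact Subgroup.card_subgroup_dvd_card W
  obtain ⟨k, hkd, hk⟩ := (Nat.dvd_prime_pow hp).mp hdvd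
  -- the restricted automorphism
  set wW := gagk_restrict w W hW with hwW
  have hwWl : wW ^ l = 1 := by
    apply MulEquiv.ext
    intro a
    apply Subtype.ext
    rw [gagk_restrict_pow, hw]
    rfl
  have hPG : IsPGroup l (Subgroup.zpowers wW) := by
    rintro ⟨g, hg⟩
    obtain ⟨j, rfl⟩ := Subgroup.mem_zpowers_iff.mp hg
    refine ⟨1, ?_⟩
    apply Subtype.ext
    show (wW ^ j) ^ l ^ 1 = 1
    rw [pow_one, ← zpow_natCast, ← zpow_mul, mul_comm, zpow_mul, zpow_natCast, hwWl, one_zpow]
  have hmod := hPG.card_modEq_card_fixedPoints W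
  have hfix : Nat.card (MulAction.fixedPoints (Subgroup.zpowers wW) W) = 1 := by
    rw [Nat.card_eq_one_iff_unique]
    constructor
    · constructor
      rintro ⟨a, ha⟩ ⟨b, hb⟩
      apply Subtype.ext
      have h1 : ∀ c : W, c ∈ MulAction.fixedPoints (Subgroup.zpowers wW) W → c = 1 := by
        intro c hc
        have h2 := hc ⟨wW, Subgroup.mem_zpowers wW⟩
        have h3 : wW c = c := h2
        have h4 : w (c : N) = c := by
          have := congrArg Subtype.val h3
          rwa [gagk_restrict_apply] at this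
        exact Subtype.ext (hfpf _ h4)
      show a = b
      exact (h1 a ha).trans (h1 b hb).symm
    · refine ⟨⟨1, ?_⟩⟩
      intro g
      show (g : MulAut W) (1 : W) = 1
      exact map_one _
  rw [hfix, hk] at hmod
  -- `l ∣ p ^ k - 1`
  have hpos : 1 ≤ p ^ k := Nat.one_le_pow _ _ hp.pos
  have hdv : l ∣ p ^ k - 1 := (Nat.modEq_iff_dvd' hpos).mp hmod.symm
  rcases Nat.eq_zero_or_pos k with h0 | h0
  · left
    rw [h0, pow_zero] at hk
    exact Subgroup.eq_bot_of_card_eq W hk
  · right
    have hkd' : k = d := by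
      by_contra hne
      exact hl k h0 (lt_of_le_of_ne hkd hne) hdv
    rw [hkd', ← hN] at hk
    exact Subgroup.eq_top_of_card_eq W hk

end action

end Cfsg.Agent.Lib.Helper16.Gag
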