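import Mathlib
import Cfsg.Agent.Lib.Helper16.GagDefs

/-! # S4840 hive, leaf GAG-M: the centralizer of an irreducible automorphism of an abelian group
is commutative (cyclic module over the commutative ring generated by the automorphism). -/

set_option autoImplicit false
set_option linter.unusedSectionVars false
set_option linter.unusedVariables false
set_option linter.style.haveILetI false

namespace Cfsg.Agent.Lib.Helper16.Gag

universe u v

section action

variable {p : ℕ} [Fact p.Prime] {N : Type v} [CommGroup N] [Finite N] {Γ : Type u} [Group Γ]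
  [Finite Γ] {φ : Γ →* MulAut N}

/-- an automorphism of `N` as an element of the endomorphism ring of `Additive N`. -/
def gagm_T (c : MulAut N) : AddMonoid.End (Additive N) :=
  MonoidHom.toAdditive c.toMonoidHom

theorem gagm_T_apply (c : MulAut N) (a : N) :
    gagm_T c (Additive.ofMul a) = Additive.ofMul (c a) := rfl

theorem gagm_T_mul (c d : MulAut N) : gagm_T (c * d) = gagm_T c * gagm_T d := by
  apply AddMonoidHom.ext
  intro x
  rfl

/-- GAG-M. The centralizer of an irreducible `w` in `MulAut N` is commutative. -/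
theorem comm_of_commute_irred [Nontrivial N] (w c d : MulAut N)
    (hirr : ∀ W : Subgroup N, (∀ a ∈ W, w a ∈ W) → W = ⊥ ∨ W = ⊤)
    (hc : c * w = w * c) (hd : d * w = w * d) : c * d = d * c := by
  classical
  obtain ⟨v, hv⟩ := exists_ne (1 : N)
  set E := AddMonoid.End (Additive N)
  set R : Subring E := Subring.closure {gagm_T w} with hR
  set vh : Additive N := Additive.ofMul v with hvh
  -- commutation facts
  have hRle : R ≤ Subring.centralizer ({gagm_T w} : Set E) := by
    rw [hR, Subring.closure_le]
    intro x hx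
    rw [Set.mem_singleton_iff] at hx
    subst hx
    rw [SetLike.mem_coe, Subring.mem_centralizer_iff]
    intro g hg
    rw [Set.mem_singleton_iff] at hg
    subst hg
    rfl
  have hRcc := Subring.closure_le_centralizer_centralizer ({gagm_T w} : Set E)
  have hcomm : ∀ e : MulAut N, e * w = w * e → ∀ r ∈ R, gagm_T e * r = r * gagm_T e := by
    intro e he r hr
    have h1 : r ∈ Subring.centralizer ((Subring.centralizer ({gagm_T w} : Set E) : Subring E) : Set E) :=
      hRcc hr
    rw [Subring.mem_centralizer_iff] at h1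
    apply h1
    rw [SetLike.mem_coe, Subring.mem_centralizer_iff]
    intro g hg
    rw [Set.mem_singleton_iff] at hg
    subst hg
    rw [← gagm_T_mul, ← gagm_T_mul, he]
  have hRR : ∀ r ∈ R, ∀ r' ∈ R, r * r' = r' * r := by
    intro r hr r' hr'
    have h1 : r' ∈ Subring.centralizer ((Subring.centralizer ({gagm_T w} : Set E) : Subring E) : Set E) :=
      hRcc hr'
    rw [Subring.mem_centralizer_iff] at h1
    exact h1 r (hRle hr)
  -- the cyclic submodule generated by `v`
  let W : Subgroup N :=
    { carrier := {a | ∃ r ∈ R, r vh = Additive.ofMul a}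
      one_mem' := ⟨0, R.zero_mem, rfl⟩
      mul_mem' := by
        rintro a b ⟨r, hr, hra⟩ ⟨r', hr', hrb⟩
        refine ⟨r + r', R.add_mem hr hr', ?_⟩
        show r vh + r' vh = Additive.ofMul (a * b)
        rw [hra, hrb]
        rfl
      inv_mem' := by
        rintro a ⟨r, hr, hra⟩
        refine ⟨-r, R.neg_mem hr, ?_⟩
        show -(r vh) = Additive.ofMul a⁻¹
        rw [hra]
        rfl }
  have hWinv : ∀ a ∈ W, w a ∈ W := by
    rintro a ⟨r, hr, hra⟩
    refine ⟨gagm_T w * r, R.mul_mem (Subring.subset_closure (Set.mem_singleton _)) hr, ?_⟩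
    show gagm_T w (r vh) = Additive.ofMul (w a)
    rw [hra, gagm_T_apply]
  have hvW : v ∈ W := ⟨1, R.one_mem, rfl⟩
  have hWtop : W = ⊤ := by
    rcases hirr W hWinv with h | h
    · exfalso
      rw [h, Subgroup.mem_bot] at hvW
      exact hv hvW
    · exact h
  have hall : ∀ a : N, ∃ r ∈ R, r vh = Additive.ofMul a := by
    intro a
    have : a ∈ W := by rw [hWtop]; exact Subgroup.mem_top a
    exact this
  obtain ⟨rc, hrc, hrcv⟩ := hall (c v)
  obtain ⟨rd, hrd, hrdv⟩ := hall (d v)
  have hcv : gagm_T c vh = rc vh := by rw [hrcv]; rfl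
  have hdv : gagm_T d vh = rd vh := by rw [hrdv]; rfl
  apply MulEquiv.ext
  intro a
  obtain ⟨ra, hra, hrav⟩ := hall a
  have key : ∀ e e' : MulAut N, e * w = w * e → e' * w = w * e' → ∀ re ∈ R, ∀ re' ∈ R,
      gagm_T e vh = re vh → gagm_T e' vh = re' vh →
      Additive.ofMul ((e * e') a) = ra (re' (re vh)) := by
    intro e e' he he' re hre re' hre' hev he'v
    have h1 : Additive.ofMul ((e * e') a) = (gagm_T e * gagm_T e' * ra) vh := by
      show Additive.ofMul (e (e' a)) = gagm_T e (gagm_T e' (ra vh))
      rw [hrav, gagm_T_apply, gagm_T_apply]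
    rw [h1, mul_assoc, hcomm e' he' ra hra, ← mul_assoc, hcomm e he ra hra, mul_assoc]
    show ra (gagm_T e (gagm_T e' vh)) = ra (re' (re vh))
    rw [he'v]
    have h2 : gagm_T e (re' vh) = (gagm_T e * re') vh := rfl
    rw [h2, hcomm e he re' hre']
    show ra (re' (gagm_T e vh)) = ra (re' (re vh))
    rw [hev]
  have h1 := key c d hc hd rc hrc rd hrd hcv hdv
  have h2 := key d c hd hc rd hrd rc hrc hdv hcv
  have h3 : rd (rc vh) = rc (rd vh) := by
    have : (rd * rc) vh = (rc * rd) vh := by rw [hRR rd hrd rc hrc]
    exact this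
  have h4 : Additive.ofMul ((c * d) a) = Additive.ofMul ((d * c) a) := by
    rw [h1, h2, h3]
  exact Additive.ofMul.injective h4

end action

end Cfsg.Agent.Lib.Helper16.Gag
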