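import Mathlib
import Cfsg.Agent.Lib.Helper16.GagDefs
import Cfsg.Agent.S3742

/-! # S4840 hive, leaf GAG-N: automorphisms of odd order of generalized quaternion groups. -/

set_option autoImplicit false
set_option linter.unusedSectionVars false
set_option linter.unusedVariables false
set_option linter.style.haveILetI false

namespace Cfsg.Agent.Lib.Helper16.Gag

open QuaternionGroup

/-- powers of `a j` in a quaternion group. -/
theorem gagn_a_pow (N : ℕ) (j : ZMod (2 * N)) (k : ℕ) :
    (a j : QuaternionGroup N) ^ k = a ((k : ZMod (2 * N)) * j) := by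
  induction k with
  | zero => rw [pow_zero, Nat.cast_zero, zero_mul, a_zero]
  | succ k ih =>
    rw [pow_succ, ih, a_mul_a]
    congr 1
    push_cast
    ring

/-- the `Q8` case: `|Aut Q8| = 24`. -/
theorem gagn_q8 (N : ℕ) (hN : N = 2) (α : MulAut (QuaternionGroup N)) (m : ℕ)
    (hm : α ^ m = 1) (hodd : Odd m) (h3 : ¬ 3 ∣ m) : α = 1 := by
  subst hN
  obtain ⟨e⟩ := Cfsg.Agent.S3742.result
  have hcard : Nat.card (MulAut (QuaternionGroup 2)) = 24 := by
    rw [Nat.card_congr e.toEquiv, Nat.card_eq_fintype_card, Fintype.card_perm, Fintype.card_fin]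
    rfl
  have h1 : orderOf α ∣ 24 := hcard ▸ orderOf_dvd_natCard α
  have h2 : orderOf α ∣ m := orderOf_dvd_of_pow_eq_one hm
  have hc2 : Nat.Coprime 2 m := hodd.coprime_two_left
  have hc3 : Nat.Coprime 3 m := (Nat.Prime.coprime_iff_not_dvd Nat.prime_three).mpr h3
  have hcop : Nat.Coprime 24 m := by
    have : (24 : ℕ) = 2 ^ 3 * 3 := by norm_num
    rw [this]
    exact Nat.Coprime.mul_left (hc2.pow_left 3) hc3
  have h4 : orderOf α = 1 := Nat.eq_one_of_dvd_coprimes hcop h1 h2
  exact orderOf_eq_one_iff.mp h4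

/-- the case of `Q_{4·2^n}`, `n ≥ 2`. -/
theorem gagn_big (N n : ℕ) (hN : N = 2 ^ n) (h2 : 2 ≤ n) (α : MulAut (QuaternionGroup N)) (m : ℕ)
    (hm : α ^ m = 1) (hodd : Odd m) : α = 1 := by
  have hN4 : 4 ≤ N := by
    rw [hN]
    calc 4 = 2 ^ 2 := rfl
      _ ≤ 2 ^ n := Nat.pow_le_pow_right (by norm_num) h2
  haveI : NeZero N := ⟨by omega⟩
  have h2N : 2 * N = 2 ^ (n + 1) := by rw [hN, pow_succ']
  -- `α (a 1) = a j`
  obtain ⟨j, hj⟩ : ∃ j, α (a 1) = a j := by
    rcases hx : α (a 1) with j | j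
    · exact ⟨j, rfl⟩
    · exfalso
      have h1 : orderOf (α (a 1)) = 2 * N := by rw [MulEquiv.orderOf_eq, orderOf_a_one]
      rw [hx, orderOf_xa] at h1
      omega
  -- `α (xa 0) = xa k`
  obtain ⟨k, hk⟩ : ∃ k, α (xa 0) = xa k := by
    rcases hx : α (xa 0) with k | k
    · exfalso
      have hcomm : α (xa 0) * α (a 1) = α (a 1) * α (xa 0) := by
        rw [hx, hj, a_mul_a, a_mul_a, add_comm]
      rw [← map_mul, ← map_mul] at hcomm
      have h3 := α.injective hcomm
      rw [xa_mul_a, a_mul_xa] at h3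
      have h4 : (0 + 1 : ZMod (2 * N)) = 0 - 1 := xa.inj h3
      have h5 : ((2 : ℕ) : ZMod (2 * N)) = 0 := by
        push_cast
        linear_combination h4
      rw [ZMod.natCast_eq_zero_iff] at h5
      have := Nat.le_of_dvd (by norm_num) h5
      omega
    · exact ⟨k, rfl⟩
  have haj : ∀ i : ZMod (2 * N), α (a i) = a (i * j) := by
    intro i
    have h1 : (a i : QuaternionGroup N) = (a 1) ^ i.val := by
      rw [a_one_pow, ZMod.natCast_zmod_val i]
    rw [h1, map_pow, hj, gagn_a_pow, ZMod.natCast_zmod_val i]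
  have hpow : ∀ t : ℕ, (α ^ t) (a 1) = a (j ^ t) := by
    intro t
    induction t with
    | zero => simp
    | succ t ih => rw [pow_succ', MulAut.mul_apply, ih, haj, pow_succ]
  have hjm : j ^ m = 1 := by
    have h1 := hpow m
    rw [hm, MulAut.one_apply] at h1
    exact (a.inj h1).symm
  have hj1 : j = 1 := by
    have hmpos : 0 < m := hodd.pos
    have hju : IsUnit j := IsUnit.of_pow_eq_one hjm hmpos.ne'
    obtain ⟨u, rfl⟩ := hju
    have hum : u ^ m = 1 := by
      apply Units.ext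
      rw [Units.val_pow_eq_pow_val, hjm]
      rfl
    have hcard : Nat.card (ZMod (2 * N))ˣ = 2 ^ n := by
      rw [Nat.card_eq_fintype_card, ZMod.card_units_eq_totient, h2N,
        Nat.totient_prime_pow Nat.prime_two (Nat.succ_pos n)]
      simp
    have h1 : orderOf u ∣ m := orderOf_dvd_of_pow_eq_one hum
    have h2' : orderOf u ∣ 2 ^ n := hcard ▸ orderOf_dvd_natCard u
    have hcop : Nat.Coprime m (2 ^ n) := Nat.Coprime.pow_right n hodd.coprime_two_right
    have h4 : orderOf u = 1 := Nat.eq_one_of_dvd_coprimes hcop h1 h2'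
    rw [orderOf_eq_one_iff] at h4
    rw [h4]
    rfl
  have ha : ∀ i, α (a i) = a i := by
    intro i
    rw [haj, hj1, mul_one]
  have hxa : ∀ i, α (xa i) = xa (k + i) := by
    intro i
    have h1 : (xa i : QuaternionGroup N) = xa 0 * a i := by rw [xa_mul_a, zero_add]
    rw [h1, map_mul, hk, ha, xa_mul_a]
  have hpow2 : ∀ t : ℕ, (α ^ t) (xa 0) = xa ((t : ZMod (2 * N)) * k) := by
    intro t
    induction t with
    | zero => rw [pow_zero, Nat.cast_zero, zero_mul]; rfl
    | succ t ih =>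
      rw [pow_succ', MulAut.mul_apply, ih, hxa]
      congr 1
      push_cast
      ring
  have hmk : (m : ZMod (2 * N)) * k = 0 := by
    have h1 := hpow2 m
    rw [hm, MulAut.one_apply] at h1
    exact (xa.inj h1).symm
  have hk0 : k = 0 := by
    have hmu : IsUnit (m : ZMod (2 * N)) := by
      rw [ZMod.isUnit_iff_coprime, h2N]
      exact Nat.Coprime.pow_right _ hodd.coprime_two_right
    exact (hmu.mul_right_eq_zero).mp hmk
  apply MulEquiv.ext
  intro g
  rcases g with i | i
  · rw [ha]; rfl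
  · rw [hxa, hk0, zero_add]; rfl

/-- GAG-N. An automorphism of `Q_{4·2^n}` (`n ≥ 1`) of odd order `m` (with `3 ∤ m` when `n = 1`)
is trivial. -/
theorem quat_aut_trivial (n : ℕ) (hn : 1 ≤ n) (α : MulAut (QuaternionGroup (2 ^ n))) (m : ℕ)
    (hm : α ^ m = 1) (hodd : Odd m) (h3 : n = 1 → ¬ 3 ∣ m) : α = 1 := by
  rcases Nat.lt_or_ge n 2 with h | h
  · have hn1 : n = 1 := by omega
    exact gagn_q8 (2 ^ n) (by rw [hn1]; rfl) α m hm hodd (h3 hn1)
  · exact gagn_big (2 ^ n) n rfl h α m hm hodd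

end Cfsg.Agent.Lib.Helper16.Gag
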