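import Mathlib

set_option autoImplicit false

namespace Cfsg.Agent.Lib.Helper1

open scoped IsMulCommutative

section Reindex
variable {G : Type*} [Group G]

/-- Reindexing a product over `G ⧸ U` of a function constant on left cosets of `U`. -/
theorem prod_quotient_translate {M : Type*} [CommMonoid M] (U : Subgroup G) [Fintype (G ⧸ U)]
    (F : G → M) (hF : ∀ g, ∀ u ∈ U, F (g * u) = F g) (x : G) :
    ∏ q : G ⧸ U, F (x * q.out) = ∏ q : G ⧸ U, F q.out := by
  have hconst : ∀ g g' : G, (QuotientGroup.mk g : G ⧸ U) = QuotientGroup.mk g' → F g = F g' := by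
    intro g g' h
    rw [QuotientGroup.eq] at h
    have := hF g _ h
    rw [mul_inv_cancel_left] at this
    exact this.symm
  have h1 : ∀ q : G ⧸ U, F (x * q.out) = F ((x • q).out) := by
    intro q
    apply hconst
    rw [QuotientGroup.out_eq']
    conv_rhs => rw [← QuotientGroup.out_eq' q]
    rfl
  simp_rw [h1]
  exact Fintype.prod_equiv (MulAction.toPerm x) _ _ (fun q => rfl)

end Reindex

section Cocycle
variable {G : Type*} [Group G] (K : Subgroup G) [K.Normal] [IsMulCommutative K]

theorem conjNormal_of_mem (k : K) (y : K) : MulAut.conjNormal (k : G) y = y := by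
  apply Subtype.ext
  rw [MulAut.conjNormal_apply]
  have : (k * y * k⁻¹ : K) = y := by rw [mul_comm k y, mul_inv_cancel_right]
  exact congrArg Subtype.val this

/-- Averaging lemma (injectivity of restriction on `H¹`): a cocycle `G → K` which is right
`U`-invariant, where the index of `U` is coprime to `|K|`, is a coboundary. -/
theorem cocycle_coboundary [Finite G] (U : Subgroup G) (hcop : (Nat.card K).Coprime U.index)
    (F : G → K) (hcoc : ∀ x g, F (x * g) = F x * MulAut.conjNormal x (F g))
    (hU : ∀ g, ∀ u ∈ U, F (g * u) = F g) :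
    ∃ k : K, ∀ x, F x = k * (MulAut.conjNormal x k)⁻¹ := by
  classical
  let _ : Fintype (G ⧸ U) := Fintype.ofFinite _
  set m : K := ∏ q : G ⧸ U, F q.out with hm
  have key : ∀ x, m = F x ^ U.index * MulAut.conjNormal x m := by
    intro x
    have h1 := prod_quotient_translate U F hU x
    rw [← hm] at h1
    calc m = ∏ q : G ⧸ U, F (x * q.out) := h1.symm
      _ = ∏ q : G ⧸ U, (F x * MulAut.conjNormal x (F q.out)) := by simp_rw [hcoc x]
      _ = F x ^ U.index * MulAut.conjNormal x m := by
          rw [Finset.prod_mul_distrib, Finset.prod_const, Finset.card_univ, ← map_prod, ← hm,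
            ← Nat.card_eq_fintype_card, Subgroup.index]
  obtain ⟨k, hk⟩ := (powCoprime hcop).surjective m
  rw [powCoprime_apply] at hk
  refine ⟨k, fun x => ?_⟩
  apply (powCoprime hcop).injective
  rw [powCoprime_apply, powCoprime_apply, mul_pow, inv_pow, ← map_pow, hk]
  have := key x
  rw [eq_mul_inv_iff_mul_eq]
  exact this.symm

end Cocycle


section KPart
variable {G : Type*} [Group G] (K : Subgroup G) [K.Normal] [IsMulCommutative K]

omit [K.Normal] [IsMulCommutative K] in
theorem existsUnique_kpart {H : Subgroup G} (hc : Subgroup.IsComplement' K H) (g : G) :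
    ∃! k : K, (k : G)⁻¹ * g ∈ H := by
  obtain ⟨⟨k, h⟩, hkh, huniq⟩ := hc.existsUnique g
  simp only at hkh
  refine ⟨⟨k.1, k.2⟩, ?_, ?_⟩
  · show (k.1)⁻¹ * g ∈ H
    rw [← hkh, inv_mul_cancel_left]
    exact h.2
  · intro k' hk'
    have := huniq (⟨k'.1, k'.2⟩, ⟨_, hk'⟩) (by simp)
    have h2 := (Prod.ext_iff.mp this).1
    apply Subtype.ext
    exact congrArg Subtype.val h2

/-- The `K`-component of `g` with respect to a complement `H` of `K`. -/
noncomputable def kpart {H : Subgroup G} (hc : Subgroup.IsComplement' K H) (g : G) : K :=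
  Classical.choose (existsUnique_kpart K hc g).exists

theorem kpart_spec {H : Subgroup G} (hc : Subgroup.IsComplement' K H) (g : G) :
    ((kpart K hc g : K) : G)⁻¹ * g ∈ H :=
  Classical.choose_spec (existsUnique_kpart K hc g).exists

theorem kpart_eq_of {H : Subgroup G} (hc : Subgroup.IsComplement' K H) (g : G) (k : K)
    (hk : (k : G)⁻¹ * g ∈ H) : kpart K hc g = k :=
  (existsUnique_kpart K hc g).unique (kpart_spec K hc g) hk

theorem kpart_eq_one_iff {H : Subgroup G} (hc : Subgroup.IsComplement' K H) (g : G) :
    kpart K hc g = 1 ↔ g ∈ H := by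
  constructor
  · intro h
    have := kpart_spec K hc g
    rw [h] at this
    simpa using this
  · intro h
    apply kpart_eq_of
    simpa using h

theorem kpart_of_mem {H : Subgroup G} (hc : Subgroup.IsComplement' K H) (k : K) :
    kpart K hc (k : G) = k := by
  apply kpart_eq_of
  simp

theorem kpart_cocycle {H : Subgroup G} (hc : Subgroup.IsComplement' K H) (x g : G) :
    kpart K hc (x * g) = kpart K hc x * MulAut.conjNormal x (kpart K hc g) := by
  apply kpart_eq_of
  rw [mul_comm (kpart K hc x)]
  have h1 := kpart_spec K hc x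
  have h2 := kpart_spec K hc g
  have h3 := H.mul_mem h1 h2
  rw [Subgroup.coe_mul, MulAut.conjNormal_apply]
  convert h3 using 1
  group

end KPart

end Cfsg.Agent.Lib.Helper1
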