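import Cfsg.Agent.Lib.Helper1.BL1

/-!
# Local analysis of an abelian Sylow 2-subgroup with three involutions
-/

set_option autoImplicit false
set_option linter.unusedSectionVars false

universe u

namespace Cfsg.Agent.Lib.Helper1.HC

open Cfsg Subgroup Cfsg.Agent.Lib.Helper1.BL

section General

variable {G : Type u} [Group G] [Finite G] {p : ℕ} [Fact p.Prime] (P : Sylow p G)

/-- a `p`-element normalizing `P` lies in `P` -/
theorem mem_of_pElement {x : G} (hx : x ∈ normalizer ((P : Subgroup G) : Set G))
    (hxp : ∃ k : ℕ, orderOf x = p ^ k) : x ∈ (P : Subgroup G) := by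
  obtain ⟨k, hk⟩ := hxp
  have h1 : IsPGroup p ↥(zpowers x) := IsPGroup.of_card (n := k) (by rw [Nat.card_zpowers, hk])
  have h2 : zpowers x ≤ normalizer ((P : Subgroup G) : Set G) := by
    rw [zpowers_le]; exact hx
  have h3 : IsPGroup p ↥(zpowers x ⊔ (P : Subgroup G)) :=
    IsPGroup.to_sup_of_normal_right' h1 P.2 h2
  have h4 := P.is_maximal' h3 le_sup_right
  have h5 : x ∈ zpowers x ⊔ (P : Subgroup G) :=
    (le_sup_left : zpowers x ≤ zpowers x ⊔ (P : Subgroup G)) (mem_zpowers x)
  rw [h4] at h5
  exact h5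

theorem conj_mem {g : G} (hg : g ∈ normalizer ((P : Subgroup G) : Set G)) {x : G}
    (hx : x ∈ (P : Subgroup G)) : g * x * g⁻¹ ∈ (P : Subgroup G) :=
  (mem_normalizer_iff.mp hg x).mp hx

/-- an automorphism of order prime to `p` of an abelian `p`-group that is trivial on the
elements of order `p` is trivial -/
theorem mem_centralizer_of_coprime [IsMulCommutative P] {g : G}
    (hg : g ∈ normalizer ((P : Subgroup G) : Set G)) {k : ℕ} (hk : ¬ p ∣ k)
    (hgk : g ^ k ∈ centralizer ((P : Subgroup G) : Set G))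
    (h1 : ∀ x ∈ (P : Subgroup G), x ^ p = 1 → g * x * g⁻¹ = x) :
    g ∈ centralizer ((P : Subgroup G) : Set G) := by
  have hp : p.Prime := Fact.out
  have claim : ∀ j : ℕ, ∀ x ∈ (P : Subgroup G), x ^ (p ^ j) = 1 → g * x * g⁻¹ = x := by
    intro j
    induction j with
    | zero =>
      intro x _ hx
      rw [pow_zero, pow_one] at hx
      rw [hx]; group
    | succ j ih =>
      intro x hx hxj
      have hxp : x ^ p ∈ (P : Subgroup G) := pow_mem hx p
      have hxp' : (x ^ p) ^ (p ^ j) = 1 := by rw [← pow_mul, ← pow_succ']; exact hxj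
      have e1 := ih (x ^ p) hxp hxp'
      obtain ⟨y, hy⟩ : ∃ y, y = g * x * g⁻¹ := ⟨_, rfl⟩
      have hyP : y ∈ (P : Subgroup G) := by rw [hy]; exact conj_mem P hg hx
      obtain ⟨w, hw⟩ : ∃ w, w = y * x⁻¹ := ⟨_, rfl⟩
      have hwP : w ∈ (P : Subgroup G) := by rw [hw]; exact mul_mem hyP (inv_mem hx)
      have hcomm : Commute y x⁻¹ := comm_of_mem P hyP (inv_mem hx)
      have hyp : y ^ p = x ^ p := by rw [hy, conj_pow]; exact e1
      have hwp : w ^ p = 1 := by
        rw [hw, hcomm.mul_pow, hyp, inv_pow, mul_inv_cancel]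
      have hgw : g * w * g⁻¹ = w := h1 w hwP hwp
      have hyx : y = w * x := by rw [hw]; group
      have hi : ∀ i : ℕ, g ^ i * x * (g ^ i)⁻¹ = w ^ i * x := by
        intro i
        induction i with
        | zero => simp
        | succ i ihi =>
          have e2 : g ^ (i + 1) * x * (g ^ (i + 1))⁻¹ = g * (g ^ i * x * (g ^ i)⁻¹) * g⁻¹ := by
            rw [pow_succ']; group
          rw [e2, ihi]
          have e3 : g * (w ^ i * x) * g⁻¹ = (g * w * g⁻¹) ^ i * (g * x * g⁻¹) := by
            rw [conj_pow]; group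
          rw [e3, hgw, ← hy, hyx, pow_succ, mul_assoc]
      have hk1 := hi k
      have hkx : g ^ k * x * (g ^ k)⁻¹ = x := by
        have := (mem_centralizer_iff.mp hgk) x hx
        rw [← this]; group
      rw [hkx] at hk1
      have hwk : w ^ k = 1 := by
        have : w ^ k * x = 1 * x := by rw [← hk1, one_mul]
        exact mul_right_cancel this
      have ho1 : orderOf w ∣ k := orderOf_dvd_of_pow_eq_one hwk
      have ho2 : orderOf w ∣ p := orderOf_dvd_of_pow_eq_one hwp
      have hcop : Nat.Coprime k p := ((Nat.Prime.coprime_iff_not_dvd hp).mpr hk).symm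
      have ho3 : orderOf w = 1 := Nat.eq_one_of_dvd_coprimes hcop ho1 ho2
      have hw1 : w = 1 := orderOf_eq_one_iff.mp ho3
      rw [← hy, hyx, hw1, one_mul]
  rw [mem_centralizer_iff]
  intro x hx
  obtain ⟨j, hj⟩ := P.2 ⟨x, hx⟩
  have hj' : x ^ (p ^ j) = 1 := by
    have := congrArg Subtype.val hj
    simpa using this
  have := claim j x hx hj'
  calc x * g = (g * x * g⁻¹) * g := by rw [this]
    _ = g * x := by group

/-- a power of exponent prime to `p` lands in `P` -/
theorem exists_pow_mem {g : G} (hg : g ∈ normalizer ((P : Subgroup G) : Set G)) :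
    ∃ k : ℕ, ¬ p ∣ k ∧ g ^ k ∈ (P : Subgroup G) := by
  have hp : p.Prime := Fact.out
  have hn : Nat.card G ≠ 0 := Nat.card_pos.ne'
  refine ⟨Nat.card G / p ^ (Nat.card G).factorization p, Nat.not_dvd_ordCompl hp hn, ?_⟩
  apply mem_of_pElement P (pow_mem hg _)
  have h1 : (g ^ (Nat.card G / p ^ (Nat.card G).factorization p)) ^
      (p ^ (Nat.card G).factorization p) = 1 := by
    rw [← pow_mul, Nat.div_mul_cancel (Nat.ordProj_dvd _ _)]
    exact pow_card_eq_one'
  have h2 := orderOf_dvd_of_pow_eq_one h1
  obtain ⟨b, _, hb⟩ := (Nat.dvd_prime_pow hp).mp h2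
  exact ⟨b, hb⟩

end General

section Two

variable {G : Type u} [Group G] [Finite G] (P : Sylow 2 G)

/-- the elements of `P` of order at most two -/
def Om : Set G := {x | x ∈ (P : Subgroup G) ∧ x ^ 2 = 1}

theorem key [IsMulCommutative P] (hΩ : (Om P).ncard = 4) {g : G}
    (hg : g ∈ normalizer ((P : Subgroup G) : Set G)) {t : G} (ht : t ∈ (P : Subgroup G))
    (ht1 : t ≠ 1) (ht2 : t ^ 2 = 1) (hgt : g * t * g⁻¹ = t) :
    g ∈ centralizer ((P : Subgroup G) : Set G) := by
  obtain ⟨k, hk, hgk⟩ := exists_pow_mem P hg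
  have hgkC : g ^ k ∈ centralizer ((P : Subgroup G) : Set G) := le_centralizer_self P hgk
  apply mem_centralizer_of_coprime P hg hk hgkC
  intro s hs hs2
  by_cases hs1 : s = 1
  · rw [hs1]; group
  by_cases hst : s = t
  · rw [hst]; exact hgt
  -- the four elements
  have hcomm : s * t = t * s := comm_of_mem P hs ht
  have hsub : ({1, t, s, s * t} : Set G) ⊆ Om P := by
    intro x hx
    simp only [Set.mem_insert_iff, Set.mem_singleton_iff] at hx
    rcases hx with rfl | rfl | rfl | rfl
    · exact ⟨one_mem _, one_pow 2⟩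
    · exact ⟨ht, ht2⟩
    · exact ⟨hs, hs2⟩
    · refine ⟨mul_mem hs ht, ?_⟩
      rw [(show Commute s t from hcomm).mul_pow, hs2, ht2, one_mul]
  have hst1 : s * t ≠ 1 := by
    intro h
    apply hst
    have : s * t = t * t := by rw [h, ← pow_two, ht2]
    exact mul_right_cancel this
  have hstt : s * t ≠ t := by
    intro h
    apply hs1
    have : s * t = 1 * t := by rw [h, one_mul]
    exact mul_right_cancel this
  have hsts : s * t ≠ s := by
    intro h
    apply ht1
    have : s * t = s * 1 := by rw [h, mul_one]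
    exact mul_left_cancel this
  have hcard : ({1, t, s, s * t} : Set G).ncard = 4 := by
    rw [Set.ncard_insert_of_notMem, Set.ncard_insert_of_notMem, Set.ncard_pair]
    · exact fun h => hsts h.symm
    · simp only [Set.mem_insert_iff, Set.mem_singleton_iff, not_or]
      exact ⟨fun h => hst h.symm, fun h => hstt h.symm⟩
    · simp only [Set.mem_insert_iff, Set.mem_singleton_iff, not_or]
      exact ⟨fun h => ht1 h.symm, fun h => hs1 h.symm, fun h => hst1 h.symm⟩
  have hfin : (Om P).Finite := Set.toFinite _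
  have heq : ({1, t, s, s * t} : Set G) = Om P :=
    Set.eq_of_subset_of_ncard_le hsub (by rw [hΩ, hcard]) hfin
  have hy : g * s * g⁻¹ ∈ Om P := by
    refine ⟨conj_mem P hg hs, ?_⟩
    rw [conj_pow, hs2]; group
  rw [← heq] at hy
  simp only [Set.mem_insert_iff, Set.mem_singleton_iff] at hy
  rcases hy with h | h | h | h
  · exfalso
    apply hs1
    have : g * s * g⁻¹ = g * 1 * g⁻¹ := by rw [h]; group
    exact mul_left_cancel (mul_right_cancel this)
  · exfalso
    apply hst
    have : g * s * g⁻¹ = g * t * g⁻¹ := by rw [h, hgt]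
    exact mul_left_cancel (mul_right_cancel this)
  · exact h
  · exfalso
    have h' : g * (s * t) * g⁻¹ = s := by
      have : g * (s * t) * g⁻¹ = (g * s * g⁻¹) * (g * t * g⁻¹) := by group
      rw [this, h, hgt, mul_assoc, ← pow_two, ht2, mul_one]
    have hi : ∀ i : ℕ, g ^ i * s * (g ^ i)⁻¹ = if Even i then s else s * t := by
      intro i
      induction i with
      | zero => simp
      | succ i ihi =>
        have e2 : g ^ (i + 1) * s * (g ^ (i + 1))⁻¹ = g * (g ^ i * s * (g ^ i)⁻¹) * g⁻¹ := by
          rw [pow_succ']; group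
        rw [e2, ihi]
        by_cases hev : Even i
        · rw [if_pos hev, if_neg (by rw [Nat.even_add_one]; exact not_not.mpr hev), h]
        · rw [if_neg hev, if_pos (by rw [Nat.even_add_one]; exact hev), h']
    have hodd : ¬ Even k := by
      rw [even_iff_two_dvd]; exact hk
    have hk1 := hi k
    rw [if_neg hodd] at hk1
    have hkx : g ^ k * s * (g ^ k)⁻¹ = s := by
      have := (mem_centralizer_iff.mp hgkC) s hs
      rw [← this]; group
    rw [hkx] at hk1
    exact hsts hk1.symm

theorem freeAct [IsMulCommutative P] (hΩ : (Om P).ncard = 4) : FreeAct P := by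
  intro y hy hy1
  apply le_antisymm
  · rintro g ⟨hgy, hgN⟩
    -- an involution among the powers of `y`
    obtain ⟨a, ha⟩ := (IsPGroup.iff_orderOf.mp P.2) ⟨y, hy⟩
    rw [Subgroup.orderOf_mk] at ha
    have ha0 : a ≠ 0 := by
      rintro rfl
      rw [pow_zero, orderOf_eq_one_iff] at ha
      exact hy1 ha
    obtain ⟨b, rfl⟩ := Nat.exists_eq_succ_of_ne_zero ha0
    have hgy' : g * y = y * g := mem_centralizer_singleton_iff.mp hgy
    have ht2 : (y ^ 2 ^ b) ^ 2 = 1 := by
      rw [← pow_mul, ← pow_succ, ← ha]; exact pow_orderOf_eq_one y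
    have ht1 : y ^ 2 ^ b ≠ 1 := by
      intro h
      have := orderOf_dvd_of_pow_eq_one h
      rw [ha] at this
      have h2 := Nat.le_of_dvd (by positivity) this
      rw [pow_succ] at h2
      have : 0 < 2 ^ b := by positivity
      omega
    have hgt : g * y ^ 2 ^ b * g⁻¹ = y ^ 2 ^ b := by
      have hc : Commute g y := hgy'
      have := (hc.pow_right (2 ^ b)).eq
      rw [this]; group
    exact key P hΩ hgN (pow_mem hy _) ht1 ht2 hgt
  · intro g hg
    refine ⟨?_, centralizer_le_normalizer _ hg⟩
    show g ∈ centralizer ({y} : Set G)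
    rw [mem_centralizer_singleton_iff]
    exact ((mem_centralizer_iff.mp hg) y hy).symm

theorem relIndex_cases [IsMulCommutative P] (hΩ : (Om P).ncard = 4) :
    (centralizer ((P : Subgroup G) : Set G)).relIndex
        (normalizer ((P : Subgroup G) : Set G)) = 1 ∨
      (centralizer ((P : Subgroup G) : Set G)).relIndex
        (normalizer ((P : Subgroup G) : Set G)) = 3 := by
  have hfin : (Om P).Finite := Set.toFinite _
  obtain ⟨t, ⟨htP, ht2⟩, ht1⟩ := Set.exists_ne_of_one_lt_ncard (by rw [hΩ]; norm_num) (1 : G)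
  have hCN : centralizer ((P : Subgroup G) : Set G) ≤ normalizer ((P : Subgroup G) : Set G) :=
    centralizer_le_normalizer _
  -- the orbit map
  let f : ↥(normalizer ((P : Subgroup G) : Set G)) ⧸
      (centralizer ((P : Subgroup G) : Set G)).subgroupOf
        (normalizer ((P : Subgroup G) : Set G)) → G :=
    fun q => Quotient.liftOn' q (fun g => (g : G) * t * (g : G)⁻¹) (by
      intro a b hab
      rw [QuotientGroup.leftRel_apply, mem_subgroupOf] at hab
      have h := (mem_centralizer_iff.mp hab) t htP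
      simp only [Subgroup.coe_mul, Subgroup.coe_inv] at h
      show (a : G) * t * (a : G)⁻¹ = (b : G) * t * (b : G)⁻¹
      have e : (b : G) = (a : G) * ((a : G)⁻¹ * (b : G)) := by group
      rw [e]
      have : (a : G) * ((a : G)⁻¹ * (b : G)) * t * ((a : G) * ((a : G)⁻¹ * (b : G)))⁻¹ =
          (a : G) * (((a : G)⁻¹ * (b : G)) * t) * ((a : G)⁻¹ * (b : G))⁻¹ * (a : G)⁻¹ := by group
      rw [this, ← h]
      group)
  have hf : Function.Injective f := by
    intro q q'
    refine Quotient.inductionOn₂' q q' fun a b hab => ?_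
    have hab' : (a : G) * t * (a : G)⁻¹ = (b : G) * t * (b : G)⁻¹ := hab
    apply Quotient.sound'
    rw [QuotientGroup.leftRel_apply, mem_subgroupOf]
    simp only [Subgroup.coe_mul, Subgroup.coe_inv]
    apply key P hΩ (mul_mem (inv_mem a.2) b.2) htP ht1 ht2
    have : (a : G)⁻¹ * (b : G) * t * ((a : G)⁻¹ * (b : G))⁻¹ =
        (a : G)⁻¹ * ((b : G) * t * (b : G)⁻¹) * (a : G) := by group
    rw [this, ← hab']
    group
  have hrange : Set.range f ⊆ Om P \ {1} := by
    rintro x ⟨q, rfl⟩
    refine Quotient.inductionOn' q fun a => ?_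
    show (a : G) * t * (a : G)⁻¹ ∈ Om P \ {1}
    refine ⟨⟨conj_mem P a.2 htP, ?_⟩, ?_⟩
    · rw [conj_pow, ht2]; group
    · intro h
      rw [Set.mem_singleton_iff] at h
      apply ht1
      have : (a : G) * t * (a : G)⁻¹ = (a : G) * 1 * (a : G)⁻¹ := by rw [h]; group
      exact mul_left_cancel (mul_right_cancel this)
  have hcard : (centralizer ((P : Subgroup G) : Set G)).relIndex
      (normalizer ((P : Subgroup G) : Set G)) ≤ 3 := by
    have h1 : (Om P \ {1}).ncard = 3 := by
      have h1mem : (1 : G) ∈ Om P := ⟨one_mem _, one_pow 2⟩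
      rw [Set.ncard_sdiff_singleton_of_mem h1mem, hΩ]
    rw [← h1]
    have h2 : (Set.range f).ncard = (centralizer ((P : Subgroup G) : Set G)).relIndex
        (normalizer ((P : Subgroup G) : Set G)) := by
      rw [← Nat.card_coe_set_eq, Nat.card_range_of_injective hf]
      rfl
    rw [← h2]
    exact Set.ncard_le_ncard hrange (hfin.subset Set.sdiff_subset)
  have hodd : ¬ 2 ∣ (centralizer ((P : Subgroup G) : Set G)).relIndex
      (normalizer ((P : Subgroup G) : Set G)) := by
    intro h
    have h1 : (centralizer ((P : Subgroup G) : Set G)).relIndex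
        (normalizer ((P : Subgroup G) : Set G)) ∣ (P : Subgroup G).relIndex
        (normalizer ((P : Subgroup G) : Set G)) :=
      relIndex_dvd_of_le_left _ (le_centralizer_self P)
    have h2 : (P : Subgroup G).relIndex (normalizer ((P : Subgroup G) : Set G)) ∣
        (P : Subgroup G).index := by
      rw [← relIndex_mul_index (le_normalizer : (P : Subgroup G) ≤ _)]
      exact dvd_mul_right _ _
    exact P.not_dvd_index (dvd_trans h (dvd_trans h1 h2))
  have hpos : (centralizer ((P : Subgroup G) : Set G)).relIndex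
      (normalizer ((P : Subgroup G) : Set G)) ≠ 0 := by
    intro h0
    have h1 := Subgroup.relIndex_dvd_card (centralizer ((P : Subgroup G) : Set G))
      (normalizer ((P : Subgroup G) : Set G))
    rw [h0, zero_dvd_iff] at h1
    exact Nat.card_pos.ne' h1
  omega

end Two

end Cfsg.Agent.Lib.Helper1.HC
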