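import Cfsg.Agent.Lib.Helper1.HC1

/-!
# The homocyclic model `Z/2^k × Z/2^k`
-/

set_option autoImplicit false
set_option linter.unusedSectionVars false

universe u

namespace Cfsg.Agent.Lib.Helper1.HC

open Cfsg Subgroup Cfsg.Agent.Lib.Helper1.BL

theorem zmod_two_torsion {k : ℕ} (hk : 1 ≤ k) (x : ZMod (2 ^ k)) :
    x + x = 0 ↔ x = 0 ∨ x = ((2 ^ (k - 1) : ℕ) : ZMod (2 ^ k)) := by
  have : NeZero (2 ^ k) := ⟨by positivity⟩
  have h2k : 2 ^ k = 2 * 2 ^ (k - 1) := by
    rw [← pow_succ']; congr 1; omega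
  constructor
  · intro hx
    have hx' : (((x.val + x.val : ℕ)) : ZMod (2 ^ k)) = 0 := by
      push_cast
      rw [ZMod.natCast_zmod_val]
      exact hx
    rw [ZMod.natCast_eq_zero_iff] at hx'
    have hlt : x.val < 2 ^ k := ZMod.val_lt x
    have hlt' : x.val < 2 * 2 ^ (k - 1) := by rw [← h2k]; exact hlt
    have hd : 2 ^ (k - 1) ∣ x.val := by
      have : 2 * 2 ^ (k - 1) ∣ 2 * x.val := by rw [two_mul x.val, ← h2k]; exact hx'
      exact (Nat.mul_dvd_mul_iff_left (by norm_num)).mp this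
    obtain ⟨c, hc⟩ := hd
    have hpos : 0 < 2 ^ (k - 1) := by positivity
    have hc2 : c < 2 := by
      by_contra hcon
      push Not at hcon
      have : 2 ^ (k - 1) * 2 ≤ 2 ^ (k - 1) * c := Nat.mul_le_mul_left _ hcon
      omega
    interval_cases c
    · left
      rw [mul_zero] at hc
      exact (ZMod.val_eq_zero x).mp hc
    · right
      rw [mul_one] at hc
      rw [← hc, ZMod.natCast_zmod_val]
  · rintro (rfl | rfl)
    · simp
    · have : ((2 ^ (k - 1) : ℕ) : ZMod (2 ^ k)) + ((2 ^ (k - 1) : ℕ) : ZMod (2 ^ k)) =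
          ((2 ^ k : ℕ) : ZMod (2 ^ k)) := by
        rw [h2k]; push_cast; ring
      rw [this, ZMod.natCast_self]

theorem half_ne_zero {k : ℕ} (hk : 1 ≤ k) : ((2 ^ (k - 1) : ℕ) : ZMod (2 ^ k)) ≠ 0 := by
  intro h
  rw [ZMod.natCast_eq_zero_iff] at h
  have h1 := Nat.le_of_dvd (by positivity) h
  have h2 : 2 ^ (k - 1) < 2 ^ k := Nat.pow_lt_pow_right (by norm_num) (by omega)
  omega

theorem card_two_torsion {k : ℕ} (hk : 1 ≤ k) :
    Nat.card {w : ZMod (2 ^ k) × ZMod (2 ^ k) // w + w = 0} = 4 := by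
  classical
  have : NeZero (2 ^ k) := ⟨by positivity⟩
  rw [Nat.card_eq_fintype_card, Fintype.card_subtype]
  have hne := half_ne_zero hk
  have heq : Finset.univ.filter (fun w : ZMod (2 ^ k) × ZMod (2 ^ k) => w + w = 0) =
      ({0, ((2 ^ (k - 1) : ℕ) : ZMod (2 ^ k))} : Finset (ZMod (2 ^ k))) ×ˢ
      ({0, ((2 ^ (k - 1) : ℕ) : ZMod (2 ^ k))} : Finset (ZMod (2 ^ k))) := by
    ext w
    simp only [Finset.mem_filter, Finset.mem_univ, true_and, Finset.mem_product,
      Finset.mem_insert, Finset.mem_singleton]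
    rw [← zmod_two_torsion hk, ← zmod_two_torsion hk, Prod.ext_iff]
    rfl
  rw [heq, Finset.card_product, Finset.card_pair (Ne.symm hne)]

section Model

variable {G : Type u} [Group G] [Finite G] (P : Sylow 2 G)

theorem ncard_Om {k : ℕ} (hk : 1 ≤ k)
    (e : ↥(P : Subgroup G) ≃* Multiplicative (ZMod (2 ^ k) × ZMod (2 ^ k))) :
    (Om P).ncard = 4 := by
  rw [← Nat.card_coe_set_eq, ← card_two_torsion hk]
  have e1 : ↥(Om P) ≃ {y : ↥(P : Subgroup G) // y ^ 2 = 1} :=
    { toFun := fun x => ⟨⟨x.1, x.2.1⟩, Subtype.ext (by simpa using x.2.2)⟩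
      invFun := fun y => ⟨(y.1 : G), y.1.2, by
        have := congrArg Subtype.val y.2
        simpa using this⟩
      left_inv := fun x => rfl
      right_inv := fun y => rfl }
  have e2 : {y : ↥(P : Subgroup G) // y ^ 2 = 1} ≃
      {z : Multiplicative (ZMod (2 ^ k) × ZMod (2 ^ k)) // z ^ 2 = 1} :=
    Equiv.subtypeEquiv e.toEquiv (fun y => by
      constructor
      · intro h
        show e y ^ 2 = 1
        rw [← map_pow, h, map_one]
      · intro h
        have h' : e y ^ 2 = 1 := h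
        rw [← map_pow] at h'
        exact e.injective (by rw [h', map_one]))
  have e3 : {z : Multiplicative (ZMod (2 ^ k) × ZMod (2 ^ k)) // z ^ 2 = 1} ≃
      {w : ZMod (2 ^ k) × ZMod (2 ^ k) // w + w = 0} :=
    Equiv.subtypeEquiv Multiplicative.toAdd (fun z => by
      rw [pow_two]
      exact Iff.rfl)
  exact Nat.card_congr ((e1.trans e2).trans e3)

theorem card_P {k : ℕ}
    (e : ↥(P : Subgroup G) ≃* Multiplicative (ZMod (2 ^ k) × ZMod (2 ^ k))) :
    Nat.card ↥(P : Subgroup G) = 2 ^ k * 2 ^ k := by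
  have : NeZero (2 ^ k) := ⟨by positivity⟩
  rw [Nat.card_congr e.toEquiv, Nat.card_congr (Multiplicative.toAdd),
    Nat.card_eq_fintype_card, Fintype.card_prod, ZMod.card]

theorem isMulCommutative_of_equiv {k : ℕ}
    (e : ↥(P : Subgroup G) ≃* Multiplicative (ZMod (2 ^ k) × ZMod (2 ^ k))) :
    IsMulCommutative ↥(P : Subgroup G) := by
  refine ⟨⟨fun a b => ?_⟩⟩
  apply e.injective
  rw [map_mul, map_mul, mul_comm]

end Model

end Cfsg.Agent.Lib.Helper1.HC
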