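import Cfsg.Agent.Lib.Helper1.BL6
import Cfsg.Agent.Lib.Helper1.HC2

/-!
# Brauer's theorem on homocyclic Sylow 2-subgroups: the character theory
-/

set_option autoImplicit false
set_option linter.unusedSectionVars false

universe u

namespace Cfsg.Agent.Lib.Helper1.HC

open Cfsg Subgroup Cfsg.Agent.Lib.Helper1.BL Cfsg.Agent.Lib.Helper81
open scoped ComplexConjugate

/-- the Diophantine core -/
theorem dioph (s₁ s₂ : ℤ) (h1 : (16 : ℤ) ∣ s₁ - 1) (h2 : (16 : ℤ) ∣ s₂ - 1)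
    (hE : (1 + s₁ + s₂) * (s₁ * s₂ + s₁ + s₂) = 9 * (s₁ * s₂)) : s₁ = 1 ∧ s₂ = 1 := by
  obtain ⟨a, ha⟩ := h1
  obtain ⟨b, hb⟩ := h2
  have hs1 : s₁ = 1 + 16 * a := by linarith
  have hs2 : s₂ = 1 + 16 * b := by linarith
  obtain ⟨c, hc⟩ : ∃ c, c = a + b := ⟨_, rfl⟩
  obtain ⟨π, hπ⟩ : ∃ π, π = s₁ * s₂ := ⟨_, rfl⟩
  have hσ : s₁ + s₂ = 2 + 16 * c := by rw [hs1, hs2, hc]; ring
  have hK : (6 - 16 * c) * (π + (2 + 16 * c) + 9) = 72 := by
    rw [← hσ, hπ]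
    have : (6 - 16 * c) = 8 - (s₁ + s₂) := by rw [hσ]; ring
    rw [this]
    linear_combination -hE
  have hdvd : (6 - 16 * c) ∣ 72 := ⟨_, hK.symm⟩
  have hle := Int.le_of_dvd (by norm_num) hdvd
  have hdvd' : (16 * c - 6) ∣ 72 := by
    have : (16 * c - 6) = -(6 - 16 * c) := by ring
    rw [this]; exact (neg_dvd).mpr hdvd
  have hle' := Int.le_of_dvd (by norm_num) hdvd'
  have hc1 : -4 ≤ c := by omega
  have hc2 : c ≤ 4 := by omega
  have hc0 : c = 0 := by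
    interval_cases c <;> first | rfl | (exfalso; revert hdvd; decide)
  rw [hc0] at hK hσ
  have hπ1 : π = 1 := by linarith
  have hsq : (s₁ - 1) ^ 2 = 0 := by
    have : s₂ = 2 - s₁ := by linarith
    rw [hπ, this] at hπ1
    linear_combination -hπ1
  have hs1' : s₁ = 1 := by
    have := pow_eq_zero_iff (two_ne_zero) |>.mp hsq
    linarith
  exact ⟨hs1', by linarith⟩

section Chars

variable {G : Type u} [Group G] [Fintype G] (P : Sylow 2 G)
  [Fintype ↥(P : Subgroup G)] [Fintype ↥(normalizer ((P : Subgroup G) : Set G))]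
  [Fintype (IrrCharacter G)] [Fintype (↥(P : Subgroup G) →* ℂˣ)] {M : Ideal AlgInt}

theorem one_mem_X [IsMulCommutative P] (hM : IsPModular 2 M) (hf : FreeAct P)
    (hm : Nat.card ↥(normalizer ((P : Subgroup G) : Set G)) =
      3 * Nat.card ↥(centralizer ((P : Subgroup G) : Set G)))
    (h16 : 16 ≤ Nat.card ↥(P : Subgroup G)) (D : BLData P M 3) :
    oneIrr G ∈ Xset P D := by
  refine ⟨oneIrr_mem_principalBlock (isPrime_of_isPModular hM), ?_⟩
  rintro ⟨ψ, hψ, h⟩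
  exact zeta_ne_one P hM hf hm (by omega) D hψ h

theorem a_one [IsMulCommutative P] (hM : IsPModular 2 M) (hf : FreeAct P)
    (hm : Nat.card ↥(normalizer ((P : Subgroup G) : Set G)) =
      3 * Nat.card ↥(centralizer ((P : Subgroup G) : Set G)))
    (h16 : 16 ≤ Nat.card ↥(P : Subgroup G)) (D : BLData P M 3) :
    D.a (oneIrr G) = 1 := by
  classical
  obtain ⟨l, hl⟩ := exists_ne_one P (by omega : 1 < Nat.card ↥(P : Subgroup G))
  have hB : oneIrr G ∈ principalBlock M G :=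
    oneIrr_mem_principalBlock (isPrime_of_isPModular hM)
  have e1 := D.hF (oneIrr G) hB l hl
  rw [show ((oneIrr G : IrrCharacter G) : G → ℂ) = fun _ => 1 from rfl, Fc_const_one P hl,
    if_neg (fun h' => zeta_ne_one P hM hf hm (by omega) D hl h'.symm)] at e1
  have e1' : (1 : ℤ) = D.a (oneIrr G) - D.δ * 0 := by exact_mod_cast e1
  linarith

open Classical in
theorem card_Y_ge [IsMulCommutative P] (hf : FreeAct P)
    (hm : Nat.card ↥(normalizer ((P : Subgroup G) : Set G)) =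
      3 * Nat.card ↥(centralizer ((P : Subgroup G) : Set G)))
    (h16 : 16 ≤ Nat.card ↥(P : Subgroup G)) (D : BLData P M 3) :
    5 ≤ (Finset.univ.filter (fun η : IrrCharacter G => η ∈ Yset P D)).card := by
  have := card_Yset P hf hm D
  omega

open Classical in
theorem d_eq_zero [IsMulCommutative P] (hM : IsPModular 2 M) (hf : FreeAct P)
    (hm : Nat.card ↥(normalizer ((P : Subgroup G) : Set G)) =
      3 * Nat.card ↥(centralizer ((P : Subgroup G) : Set G)))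
    (h16 : 16 ≤ Nat.card ↥(P : Subgroup G)) (D : BLData P M 3) : D.d = 0 := by
  by_contra hd
  have hn := norm_eq P D
  have hr : (5 : ℤ) ≤ ((Finset.univ.filter
      (fun η : IrrCharacter G => η ∈ Yset P D)).card : ℤ) := by
    exact_mod_cast card_Y_ge P hf hm h16 D
  have hX : (1 : ℤ) ≤ ∑ χ ∈ Finset.univ.filter (fun χ : IrrCharacter G => χ ∈ Xset P D),
      D.a χ ^ 2 := by
    have hmem : oneIrr G ∈ Finset.univ.filter (fun χ : IrrCharacter G => χ ∈ Xset P D) := by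
      rw [Finset.mem_filter]
      exact ⟨Finset.mem_univ _, one_mem_X P hM hf hm h16 D⟩
    have := Finset.single_le_sum (f := fun χ => D.a χ ^ 2) (fun χ _ => sq_nonneg (D.a χ)) hmem
    simp only [a_one P hM hf hm h16 D] at this
    linarith
  have hd2 : 1 ≤ D.d ^ 2 := by
    have : 0 < D.d ^ 2 := by positivity
    linarith
  have hrd := mul_le_mul_of_nonneg_right hr (sq_nonneg D.d)
  have hd' : D.d ≤ -1 ∨ 1 ≤ D.d := by omega
  have h3 : ((3 : ℕ) : ℤ) = 3 := by norm_num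
  rw [h3] at hn
  have habs : D.d ≤ D.d ^ 2 ∧ -D.d ≤ D.d ^ 2 := by
    rcases hd' with h' | h'
    · constructor <;> nlinarith
    · constructor <;> nlinarith
  rcases D.hδ with h | h
  · rw [h] at hn
    linarith [habs.1, habs.2]
  · rw [h] at hn
    linarith [habs.1, habs.2]

open Classical in
theorem X_struct [IsMulCommutative P] (hM : IsPModular 2 M) (hf : FreeAct P)
    (hm : Nat.card ↥(normalizer ((P : Subgroup G) : Set G)) =
      3 * Nat.card ↥(centralizer ((P : Subgroup G) : Set G)))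
    (h16 : 16 ≤ Nat.card ↥(P : Subgroup G)) (D : BLData P M 3) :
    ∃ χ₁ χ₂ : IrrCharacter G, χ₁ ≠ χ₂ ∧ χ₁ ≠ oneIrr G ∧ χ₂ ≠ oneIrr G ∧
      Finset.univ.filter (fun χ : IrrCharacter G => χ ∈ Xset P D) = {oneIrr G, χ₁, χ₂} ∧
      (D.a χ₁ = 1 ∨ D.a χ₁ = -1) ∧ (D.a χ₂ = 1 ∨ D.a χ₂ = -1) := by
  have hP1 : Nat.card ↥(P : Subgroup G) ≠ 1 := by omega
  have hn := norm_eq P D
  rw [d_eq_zero P hM hf hm h16 D] at hn
  have h3 : ((3 : ℕ) : ℤ) = 3 := by norm_num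
  rw [h3] at hn
  have hn' : ∑ χ ∈ Finset.univ.filter (fun χ : IrrCharacter G => χ ∈ Xset P D),
      D.a χ ^ 2 = 3 := by linarith
  have hmem : oneIrr G ∈ Finset.univ.filter (fun χ : IrrCharacter G => χ ∈ Xset P D) := by
    rw [Finset.mem_filter]
    exact ⟨Finset.mem_univ _, one_mem_X P hM hf hm h16 D⟩
  obtain ⟨S, hS⟩ : ∃ S, S = (Finset.univ.filter
      (fun χ : IrrCharacter G => χ ∈ Xset P D)).erase (oneIrr G) := ⟨_, rfl⟩
  have hsum : ∑ χ ∈ S, D.a χ ^ 2 = 2 := by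
    have := Finset.add_sum_erase _ (fun χ => D.a χ ^ 2) hmem
    rw [← hS, hn', a_one P hM hf hm h16 D] at this
    linarith
  have hSmem : ∀ χ ∈ S, χ ∈ Xset P D ∧ χ ≠ oneIrr G := by
    intro χ hχ
    rw [hS, Finset.mem_erase, Finset.mem_filter] at hχ
    exact ⟨hχ.2.2, hχ.1⟩
  have hpm : ∀ χ ∈ S, D.a χ = 1 ∨ D.a χ = -1 := by
    intro χ hχ
    have hne := X_a_ne P hM hP1 D (hSmem χ hχ).1
    have hle := Finset.single_le_sum (f := fun χ => D.a χ ^ 2)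
      (fun χ _ => sq_nonneg (D.a χ)) hχ
    rw [hsum] at hle
    have h1 : D.a χ ≤ 1 := by nlinarith
    have h2 : -1 ≤ D.a χ := by nlinarith
    omega
  have hcard : S.card = 2 := by
    have h1 : ∑ χ ∈ S, D.a χ ^ 2 = ∑ χ ∈ S, (1 : ℤ) := by
      refine Finset.sum_congr rfl fun χ hχ => ?_
      rcases hpm χ hχ with h | h <;> rw [h] <;> norm_num
    rw [hsum, Finset.sum_const, nsmul_eq_mul, mul_one] at h1
    exact_mod_cast h1.symm
  obtain ⟨χ₁, χ₂, hne, hS2⟩ := Finset.card_eq_two.mp hcard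
  have h1S : χ₁ ∈ S := by rw [hS2]; simp
  have h2S : χ₂ ∈ S := by rw [hS2]; simp
  refine ⟨χ₁, χ₂, hne, (hSmem χ₁ h1S).2, (hSmem χ₂ h2S).2, ?_, hpm χ₁ h1S, hpm χ₂ h2S⟩
  rw [← Finset.insert_erase hmem, ← hS, hS2]

theorem deg_congr [IsMulCommutative P] (D : BLData P M 3) {χ : IrrCharacter G}
    (hχ : χ ∈ Xset P D) :
    (Nat.card ↥(P : Subgroup G) : ℤ) ∣ (charDegree (χ : G → ℂ) : ℤ) - D.a χ := by
  classical
  obtain ⟨n, hn⟩ := mlt_nat P χ 1
  rw [mlt_one_eq] at hn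
  unfold Cfsg.Agent.Lib.Helper77.colCoeff at hn
  have h1 : ∀ y : ↥(P : Subgroup G), (χ : G → ℂ) (y : G) * 1 =
      (D.a χ : ℂ) + (if y = 1 then ((χ : G → ℂ) 1 - (D.a χ : ℂ)) else 0) := by
    intro y
    by_cases hy : y = 1
    · rw [if_pos hy, hy]; simp
    · rw [if_neg hy, X_value P D hχ hy]; ring
  rw [Finset.sum_congr rfl fun y _ => h1 y, Finset.sum_add_distrib, Finset.sum_const,
    Finset.card_univ, nsmul_eq_mul, Finset.sum_ite_eq' Finset.univ (1 : ↥(P : Subgroup G)),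
    if_pos (Finset.mem_univ _), ← Nat.card_eq_fintype_card,
    irr_apply_one_eq_charDegree χ] at hn
  have hP0 : (Nat.card ↥(P : Subgroup G) : ℂ) ≠ 0 := Nat.cast_ne_zero.mpr Nat.card_pos.ne'
  refine ⟨(n : ℤ) - D.a χ, ?_⟩
  have h2 : (((charDegree (χ : G → ℂ) : ℤ) - D.a χ : ℤ) : ℂ) =
      (((Nat.card ↥(P : Subgroup G) : ℤ) * ((n : ℤ) - D.a χ) : ℤ) : ℂ) := by
    push_cast
    rw [← hn]
    field_simp
    ring
  exact_mod_cast h2

theorem exists_mu [IsMulCommutative P] (hΩ : (Om P).ncard = 4)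
    (h16 : 16 ≤ Nat.card ↥(P : Subgroup G)) :
    ∃ μ : ↥(P : Subgroup G) →* ℂˣ, μ ≠ 1 ∧ ∀ y : ↥(P : Subgroup G), y ^ 2 = 1 → μ y = 1 := by
  have hc : ∀ a b : ↥(P : Subgroup G), a * b = b * a := fun a b =>
    Subtype.ext (comm_of_mem P a.2 b.2)
  have hex : ∃ u : ↥(P : Subgroup G), u ^ 2 ≠ 1 := by
    by_contra hcon
    push Not at hcon
    have hsub : ((P : Subgroup G) : Set G) ⊆ Om P := by
      intro x hx
      refine ⟨hx, ?_⟩
      have := congrArg Subtype.val (hcon ⟨x, hx⟩)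
      simpa using this
    have h1 := Set.ncard_le_ncard hsub (Set.toFinite _)
    rw [hΩ, ← Nat.card_coe_set_eq] at h1
    have h2 : Nat.card ↥((P : Subgroup G) : Set G) = Nat.card ↥(P : Subgroup G) := rfl
    omega
  obtain ⟨u, hu⟩ := hex
  let _ : CommGroup ↥(P : Subgroup G) := { (inferInstance : Group ↥(P : Subgroup G)) with
    mul_comm := hc }
  have := Cfsg.Agent.Lib.Helper25.hasEnoughRoots ↥(P : Subgroup G)
  obtain ⟨l, hl⟩ := CommGroup.exists_apply_ne_one_of_hasEnoughRootsOfUnity ↥(P : Subgroup G) ℂ hu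
  refine ⟨l * l, ?_, ?_⟩
  · intro h
    apply hl
    have := congrArg (fun f => f u) h
    simp only [MonoidHom.mul_apply, MonoidHom.one_apply] at this
    rw [pow_two, map_mul]
    exact this
  · intro y hy
    rw [MonoidHom.mul_apply, ← map_mul, ← pow_two, hy, map_one]

/-- no element of `G` inverts an element of `P` of order at least four -/
theorem not_inverted [IsMulCommutative P] (hΩ : (Om P).ncard = 4) {u : G}
    (hu : u ∈ (P : Subgroup G)) (hu2 : u ^ 2 ≠ 1) (s : G) : s * u * s⁻¹ ≠ u⁻¹ := by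
  intro hs
  obtain ⟨n, hn, hnu⟩ := fusion P u hu s (by rw [hs]; exact inv_mem hu)
  rw [hs] at hnu
  have hu1 : u ≠ 1 := by
    rintro rfl
    exact hu2 (one_pow 2)
  -- an involution among the powers of `u`
  obtain ⟨a, ha⟩ := (IsPGroup.iff_orderOf.mp P.2) ⟨u, hu⟩
  rw [Subgroup.orderOf_mk] at ha
  have ha0 : a ≠ 0 := by
    rintro rfl
    rw [pow_zero, orderOf_eq_one_iff] at ha
    exact hu1 ha
  obtain ⟨b, rfl⟩ := Nat.exists_eq_succ_of_ne_zero ha0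
  have ht2 : (u ^ 2 ^ b) ^ 2 = 1 := by
    rw [← pow_mul, ← pow_succ, ← ha]; exact pow_orderOf_eq_one u
  have ht1 : u ^ 2 ^ b ≠ 1 := by
    intro h
    have := orderOf_dvd_of_pow_eq_one h
    rw [ha] at this
    have h2 := Nat.le_of_dvd (by positivity) this
    rw [pow_succ] at h2
    have : 0 < 2 ^ b := by positivity
    omega
  have hgt : n * u ^ 2 ^ b * n⁻¹ = u ^ 2 ^ b := by
    rw [← conj_pow, hnu, inv_pow]
    rw [inv_eq_iff_mul_eq_one, ← pow_two]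
    exact ht2
  have hnC := key P hΩ hn (pow_mem hu _) ht1 ht2 hgt
  have hcomm := (mem_centralizer_iff.mp hnC) u hu
  have : n * u * n⁻¹ = u := by rw [← hcomm]; group
  rw [this] at hnu
  apply hu2
  rw [pow_two]
  nth_rewrite 1 [hnu]
  exact inv_mul_cancel u

theorem alg (A₁ A₂ δ X₁ X₂ X₀ : ℂ) (hA1 : A₁ = 1 ∨ A₁ = -1) (hA2 : A₂ = 1 ∨ A₂ = -1)
    (hδ : δ = 1 ∨ δ = -1) (hX1 : X₁ ≠ 0) (hX2 : X₂ ≠ 0) (hX0 : X₀ ≠ 0)
    (R2 : 1 + A₁ * X₁ + A₂ * X₂ = δ * X₀)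
    (R1 : 1 + A₁ * A₁ ^ 2 / X₁ + A₂ * A₂ ^ 2 / X₂ = δ * (3 * δ) ^ 2 / X₀) :
    (1 + A₁ * X₁ + A₂ * X₂) * (A₁ * X₁ * (A₂ * X₂) + A₁ * X₁ + A₂ * X₂) =
      9 * (A₁ * X₁ * (A₂ * X₂)) := by
  rcases hA1 with rfl | rfl <;> rcases hA2 with rfl | rfl <;> rcases hδ with rfl | rfl <;>
  · rw [R2]
    field_simp at R1
    first | linear_combination R1 | linear_combination -R1

open Classical in
/-- evaluation of a column sum -/
theorem eval_sum [IsMulCommutative P] (D : BLData P M 3) (hd : D.d = 0)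
    {μ : ↥(P : Subgroup G) →* ℂˣ} (hμ : μ ≠ 1) (f : IrrCharacter G → ℂ) :
    ∑ χ ∈ Finset.univ.filter (fun χ : IrrCharacter G => χ ∈ principalBlock M G),
      Fc P (χ : G → ℂ) μ * f χ =
    ∑ χ ∈ Finset.univ.filter (fun χ : IrrCharacter G => χ ∈ Xset P D), (D.a χ : ℂ) * f χ -
      (D.δ : ℂ) * f (D.ζ μ) := by
  have h1 : ∀ χ ∈ Finset.univ.filter (fun χ : IrrCharacter G => χ ∈ principalBlock M G),
      Fc P (χ : G → ℂ) μ * f χ = (D.a χ : ℂ) * f χ -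
        (if χ = D.ζ μ then (D.δ : ℂ) * f χ else 0) := by
    intro χ hχ
    rw [D.hF χ (Finset.mem_filter.mp hχ).2 μ hμ]
    by_cases hz : χ = D.ζ μ
    · rw [if_pos hz, if_pos hz]; push_cast; ring
    · rw [if_neg hz, if_neg hz]; push_cast; ring
  rw [Finset.sum_congr rfl h1, Finset.sum_sub_distrib, Finset.sum_ite_eq', if_pos, sum_split P D]
  · have h2 : ∑ χ ∈ Finset.univ.filter (fun χ : IrrCharacter G => χ ∈ Yset P D),
        (D.a χ : ℂ) * f χ = 0 := by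
      refine Finset.sum_eq_zero fun χ hχ => ?_
      rw [a_Y P D (Finset.mem_filter.mp hχ).2, hd, Int.cast_zero, zero_mul]
    rw [h2, add_zero]
  · rw [Finset.mem_filter]
    exact ⟨Finset.mem_univ _, D.hζB μ hμ⟩

open Classical in
theorem zeta_mu_t [IsMulCommutative P] (hf : FreeAct P)
    (hm : Nat.card ↥(normalizer ((P : Subgroup G) : Set G)) =
      3 * Nat.card ↥(centralizer ((P : Subgroup G) : Set G)))
    (D : BLData P M 3) (hd : D.d = 0)
    {μ : ↥(P : Subgroup G) →* ℂˣ} (hμ : μ ≠ 1)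
    (hμΩ : ∀ y : ↥(P : Subgroup G), y ^ 2 = 1 → μ y = 1) {t : G} (ht : t ∈ (P : Subgroup G))
    (ht1 : t ≠ 1) (ht2 : t ^ 2 = 1) : (D.ζ μ : G → ℂ) t = 3 * (D.δ : ℂ) := by
  have hu : (⟨t, ht⟩ : ↥(P : Subgroup G)) ≠ 1 := fun h => ht1 (congrArg Subtype.val h)
  have h := Y_value P D hμ hu
  have h1 : ∀ l ∈ Finset.univ.filter (fun l : ↥(P : Subgroup G) →* ℂˣ => Rel P μ l),
      ((l ⟨t, ht⟩ : ℂˣ) : ℂ) = 1 := by
    intro l hl
    obtain ⟨n, hn, hrel⟩ := (Finset.mem_filter.mp hl).2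
    have hmem : n⁻¹ * t * n ∈ (P : Subgroup G) := by
      have := conj_mem P (inv_mem hn) ht
      rwa [inv_inv] at this
    have e := hrel ⟨n⁻¹ * t * n, hmem⟩ ⟨t, ht⟩ (by
      show t = n * (n⁻¹ * t * n) * n⁻¹
      group)
    rw [e, hμΩ]
    · rfl
    · apply Subtype.ext
      show (n⁻¹ * t * n) ^ 2 = 1
      have : (n⁻¹ * t * n) ^ 2 = n⁻¹ * t ^ 2 * n := by
        rw [pow_two, pow_two]; group
      rw [this, ht2]; group
  rw [Finset.sum_congr rfl h1, Finset.sum_const, class_card' P hf hm hμ, hd] at h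
  rw [show ((⟨t, ht⟩ : ↥(P : Subgroup G)) : G) = t from rfl] at h
  rw [h]
  push_cast
  ring

open Classical in
/-- in the case `|N : C| = 3` there is a nontrivial linear character with `P` in its kernel -/
theorem exists_linear [IsMulCommutative P] (hM : IsPModular 2 M) (hΩ : (Om P).ncard = 4)
    (hm : Nat.card ↥(normalizer ((P : Subgroup G) : Set G)) =
      3 * Nat.card ↥(centralizer ((P : Subgroup G) : Set G)))
    (h16 : 16 ≤ Nat.card ↥(P : Subgroup G)) :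
    ∃ φ : G →* ℂˣ, φ ≠ 1 ∧ ∀ u ∈ (P : Subgroup G), φ u = 1 := by
  have hf : FreeAct P := freeAct P hΩ
  have hP1' : 1 < Nat.card ↥(P : Subgroup G) := by omega
  have hP1 : Nat.card ↥(P : Subgroup G) ≠ 1 := by omega
  have h16dvd : (16 : ℤ) ∣ (Nat.card ↥(P : Subgroup G) : ℤ) := by
    obtain ⟨n, hn⟩ := (IsPGroup.iff_card).mp P.2
    rw [hn]
    have hn4 : 4 ≤ n := by
      by_contra hlt
      push Not at hlt
      have : 2 ^ n ≤ 2 ^ 3 := Nat.pow_le_pow_right (by norm_num) (by omega)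
      omega
    have : (2 : ℕ) ^ 4 ∣ 2 ^ n := pow_dvd_pow 2 hn4
    exact_mod_cast this
  obtain ⟨l0, hl0⟩ := exists_ne_one P hP1'
  obtain ⟨l1, hl1, hrel⟩ := exists_not_rel P hf hm (by omega) hl0
  obtain ⟨D⟩ := exists_blData (M := M) P hM hf 3 hm ⟨l0, l1, hl0, hl1, hrel⟩
  have hd := d_eq_zero P hM hf hm h16 D
  obtain ⟨χ₁, χ₂, hne12, hne1, hne2, hXf, ha1, ha2⟩ := X_struct P hM hf hm h16 D
  obtain ⟨μ, hμ, hμΩ⟩ := exists_mu P hΩ h16
  obtain ⟨t, ⟨htP, ht2⟩, ht1⟩ := Set.exists_ne_of_one_lt_ncard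
    (by rw [hΩ]; norm_num : 1 < (Om P).ncard) (1 : G)
  have hto : orderOf t = 2 := orderOf_eq_prime ht2 ht1
  -- membership facts
  have hX1 : χ₁ ∈ Xset P D := by
    have : χ₁ ∈ Finset.univ.filter (fun χ : IrrCharacter G => χ ∈ Xset P D) := by
      rw [hXf]; simp
    exact (Finset.mem_filter.mp this).2
  have hX2 : χ₂ ∈ Xset P D := by
    have : χ₂ ∈ Finset.univ.filter (fun χ : IrrCharacter G => χ ∈ Xset P D) := by
      rw [hXf]; simp
    exact (Finset.mem_filter.mp this).2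
  have hX0 : oneIrr G ∈ Xset P D := one_mem_X P hM hf hm h16 D
  have hut : (⟨t, htP⟩ : ↥(P : Subgroup G)) ≠ 1 := fun h => ht1 (congrArg Subtype.val h)
  -- the three relations
  have hrel3 := Cfsg.Agent.Lib.Helper77.three_relations hM (P : Subgroup G) P.2
    {u : G | u ∈ (P : Subgroup G) ∧ u ^ 2 ≠ 1} t hto
    (fun u hu g => not_inverted P hΩ hu.1 hu.2 (g * t * g⁻¹))
    (fun y : ↥(P : Subgroup G) => 1 - ((μ y : ℂˣ) : ℂ))
    (by
      intro y hy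
      have hy2 : y ^ 2 = 1 := by
        by_contra hne
        apply hy
        refine ⟨y.2, fun h => hne (Subtype.ext ?_)⟩
        simpa using h
      rw [hμΩ y hy2, Units.val_one, sub_self])
  obtain ⟨R1, R2, -⟩ := hrel3
  have R1' : ∑ χ ∈ Finset.univ.filter (fun χ : IrrCharacter G => χ ∈ principalBlock M G),
      Fc P (χ : G → ℂ) μ * ((χ : G → ℂ) t ^ 2 / (χ : G → ℂ) 1) = 0 := by
    rw [← R1]
    refine Finset.sum_congr rfl fun χ _ => ?_
    rw [mul_div_assoc]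
    rfl
  have R2' : ∑ χ ∈ Finset.univ.filter (fun χ : IrrCharacter G => χ ∈ principalBlock M G),
      Fc P (χ : G → ℂ) μ * ((χ : G → ℂ) 1) = 0 := R2
  rw [eval_sum P D hd hμ, hXf, Finset.sum_insert (by simp [hne1.symm, hne2.symm]),
    Finset.sum_pair hne12] at R1' R2'
  rw [a_one P hM hf hm h16 D, zeta_mu_t P hf hm D hd hμ hμΩ htP ht1 ht2,
    X_value P D hX1 hut, X_value P D hX2 hut] at R1'
  rw [a_one P hM hf hm h16 D] at R2'
  simp only [oneIrr_apply] at R1' R2'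
  rw [irr_apply_one_eq_charDegree χ₁, irr_apply_one_eq_charDegree χ₂,
    irr_apply_one_eq_charDegree (D.ζ μ)] at R1' R2'
  -- the algebraic identity
  have hx1 : ((charDegree (χ₁ : G → ℂ) : ℕ) : ℂ) ≠ 0 :=
    Nat.cast_ne_zero.mpr (irr_charDegree_ne_zero χ₁)
  have hx2 : ((charDegree (χ₂ : G → ℂ) : ℕ) : ℂ) ≠ 0 :=
    Nat.cast_ne_zero.mpr (irr_charDegree_ne_zero χ₂)
  have hx0 : ((charDegree (D.ζ μ : G → ℂ) : ℕ) : ℂ) ≠ 0 :=
    Nat.cast_ne_zero.mpr (irr_charDegree_ne_zero (D.ζ μ))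
  have hA1 : (D.a χ₁ : ℂ) = 1 ∨ (D.a χ₁ : ℂ) = -1 := by
    rcases ha1 with h | h <;> rw [h] <;> simp
  have hA2 : (D.a χ₂ : ℂ) = 1 ∨ (D.a χ₂ : ℂ) = -1 := by
    rcases ha2 with h | h <;> rw [h] <;> simp
  have hδ : (D.δ : ℂ) = 1 ∨ (D.δ : ℂ) = -1 := by
    rcases D.hδ with h | h <;> rw [h] <;> simp
  have hE := alg (D.a χ₁ : ℂ) (D.a χ₂ : ℂ) (D.δ : ℂ) _ _ _ hA1 hA2 hδ hx1 hx2 hx0
    (by linear_combination R2') (by linear_combination R1')
  obtain ⟨s₁, hs₁⟩ : ∃ s₁ : ℤ, s₁ = D.a χ₁ * (charDegree (χ₁ : G → ℂ) : ℤ) := ⟨_, rfl⟩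
  obtain ⟨s₂, hs₂⟩ : ∃ s₂ : ℤ, s₂ = D.a χ₂ * (charDegree (χ₂ : G → ℂ) : ℤ) := ⟨_, rfl⟩
  have hEZ : (1 + s₁ + s₂) * (s₁ * s₂ + s₁ + s₂) = 9 * (s₁ * s₂) := by
    have : (((1 + s₁ + s₂) * (s₁ * s₂ + s₁ + s₂) : ℤ) : ℂ) = ((9 * (s₁ * s₂) : ℤ) : ℂ) := by
      rw [hs₁, hs₂]
      push_cast
      exact hE
    exact_mod_cast this
  have hc1 : (16 : ℤ) ∣ s₁ - 1 := by
    have h := dvd_trans h16dvd (deg_congr P D hX1)
    have e : s₁ - 1 = D.a χ₁ * ((charDegree (χ₁ : G → ℂ) : ℤ) - D.a χ₁) := by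
      rw [hs₁]
      rcases ha1 with h' | h' <;> rw [h'] <;> ring
    rw [e]
    exact Dvd.dvd.mul_left h _
  have hc2 : (16 : ℤ) ∣ s₂ - 1 := by
    have h := dvd_trans h16dvd (deg_congr P D hX2)
    have e : s₂ - 1 = D.a χ₂ * ((charDegree (χ₂ : G → ℂ) : ℤ) - D.a χ₂) := by
      rw [hs₂]
      rcases ha2 with h' | h' <;> rw [h'] <;> ring
    rw [e]
    exact Dvd.dvd.mul_left h _
  obtain ⟨hs1, -⟩ := dioph s₁ s₂ hc1 hc2 hEZ
  -- `χ₁` is linear
  have hdeg : D.a χ₁ = 1 ∧ charDegree (χ₁ : G → ℂ) = 1 := by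
    rw [hs1] at hs₁
    rcases ha1 with h | h
    · rw [h, one_mul] at hs₁
      exact ⟨h, by exact_mod_cast hs₁.symm⟩
    · rw [h] at hs₁
      have : (0 : ℤ) ≤ (charDegree (χ₁ : G → ℂ) : ℤ) := Int.natCast_nonneg _
      omega
  have hχ1 : (χ₁ : G → ℂ) 1 = 1 := by
    rw [irr_apply_one_eq_charDegree χ₁, hdeg.2, Nat.cast_one]
  obtain ⟨φ, hφ⟩ := Cfsg.Agent.Lib.Helper79.exists_monoidHom_of_isCharacter_of_one
    (Cfsg.Agent.Lib.Helper3.IsIrrCharacter.isCharacter χ₁.2) hχ1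
  refine ⟨φ, ?_, ?_⟩
  · rintro rfl
    apply hne1
    apply Subtype.ext
    funext g
    rw [hφ g]
    rfl
  · intro u hu
    by_cases hu1 : u = 1
    · rw [hu1, map_one]
    · have h1 := X_value P D hX1 (u := ⟨u, hu⟩) (fun h => hu1 (congrArg Subtype.val h))
      rw [hdeg.1] at h1
      have h2 : ((φ u : ℂˣ) : ℂ) = 1 := by
        rw [← hφ u]
        exact_mod_cast h1
      exact Units.ext h2

end Chars

end Cfsg.Agent.Lib.Helper1.HC
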