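import Cfsg.Agent.Lib.Helper1.HC3
import Cfsg.Agent.Lib.Helper74.Osima5

/-!
# Brauer's theorem on homocyclic Sylow 2-subgroups: the induction
-/

set_option autoImplicit false
set_option linter.unusedSectionVars false

universe u

namespace Cfsg.Agent.Lib.Helper1.HC

open Cfsg Subgroup Cfsg.Agent.Lib.Helper1.BL

theorem pPrimeCore_eq_bot_of_normal {G : Type u} [Group G] [Finite G] (N : Subgroup G)
    [N.Normal] (hO : pPrimeCore 2 G = ⊥) : pPrimeCore 2 ↥N = ⊥ := by
  have h := Cfsg.Agent.Lib.Helper30.pPrimeCore_normal_le 2 N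
  rw [hO, le_bot_iff] at h
  exact (Subgroup.map_eq_bot_iff_of_injective _ N.subtype_injective).mp h

theorem main_aux : ∀ (n : ℕ) (G : Type u) [Group G] [Finite G], Nat.card G = n →
    ∀ (P : Sylow 2 G) (k : ℕ), 2 ≤ k →
    (↥(P : Subgroup G) ≃* Multiplicative (ZMod (2 ^ k) × ZMod (2 ^ k))) →
    pPrimeCore 2 G = ⊥ →
    (P : Subgroup G).Normal ∧ centralizer ((P : Subgroup G) : Set G) = (P : Subgroup G) ∧
      ((P : Subgroup G).index = 1 ∨ (P : Subgroup G).index = 3) := by
  intro n
  induction n using Nat.strong_induction_on with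
  | _ n ih =>
  intro G _ _ hn P k hk e hO
  have hab : IsMulCommutative ↥(P : Subgroup G) := isMulCommutative_of_equiv P e
  have hΩ : (Om P).ncard = 4 := ncard_Om P (by omega) e
  have h16 : 16 ≤ Nat.card ↥(P : Subgroup G) := by
    rw [card_P P e]
    have h4 : 2 ^ 2 ≤ 2 ^ k := Nat.pow_le_pow_right (by norm_num) hk
    nlinarith
  rcases relIndex_cases P hΩ with h1 | h3
  · -- Burnside
    have hNC : normalizer ((P : Subgroup G) : Set G) ≤ centralizer ((P : Subgroup G) : Set G) :=
      relIndex_eq_one.mp h1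
    have hcomp := Cfsg.Agent.Lib.Helper50.pPrimeCore_isComplement' P hNC
    rw [hO, isComplement'_bot_left] at hcomp
    refine ⟨?_, ?_, ?_⟩
    · rw [hcomp]; infer_instance
    · apply le_antisymm
      · rw [hcomp]; exact le_top
      · exact le_centralizer_self P
    · left
      rw [hcomp, index_top]
  · -- the character theory
    have hCleN : centralizer ((P : Subgroup G) : Set G) ≤
        normalizer ((P : Subgroup G) : Set G) := centralizer_le_normalizer _
    have hm : Nat.card ↥(normalizer ((P : Subgroup G) : Set G)) =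
        3 * Nat.card ↥(centralizer ((P : Subgroup G) : Set G)) := by
      have h := relIndex_mul_relIndex (⊥ : Subgroup G) _ _ bot_le hCleN
      rw [relIndex_bot_left, relIndex_bot_left, h3] at h
      rw [← h, mul_comm]
    obtain ⟨M, hM⟩ := Cfsg.Agent.Lib.Helper74.exists_isPModular Nat.prime_two
    obtain ⟨φ, hφ1, hφP⟩ : ∃ φ : G →* ℂˣ, φ ≠ 1 ∧ ∀ u ∈ (P : Subgroup G), φ u = 1 := by
      classical
      have := Fintype.ofFinite G
      have := Fintype.ofFinite ↥(P : Subgroup G)
      have := Fintype.ofFinite ↥(normalizer ((P : Subgroup G) : Set G))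
      have := Cfsg.Agent.Lib.Helper81.finite_irrCharacter (G := G)
      have := Fintype.ofFinite (IrrCharacter G)
      have hc : ∀ a b : ↥(P : Subgroup G), a * b = b * a := fun a b =>
        Subtype.ext (comm_of_mem P a.2 b.2)
      have := finite_dual hc
      have := Fintype.ofFinite (↥(P : Subgroup G) →* ℂˣ)
      exact exists_linear P hM hΩ hm h16
    -- the kernel
    have hle : (P : Subgroup G) ≤ φ.ker := fun u hu => MonoidHom.mem_ker.mpr (hφP u hu)
    have hker : φ.ker ≠ ⊤ := fun h => hφ1 (MonoidHom.ker_eq_top_iff.mp h)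
    have hlt : Nat.card ↥φ.ker < n := by
      rw [← hn]
      have h1 := Subgroup.card_le_card_group φ.ker
      rcases lt_or_eq_of_le h1 with h | h
      · exact h
      · exact absurd ((Subgroup.card_eq_iff_eq_top φ.ker).mp h) hker
    have hO₁ : pPrimeCore 2 ↥φ.ker = ⊥ := pPrimeCore_eq_bot_of_normal φ.ker hO
    let e₁ : ↥((P.subtype hle : Sylow 2 ↥φ.ker) : Subgroup ↥φ.ker) ≃*
        Multiplicative (ZMod (2 ^ k) × ZMod (2 ^ k)) := (subgroupOfEquivOfLe hle).trans e
    obtain ⟨hn₁, -, -⟩ := ih _ hlt ↥φ.ker rfl (P.subtype hle) k hk e₁ hO₁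
    -- `P` is normal in `G`
    have hPn : (P : Subgroup G).Normal := by
      constructor
      intro x hx g
      have hxk : g * x * g⁻¹ ∈ φ.ker := (MonoidHom.normal_ker φ).conj_mem x (hle hx) g
      have hmem : (⟨g * x * g⁻¹, hxk⟩ : ↥φ.ker) ∈
          ((P.subtype hle : Sylow 2 ↥φ.ker) : Subgroup ↥φ.ker) := by
        apply mem_of_pElement (P.subtype hle)
        · rw [normalizer_eq_top_iff.mpr hn₁]
          exact mem_top _
        · obtain ⟨j, hj⟩ := (IsPGroup.iff_orderOf.mp P.2) ⟨x, hx⟩
          refine ⟨j, ?_⟩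
          rw [Subgroup.orderOf_mk] at hj ⊢
          have hsc : SemiconjBy g x (g * x * g⁻¹) := by
            unfold SemiconjBy; group
          rw [← SemiconjBy.orderOf_eq g hsc]
          exact hj
      rw [Sylow.coe_subtype, mem_subgroupOf] at hmem
      exact hmem
    have hNtop : normalizer ((P : Subgroup G) : Set G) = ⊤ := normalizer_eq_top_iff.mpr hPn
    -- the centralizer
    have hCn : (centralizer ((P : Subgroup G) : Set G)).Normal := normal_centralizer
    have hO₂ : pPrimeCore 2 ↥(centralizer ((P : Subgroup G) : Set G)) = ⊥ :=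
      pPrimeCore_eq_bot_of_normal _ hO
    have hleC : (P : Subgroup G) ≤ centralizer ((P : Subgroup G) : Set G) :=
      le_centralizer_self P
    have hNC₂ : normalizer (((P.subtype hleC : Sylow 2 ↥(centralizer ((P : Subgroup G) : Set G))) :
        Subgroup ↥(centralizer ((P : Subgroup G) : Set G))) :
          Set ↥(centralizer ((P : Subgroup G) : Set G))) ≤
        centralizer (((P.subtype hleC : Sylow 2 ↥(centralizer ((P : Subgroup G) : Set G))) :
        Subgroup ↥(centralizer ((P : Subgroup G) : Set G))) :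
          Set ↥(centralizer ((P : Subgroup G) : Set G))) := by
      intro c _
      rw [mem_centralizer_iff]
      intro y hy
      rw [SetLike.mem_coe, Sylow.coe_subtype, mem_subgroupOf] at hy
      apply Subtype.ext
      simp only [Subgroup.coe_mul]
      exact (mem_centralizer_iff.mp c.2) (y : G) hy
    have hcomp := Cfsg.Agent.Lib.Helper50.pPrimeCore_isComplement' (P.subtype hleC) hNC₂
    rw [hO₂, isComplement'_bot_left] at hcomp
    have hCP : centralizer ((P : Subgroup G) : Set G) = (P : Subgroup G) := by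
      apply le_antisymm _ hleC
      intro c hc
      have : (⟨c, hc⟩ : ↥(centralizer ((P : Subgroup G) : Set G))) ∈
          ((P.subtype hleC : Sylow 2 ↥(centralizer ((P : Subgroup G) : Set G))) :
            Subgroup ↥(centralizer ((P : Subgroup G) : Set G))) := by
        rw [hcomp]; exact mem_top _
      rw [Sylow.coe_subtype, mem_subgroupOf] at this
      exact this
    refine ⟨hPn, hCP, Or.inr ?_⟩
    rw [hNtop, relIndex_top_right, hCP] at h3
    exact h3

end Cfsg.Agent.Lib.Helper1.HC
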