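import Mathlib

/-!
# Landau's theorem: the order of a finite group is bounded in terms of its class number
-/

set_option autoImplicit false

universe u

namespace Cfsg.Agent.Lib.Helper1.Landau

theorem landau_aux : ∀ (k D : ℕ), ∃ N : ℕ, ∀ (n : Fin k → ℕ) (u D' : ℕ), 0 < D' → D' ≤ D →
    0 < u → (∀ i, 0 < n i) → (∑ i, (1 : ℚ) / (n i : ℚ)) = (u : ℚ) / (D' : ℚ) →
    ∀ i, n i ≤ N := by
  intro k
  induction k with
  | zero =>
    intro D
    exact ⟨0, fun n u D' _ _ _ _ _ i => i.elim0⟩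
  | succ k ih =>
    intro D
    obtain ⟨N', hN'⟩ := ih (D * ((k + 1) * D))
    refine ⟨max ((k + 1) * D) N', ?_⟩
    intro n u D' hD' hD'D hu hn hsum i
    obtain ⟨i₀, -, hmin⟩ := Finset.exists_min_image Finset.univ n ⟨0, Finset.mem_univ _⟩
    have hm0 : 0 < n i₀ := hn i₀
    have hm0' : (0 : ℚ) < (n i₀ : ℚ) := by exact_mod_cast hm0
    have hD'q : (0 : ℚ) < (D' : ℚ) := by exact_mod_cast hD'
    have hDpos : 0 < D := lt_of_lt_of_le hD' hD'D
    have hDq : (0 : ℚ) < (D : ℚ) := by exact_mod_cast hDpos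
    -- the least term is small
    have hm : n i₀ ≤ (k + 1) * D := by
      have h1 : (∑ i, (1 : ℚ) / (n i : ℚ)) ≤ ∑ _i : Fin (k + 1), (1 : ℚ) / (n i₀ : ℚ) := by
        refine Finset.sum_le_sum fun i _ => ?_
        have hle : (n i₀ : ℚ) ≤ (n i : ℚ) := by exact_mod_cast hmin i (Finset.mem_univ i)
        exact one_div_le_one_div_of_le hm0' hle
      rw [Finset.sum_const, Finset.card_univ, Fintype.card_fin, nsmul_eq_mul, hsum] at h1
      have h2 : (1 : ℚ) / (D : ℚ) ≤ (u : ℚ) / (D' : ℚ) := by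
        have hu1 : (1 : ℚ) ≤ (u : ℚ) := by exact_mod_cast hu
        have hDD : (D' : ℚ) ≤ (D : ℚ) := by exact_mod_cast hD'D
        calc (1 : ℚ) / (D : ℚ) ≤ 1 / (D' : ℚ) := one_div_le_one_div_of_le hD'q hDD
          _ ≤ (u : ℚ) / (D' : ℚ) := by
            apply div_le_div_of_nonneg_right hu1 hD'q.le
      have h3 : (1 : ℚ) / (D : ℚ) ≤ ((k + 1 : ℕ) : ℚ) * (1 / (n i₀ : ℚ)) := le_trans h2 h1
      have h4 : (n i₀ : ℚ) ≤ ((k + 1 : ℕ) : ℚ) * (D : ℚ) := by
        rw [div_le_iff₀ hDq] at h3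
        have h5 : (1 : ℚ) * (n i₀ : ℚ) ≤ ((k + 1 : ℕ) : ℚ) * (1 / (n i₀ : ℚ)) * (D : ℚ) *
            (n i₀ : ℚ) := mul_le_mul_of_nonneg_right h3 hm0'.le
        have h6 : ((k + 1 : ℕ) : ℚ) * (1 / (n i₀ : ℚ)) * (D : ℚ) * (n i₀ : ℚ) =
            ((k + 1 : ℕ) : ℚ) * (D : ℚ) := by
          field_simp
        rw [h6, one_mul] at h5
        exact h5
      exact_mod_cast h4
    by_cases hi : i = i₀
    · rw [hi]
      exact le_trans hm (le_max_left _ _)
    · obtain ⟨j, hj⟩ := Fin.exists_succAbove_eq hi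
      have hsplit := Fin.sum_univ_succAbove (fun i => (1 : ℚ) / (n i : ℚ)) i₀
      rw [hsum] at hsplit
      have hrest : (∑ j : Fin k, (1 : ℚ) / (n (i₀.succAbove j) : ℚ)) =
          (u : ℚ) / (D' : ℚ) - 1 / (n i₀ : ℚ) := by linarith
      have hpos : (0 : ℚ) < ∑ j : Fin k, (1 : ℚ) / (n (i₀.succAbove j) : ℚ) := by
        apply Finset.sum_pos
        · intro j _
          have : (0 : ℚ) < (n (i₀.succAbove j) : ℚ) := by exact_mod_cast hn _
          positivity
        · exact ⟨j, Finset.mem_univ _⟩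
      have hval : (u : ℚ) / (D' : ℚ) - 1 / (n i₀ : ℚ) =
          ((u : ℚ) * (n i₀ : ℚ) - (D' : ℚ)) / ((D' : ℚ) * (n i₀ : ℚ)) := by
        field_simp
      have hnum : (0 : ℚ) < (u : ℚ) * (n i₀ : ℚ) - (D' : ℚ) := by
        rw [hrest, hval] at hpos
        have hden : (0 : ℚ) < (D' : ℚ) * (n i₀ : ℚ) := by positivity
        exact (div_pos_iff_of_pos_right hden).mp hpos
      have hlt : D' < u * n i₀ := by
        have : (D' : ℚ) < (u : ℚ) * (n i₀ : ℚ) := by linarith
        exact_mod_cast this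
      have hcast : ((u * n i₀ - D' : ℕ) : ℚ) = (u : ℚ) * (n i₀ : ℚ) - (D' : ℚ) := by
        rw [Nat.cast_sub hlt.le]
        push_cast
        ring
      have hbound : D' * n i₀ ≤ D * ((k + 1) * D) := Nat.mul_le_mul hD'D hm
      have := hN' (fun j => n (i₀.succAbove j)) (u * n i₀ - D') (D' * n i₀)
        (Nat.mul_pos hD' hm0) hbound (Nat.sub_pos_of_lt hlt) (fun j => hn _)
        (by rw [hrest, hval, hcast]; push_cast; ring) j
      rw [← hj]
      exact le_trans this (le_max_right _ _)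

theorem ncard_carrier_dvd {G : Type u} [Group G] [Finite G] (x : ConjClasses G) :
    x.carrier.ncard ∣ Nat.card G := by
  obtain ⟨g, rfl⟩ := ConjClasses.exists_rep x
  rw [← ConjAct.orbit_eq_carrier_conjClasses, ← MulAction.index_stabilizer]
  have := Subgroup.index_dvd_card (MulAction.stabilizer (ConjAct G) g)
  rwa [Nat.card_congr (ConjAct.toConjAct (G := G)).toEquiv.symm] at this

/-- **Landau's theorem** -/
theorem card_le_of_classes (k : ℕ) : ∃ N : ℕ, ∀ (G : Type u) [Group G] [Finite G],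
    Nat.card (ConjClasses G) ≤ k → Nat.card G ≤ N := by
  choose Nf hNf using fun k' => landau_aux k' 1
  refine ⟨(Finset.range (k + 1)).sup Nf, ?_⟩
  intro G _ _ hk
  classical
  have hfin : Finite (ConjClasses G) := inferInstance
  have := Fintype.ofFinite (ConjClasses G)
  obtain ⟨c, hc⟩ : ∃ c, c = Nat.card (ConjClasses G) := ⟨_, rfl⟩
  have e : ConjClasses G ≃ Fin c := by
    rw [hc]
    exact Finite.equivFin _
  have hGpos : 0 < Nat.card G := Nat.card_pos
  have hGq : (0 : ℚ) < (Nat.card G : ℚ) := by exact_mod_cast hGpos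
  have hcarrier_pos : ∀ x : ConjClasses G, 0 < x.carrier.ncard := by
    intro x
    obtain ⟨g, rfl⟩ := ConjClasses.exists_rep x
    rw [Set.ncard_pos (Set.toFinite _)]
    exact ⟨g, ConjClasses.mem_carrier_mk⟩
  have hn : ∀ j : Fin c, 0 < Nat.card G / (e.symm j).carrier.ncard := by
    intro j
    exact Nat.div_pos (Nat.le_of_dvd hGpos (ncard_carrier_dvd _)) (hcarrier_pos _)
  have hsum : (∑ j : Fin c, (1 : ℚ) / ((Nat.card G / (e.symm j).carrier.ncard : ℕ) : ℚ)) =
      ((1 : ℕ) : ℚ) / ((1 : ℕ) : ℚ) := by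
    have h1 : ∀ j : Fin c, (1 : ℚ) / ((Nat.card G / (e.symm j).carrier.ncard : ℕ) : ℚ) =
        ((e.symm j).carrier.ncard : ℚ) / (Nat.card G : ℚ) := by
      intro j
      obtain ⟨t, ht⟩ := ncard_carrier_dvd (e.symm j)
      have hcp := hcarrier_pos (e.symm j)
      have hcq : (0 : ℚ) < ((e.symm j).carrier.ncard : ℚ) := by exact_mod_cast hcp
      rw [ht, Nat.mul_div_cancel_left _ hcp]
      have ht0 : 0 < t := by
        rcases Nat.eq_zero_or_pos t with h | h
        · rw [h, mul_zero] at ht; omega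
        · exact h
      have htq : (0 : ℚ) < (t : ℚ) := by exact_mod_cast ht0
      push_cast
      field_simp
    rw [Finset.sum_congr rfl fun j _ => h1 j, ← Finset.sum_div, ← Nat.cast_sum,
      Equiv.sum_comp e.symm (fun x : ConjClasses G => x.carrier.ncard)]
    have h2 := Group.sum_card_conj_classes_eq_card G
    rw [finsum_eq_sum_of_fintype] at h2
    rw [h2]
    simp only [Nat.cast_one, div_one]
    exact div_self hGq.ne'
  -- the class of the identity
  have h1c : (ConjClasses.mk (1 : G)).carrier.ncard = 1 := by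
    have : (ConjClasses.mk (1 : G)).carrier = {1} := by
      ext g
      rw [ConjClasses.mem_carrier_iff_mk_eq, Set.mem_singleton_iff, ConjClasses.mk_eq_mk_iff_isConj,
        isConj_one_left]
    rw [this, Set.ncard_singleton]
  have hle := hNf c (fun j => Nat.card G / (e.symm j).carrier.ncard) 1 1 Nat.one_pos le_rfl
    Nat.one_pos hn hsum (e (ConjClasses.mk 1))
  simp only [Equiv.symm_apply_apply, h1c, Nat.div_one] at hle
  refine le_trans hle ?_
  exact Finset.le_sup (f := Nf) (Finset.mem_range.mpr (by omega))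

end Cfsg.Agent.Lib.Helper1.Landau
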