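import Mathlib
import Cfsg.Agent.Lib.Helper45.LtCore

/-!
# Lt hive (S2363, owner helper45): leaf LT-3D4 `lt_3d4` (helper1)
-/

set_option autoImplicit false

namespace Cfsg.Agent.Lib.Helper45.Lt

/-- `(Q^2 - 1) (Q^8 + Q^4 + 1) < Q^10` -/
theorem lt3d4_aux {Q : ℕ} (hQ : 1 ≤ Q) : (Q ^ 2 - 1) * (Q ^ 8 + Q ^ 4 + 1) < Q ^ 10 := by
  have h2 : 1 ≤ Q ^ 2 := Nat.one_le_pow _ _ hQ
  obtain ⟨s, hs⟩ : ∃ s, Q ^ 2 = s + 1 := ⟨Q ^ 2 - 1, by omega⟩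
  have h68 : Q ^ 6 ≤ Q ^ 8 := Nat.pow_le_pow_right hQ (by norm_num)
  have h24 : Q ^ 2 ≤ Q ^ 4 := Nat.pow_le_pow_right hQ (by norm_num)
  have e1 : Q ^ 2 - 1 = s := by omega
  rw [e1]
  have e2 : (s + 1) * (Q ^ 8 + Q ^ 4 + 1) = Q ^ 10 + Q ^ 6 + Q ^ 2 := by
    rw [← hs]; ring
  nlinarith [e2, h68, h24]

/-- LT-3D4 (S1067): `N = 12`, `l = 4`; `(q^8 + q^4 + 1)(q^2 - 1) < q^10`. -/
theorem lt_3d4 {p f g : ℕ} (hp : p.Prime) (hf : 1 ≤ f) (hg : 0 < g)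
    (hcard : g = (p ^ f) ^ 12 * ((p ^ f) ^ 2 - 1) * ((p ^ f) ^ 6 - 1) *
      ((p ^ f) ^ 8 + (p ^ f) ^ 4 + 1)) :
    g < p ^ (3 * g.factorization p) ∧ g ^ 3 < p ^ (8 * g.factorization p) := by
  have hQ : 1 ≤ p ^ f := Nat.one_le_pow _ _ hp.pos
  have hd : 1 * g = (p ^ f) ^ 12 * (((p ^ f) ^ 2 - 1) * ((p ^ f) ^ 6 - 1) *
      ((p ^ f) ^ 8 + (p ^ f) ^ 4 + 1)) := by
    rw [hcard]; ring
  have hp1 : ¬ p ∣ 1 := fun h => hp.one_lt.ne' (Nat.dvd_one.1 h)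
  have hpC : ¬ p ∣ (p ^ f) ^ 8 + (p ^ f) ^ 4 + 1 := by
    intro h
    have h1 : p ∣ (p ^ f) ^ 8 + (p ^ f) ^ 4 := by
      apply dvd_add
      · rw [← pow_mul]; exact dvd_pow_self p (by positivity)
      · rw [← pow_mul]; exact dvd_pow_self p (by positivity)
    exact hp1 ((Nat.dvd_add_right h1).1 h)
  have hpM : ¬ p ∣ ((p ^ f) ^ 2 - 1) * ((p ^ f) ^ 6 - 1) * ((p ^ f) ^ 8 + (p ^ f) ^ 4 + 1) :=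
    lt_not_dvd_mul hp (lt_not_dvd_mul hp (lt_not_dvd_sub_one hp hf (by norm_num))
      (lt_not_dvd_sub_one hp hf (by norm_num))) hpC
  have hM : ((p ^ f) ^ 2 - 1) * ((p ^ f) ^ 6 - 1) * ((p ^ f) ^ 8 + (p ^ f) ^ 4 + 1)
      < 1 * (p ^ f) ^ (12 + 4) := by
    have h1 := lt3d4_aux hQ
    have h6 : (p ^ f) ^ 6 - 1 ≤ (p ^ f) ^ 6 := Nat.sub_le _ _
    have h6pos : 0 < (p ^ f) ^ 6 := pow_pos (pow_pos hp.pos f) 6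
    calc ((p ^ f) ^ 2 - 1) * ((p ^ f) ^ 6 - 1) * ((p ^ f) ^ 8 + (p ^ f) ^ 4 + 1)
        = (((p ^ f) ^ 2 - 1) * ((p ^ f) ^ 8 + (p ^ f) ^ 4 + 1)) * ((p ^ f) ^ 6 - 1) := by ring
      _ ≤ (((p ^ f) ^ 2 - 1) * ((p ^ f) ^ 8 + (p ^ f) ^ 4 + 1)) * (p ^ f) ^ 6 :=
          Nat.mul_le_mul_left _ h6
      _ < (p ^ f) ^ 10 * (p ^ f) ^ 6 := Nat.mul_lt_mul_of_pos_right h1 h6pos
      _ = 1 * (p ^ f) ^ (12 + 4) := by rw [← pow_add, one_mul]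
  obtain ⟨-, h2, h3⟩ := lt_core (N := 12) (l := 4) hp hf hg hd hp1 hpM hM (by norm_num)
  exact ⟨h2, h3 (by norm_num)⟩

end Cfsg.Agent.Lib.Helper45.Lt
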