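import Mathlib
import Cfsg.Agent.Lib.Helper45.LtCore

/-!
# Lt hive (S2363, owner helper45): leaf LT-PSL `lt_psl` (helper1)
-/

set_option autoImplicit false

namespace Cfsg.Agent.Lib.Helper45.Lt

/-- `∏_{i<n} (q^n - q^i) = q^(n(n-1)/2) ∏_{i<n} (q^(i+1) - 1)` -/
theorem ltpsl_prod_eq (q n : ℕ) :
    ∏ i : Fin n, (q ^ n - q ^ (i : ℕ)) =
      q ^ (n * (n - 1) / 2) * ∏ i ∈ Finset.range n, (q ^ (i + 1) - 1) := by
  rw [Fin.prod_univ_eq_prod_range (fun i => q ^ n - q ^ i) n]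
  have h1 : ∀ i ∈ Finset.range n, q ^ n - q ^ i = q ^ i * (q ^ (n - 1 - i + 1) - 1) := by
    intro i hi
    have hi' : i < n := Finset.mem_range.1 hi
    have e : n - 1 - i + 1 = n - i := by omega
    rw [e, Nat.mul_sub, mul_one, ← pow_add]
    congr 2
    omega
  rw [Finset.prod_congr rfl h1, Finset.prod_mul_distrib, Finset.prod_pow_eq_pow_sum,
    Finset.sum_range_id, Finset.prod_range_reflect (fun j => q ^ (j + 1) - 1) n]

/-- `2 * ∑_{i<m} (i+2) = m (m+3)` -/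
theorem ltpsl_sum (m : ℕ) : (∑ i ∈ Finset.range m, (i + 1 + 1)) * 2 = m * (m + 3) := by
  induction m with
  | zero => simp
  | succ m ih =>
    rw [Finset.sum_range_succ, add_mul, ih]
    ring

/-- LT-PSL (S0243) -/
theorem lt_psl {p f n g : ℕ} (hp : p.Prime) (hf : 1 ≤ f) (hn : 2 ≤ n) (hg : 0 < g)
    (hcard : Nat.gcd n (p ^ f - 1) * ((p ^ f - 1) * g) = ∏ i : Fin n, ((p ^ f) ^ n - (p ^ f) ^ (i : ℕ))) :
    g.factorization p = n * (n - 1) / 2 * f ∧ g < p ^ (3 * g.factorization p) ∧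
      (3 ≤ n → g ^ 3 < p ^ (8 * g.factorization p)) := by
  have hq1 : 1 ≤ p ^ f := pow_pos hp.pos f
  have hq2 : 2 ≤ p ^ f := by
    calc 2 ≤ p := hp.two_le
      _ = p ^ 1 := (pow_one p).symm
      _ ≤ p ^ f := Nat.pow_le_pow_right hp.pos hf
  obtain ⟨m, rfl⟩ : ∃ m, n = m + 1 := ⟨n - 1, by omega⟩
  have hm : 1 ≤ m := by omega
  rw [ltpsl_prod_eq, Finset.prod_range_succ'] at hcard
  have hN2 : (m + 1) * (m + 1 - 1) / 2 * 2 = (m + 1) * m := by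
    rw [← Finset.sum_range_id, Finset.sum_range_id_mul_two, Nat.add_sub_cancel]
  generalize (m + 1) * (m + 1 - 1) / 2 = N at hcard hN2 ⊢
  have hpq : ¬ p ∣ p ^ f - 1 := by
    have := lt_not_dvd_sub_one (a := 1) hp hf le_rfl
    rwa [pow_one] at this
  have hd0 : 0 < Nat.gcd (m + 1) (p ^ f - 1) := Nat.gcd_pos_of_pos_left _ (by omega)
  have hpd : ¬ p ∣ Nat.gcd (m + 1) (p ^ f - 1) * (p ^ f - 1) :=
    lt_not_dvd_mul hp (lt_not_dvd_of_dvd (Nat.gcd_dvd_right _ _) hpq) hpq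
  have hpM : ¬ p ∣ (∏ i ∈ Finset.range m, ((p ^ f) ^ (i + 1 + 1) - 1)) * ((p ^ f) ^ (0 + 1) - 1) :=
    lt_not_dvd_mul hp (lt_not_dvd_prod hp _ _ (fun i _ => lt_not_dvd_sub_one hp hf (by omega)))
      (lt_not_dvd_sub_one hp hf (by omega))
  have hsum : ∑ i ∈ Finset.range m, (i + 1 + 1) = N + m := by
    have h1 := ltpsl_sum m
    have h2 : (N + m) * 2 = m * (m + 3) := by rw [add_mul, hN2]; ring
    omega
  have hlt := lt_prod_sub_one_lt hq1 (Finset.range m) (Finset.nonempty_range_iff.2 (by omega))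
    (fun i => i + 1 + 1)
  rw [hsum] at hlt
  have hq0 : 0 < (p ^ f) ^ (0 + 1) - 1 := by
    rw [zero_add, pow_one]; omega
  have hM : (∏ i ∈ Finset.range m, ((p ^ f) ^ (i + 1 + 1) - 1)) * ((p ^ f) ^ (0 + 1) - 1) <
      Nat.gcd (m + 1) (p ^ f - 1) * (p ^ f - 1) * (p ^ f) ^ (N + m) := by
    calc (∏ i ∈ Finset.range m, ((p ^ f) ^ (i + 1 + 1) - 1)) * ((p ^ f) ^ (0 + 1) - 1)
        < (p ^ f) ^ (N + m) * ((p ^ f) ^ (0 + 1) - 1) := Nat.mul_lt_mul_of_pos_right hlt hq0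
      _ = 1 * ((p ^ f - 1) * (p ^ f) ^ (N + m)) := by rw [zero_add, pow_one]; ring
      _ ≤ Nat.gcd (m + 1) (p ^ f - 1) * ((p ^ f - 1) * (p ^ f) ^ (N + m)) :=
          Nat.mul_le_mul_right _ hd0
      _ = Nat.gcd (m + 1) (p ^ f - 1) * (p ^ f - 1) * (p ^ f) ^ (N + m) := by ring
  have hl : m ≤ N := by nlinarith
  have key := lt_core (p := p) (f := f) (N := N) (l := m) (g := g)
    (d := Nat.gcd (m + 1) (p ^ f - 1) * (p ^ f - 1))
    (M := (∏ i ∈ Finset.range m, ((p ^ f) ^ (i + 1 + 1) - 1)) * ((p ^ f) ^ (0 + 1) - 1))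
    hp hf hg (by rw [← hcard, mul_assoc]) hpd hpM hM hl
  exact ⟨key.1, key.2.1, fun h3 => key.2.2 (by nlinarith)⟩

end Cfsg.Agent.Lib.Helper45.Lt
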