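import Mathlib
import Cfsg.Agent.Lib.Helper41.OmBNDefs
import Cfsg.Agent.Lib.Helper80.OmBN_BFLAG

/-!
# OmBN hive (S2549, owner helper41): leaf OmBN-RK1S `rk1S` (helper1)

Also the common auxiliary lemmas (prefix `rk1s_`) on the action of Eichler transformations on the basis vectors,
reused by `OmBN_RK1L`.
-/

set_option autoImplicit false
set_option linter.unusedVariables false
set_option linter.unusedSectionVars false

namespace Cfsg.Agent.Lib.Helper41.OmBN

open Matrix Cfsg Cfsg.Agent.Lib.Helper13 Cfsg.Agent.Lib.Helper8 Cfsg.Agent.Lib.Helper43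
  Cfsg.Agent.Lib.Helper41.SpBN

variable {F : Type*} [Field F] {m : ℕ} {a b : F}

/-- the action of `E(u,v)` -/
theorem rk1s_acts {g : OG F m a b} {u v : MIdx m → F} (h : ActsAs F m a b g u v) (x : MIdx m → F) :
    mat g *ᵥ x = x + QuadraticMap.polar (⇑(minusForm m F a b)) u x • v
      - QuadraticMap.polar (⇑(minusForm m F a b)) v x • u
      - (minusForm m F a b v * QuadraticMap.polar (⇑(minusForm m F a b)) u x) • u := by
  rw [h x, eichlerLin_apply]

theorem rk1s_actsAs_zero {g : OG F m a b} {u : MIdx m → F} (h : ActsAs F m a b g u 0) : g = 1 := by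
  apply iso_ext (minusForm m F a b)
  intro x
  have h1 := rk1s_acts h x
  rw [QuadraticMap.polar_zero_left, map_zero, smul_zero, zero_smul, zero_mul, zero_smul, add_zero,
    sub_zero, sub_zero] at h1
  rw [h1]
  show x = (1 : Matrix (MIdx m) (MIdx m) F) *ᵥ x
  rw [Matrix.one_mulVec]

theorem rk1s_actsAs_inv [Fintype F] (hab : Aniso a b) {g : OG F m a b} {u v : MIdx m → F}
    (h : ActsAs F m a b g u v) (hu : minusForm m F a b u = 0)
    (huv : QuadraticMap.polar (⇑(minusForm m F a b)) u v = 0) : ActsAs F m a b g⁻¹ u (-v) := by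
  rw [h.eq_eichlerElt hab hu huv, eichlerElt_inv]
  exact actsAs_eichlerElt hab u (-v) hu _

theorem rk1s_mul_mulVec (g h : OG F m a b) (x : MIdx m → F) :
    mat (g * h) *ᵥ x = mat g *ᵥ (mat h *ᵥ x) := by
  rw [mat_mul, Matrix.mulVec_mulVec]

theorem rk1s_pol_e (k : Fin m) (y : MIdx m → F) :
    QuadraticMap.polar (⇑(minusForm m F a b)) (ve F k) y = y (Sum.inl (Sum.inr k)) :=
  polar_minusForm_inl m F a b k y

theorem rk1s_pol_f (k : Fin m) (y : MIdx m → F) :
    QuadraticMap.polar (⇑(minusForm m F a b)) (vf F k) y = y (Sum.inl (Sum.inl k)) :=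
  polar_minusForm_inr m F a b k y

theorem rk1s_Q_e (k : Fin m) : minusForm m F a b (ve F k) = 0 := minusForm_single_inl m F a b k

theorem rk1s_Q_f (k : Fin m) : minusForm m F a b (vf F k) = 0 := minusForm_single_inr m F a b k

theorem rk1s_ve_e (k j : Fin m) : ve F k (Sum.inl (Sum.inl j)) = if j = k then 1 else 0 := by
  unfold ve
  rw [Pi.single_apply]
  simp only [Sum.inl.injEq]

theorem rk1s_ve_f (k j : Fin m) : ve F k (Sum.inl (Sum.inr j)) = 0 := by
  unfold ve
  rw [Pi.single_apply]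
  simp

theorem rk1s_ve_w (k : Fin m) (t : Fin 2) : ve F k (Sum.inr t : MIdx m) = 0 := by
  unfold ve
  rw [Pi.single_apply]
  simp

theorem rk1s_vf_f (k j : Fin m) : vf F k (Sum.inl (Sum.inr j)) = if j = k then 1 else 0 := by
  unfold vf
  rw [Pi.single_apply]
  simp only [Sum.inl.injEq, Sum.inr.injEq]

theorem rk1s_vf_e (k j : Fin m) : vf F k (Sum.inl (Sum.inl j)) = 0 := by
  unfold vf
  rw [Pi.single_apply]
  simp

theorem rk1s_vf_w (k : Fin m) (t : Fin 2) : vf F k (Sum.inr t : MIdx m) = 0 := by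
  unfold vf
  rw [Pi.single_apply]
  simp

/-- `e_l` vanishes strictly below row `j ≥ l` -/
theorem rk1s_ve_lt {l : Fin m} {j : ℕ} {i : MIdx m} (hl : (l : ℕ) ≤ j) (hi : j < oord m i) :
    ve F l i = 0 := by
  unfold ve
  rw [Pi.single_apply, if_neg]
  rintro rfl
  rw [oord_e] at hi
  omega

/-- a block permutation matrix permutes the basis vectors -/
theorem rk1s_permBlock_single (σ : Equiv.Perm (Idx m)) (s : Idx m) :
    (permBlock σ : Matrix (MIdx m) (MIdx m) F) *ᵥ Pi.single (Sum.inl s) 1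
      = Pi.single (Sum.inl (σ s)) 1 := by
  rw [Matrix.mulVec_single_one]
  funext i
  rcases i with s' | t
  · show (permBlock σ : Matrix (MIdx m) (MIdx m) F) (Sum.inl s') (Sum.inl s) = _
    rw [permBlock, Matrix.fromBlocks_apply₁₁, permMat, Matrix.of_apply, Pi.single_apply]
    simp only [Sum.inl.injEq]
  · show (permBlock σ : Matrix (MIdx m) (MIdx m) F) (Sum.inr t) (Sum.inl s) = _
    rw [permBlock, Matrix.fromBlocks_apply₂₁, Pi.single_apply]
    simp

/-- `E(e_p, τ f_q)` on `e_j` -/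
theorem rk1s_E_e {g : OG F m a b} {p q : Fin m} {τ : F}
    (h : ActsAs F m a b g (ve F p) (τ • vf F q)) (j : Fin m) :
    mat g *ᵥ ve F j = ve F j - (if j = q then τ else 0) • ve F p := by
  rw [rk1s_acts h, rk1s_pol_e, QuadraticMap.polar_smul_left, rk1s_pol_f, rk1s_ve_f, rk1s_ve_e,
    zero_smul, mul_zero, zero_smul, add_zero, sub_zero, smul_eq_mul]
  by_cases hjq : j = q
  · rw [if_pos hjq, if_pos hjq.symm, mul_one]
  · rw [if_neg hjq, if_neg (fun h => hjq h.symm), mul_zero]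

theorem rk1s_simpleShort_k {k k' : Fin m} (hne : k ≠ k') :
    simpleShort k k' (Sum.inl k) = Sum.inl k' := by
  have h1 : Equiv.swap (Sum.inr k : Idx m) (Sum.inr k') (Sum.inl k) = Sum.inl k :=
    Equiv.swap_apply_of_ne_of_ne (by simp) (by simp)
  rw [simpleShort, Equiv.Perm.mul_apply, h1, Equiv.swap_apply_left]

theorem rk1s_simpleShort_k' {k k' : Fin m} (hne : k ≠ k') :
    simpleShort k k' (Sum.inl k') = Sum.inl k := by
  have h1 : Equiv.swap (Sum.inr k : Idx m) (Sum.inr k') (Sum.inl k') = Sum.inl k' :=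
    Equiv.swap_apply_of_ne_of_ne (by simp) (by simp)
  rw [simpleShort, Equiv.Perm.mul_apply, h1, Equiv.swap_apply_right]

theorem rk1s_simpleShort_ne {k k' j : Fin m} (h1 : j ≠ k) (h2 : j ≠ k') :
    simpleShort k k' (Sum.inl j) = Sum.inl j := by
  have h3 : Equiv.swap (Sum.inr k : Idx m) (Sum.inr k') (Sum.inl j) = Sum.inl j :=
    Equiv.swap_apply_of_ne_of_ne (by simp) (by simp)
  rw [simpleShort, Equiv.Perm.mul_apply, h3,
    Equiv.swap_apply_of_ne_of_ne (by simpa using h1) (by simpa using h2)]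

/-- LEAF RK1S. -/
theorem rk1S [Fintype F] (hab : Aniso a b) {k k' : Fin m} (hkk : (k : ℕ) + 1 = (k' : ℕ)) {s : OG F m a b}
    (hs : mat s = permBlock (simpleShort k k')) :
    ∀ x ∈ XS F m a b k k', x = 1 ∨ ∃ c ∈ Bo F m a b, ∃ y ∈ XS F m a b k' k, s * x = c * y := by
  rintro x ⟨t, hx⟩
  have hne : k ≠ k' := by
    intro h
    rw [h] at hkk
    omega
  by_cases ht : t = 0
  · left
    rw [ht, zero_smul] at hx
    exact rk1s_actsAs_zero hx
  right
  have hu' : minusForm m F a b (ve F k') = 0 := rk1s_Q_e k'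
  have huv' : QuadraticMap.polar (⇑(minusForm m F a b)) (ve F k') (t⁻¹ • vf F k) = 0 := by
    rw [rk1s_pol_e, Pi.smul_apply, rk1s_vf_f, if_neg (fun h => hne h.symm), smul_zero]
  obtain ⟨y, hy⟩ := eichler_exists hab (ve F k') (t⁻¹ • vf F k) hu' huv'
  have hyi := rk1s_actsAs_inv hab hy hu' huv'
  rw [← neg_smul] at hyi
  refine ⟨s * x * y⁻¹, ?_, y, ⟨t⁻¹, hy⟩, by group⟩
  apply mem_Bo_of_e_cols
  intro j i hji
  rw [bflag_entry]
  have hse : ∀ l : Fin m, mat s *ᵥ ve F l = ve F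
      (if l = k then k' else if l = k' then k else l) := by
    intro l
    rw [hs]
    unfold ve
    rw [rk1s_permBlock_single]
    by_cases h1 : l = k
    · rw [if_pos h1, h1, rk1s_simpleShort_k hne]
    · by_cases h2 : l = k'
      · rw [if_neg h1, if_pos h2, h2, rk1s_simpleShort_k' hne]
      · rw [if_neg h1, if_neg h2, rk1s_simpleShort_ne h1 h2]
  have hcol : mat (s * x * y⁻¹) *ᵥ ve F j = mat s *ᵥ (mat x *ᵥ (mat y⁻¹ *ᵥ ve F j)) := by
    rw [rk1s_mul_mulVec, rk1s_mul_mulVec]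
  show (mat (s * x * y⁻¹) *ᵥ ve F j) i = 0
  rw [hcol, rk1s_E_e hyi j]
  by_cases hjk : j = k
  · -- column `e_k`: `t⁻¹ e_k`
    rw [if_pos hjk, hjk, Matrix.mulVec_sub, Matrix.mulVec_smul, rk1s_E_e hx k, rk1s_E_e hx k',
      if_neg hne, if_pos rfl, zero_smul, sub_zero, Matrix.mulVec_sub, Matrix.mulVec_smul,
      Matrix.mulVec_sub, Matrix.mulVec_smul, hse k, hse k', if_pos rfl, if_neg (fun h => hne h.symm),
      if_pos rfl]
    have h0 : ve F k i = 0 := rk1s_ve_lt (le_of_eq (congrArg Fin.val hjk.symm)) hji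
    simp only [Pi.sub_apply, Pi.smul_apply, smul_eq_mul, h0, mul_zero, sub_zero]
    field_simp
    ring
  · rw [if_neg hjk, zero_smul, sub_zero, rk1s_E_e hx j]
    by_cases hjk' : j = k'
    · -- column `e_k'`: `e_k - t e_k'`
      rw [if_pos hjk', hjk', Matrix.mulVec_sub, Matrix.mulVec_smul, hse k, hse k', if_pos rfl,
        if_neg (fun h => hne h.symm), if_pos rfl]
      have h0 : ve F k i = 0 := rk1s_ve_lt (by omega) hji
      have h1 : ve F k' i = 0 := rk1s_ve_lt (le_of_eq (congrArg Fin.val hjk'.symm)) hji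
      simp only [Pi.sub_apply, Pi.smul_apply, smul_eq_mul, h0, h1, mul_zero, sub_zero]
    · rw [if_neg hjk', zero_smul, sub_zero, hse j, if_neg hjk, if_neg hjk']
      exact rk1s_ve_lt le_rfl hji

end Cfsg.Agent.Lib.Helper41.OmBN
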