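import Mathlib
import Cfsg.Agent.Lib.Helper41.OmBNDefs
import Cfsg.Agent.Lib.Helper80.OmBN_BFLAG
import Cfsg.Agent.Lib.Helper1.OmBN_RK1S

/-!
# OmBN hive (S2549, owner helper41): leaf OmBN-RK1L `rk1L` (helper1)
-/

set_option autoImplicit false
set_option linter.unusedVariables false
set_option linter.unusedSectionVars false

namespace Cfsg.Agent.Lib.Helper41.OmBN

open Matrix Cfsg Cfsg.Agent.Lib.Helper13 Cfsg.Agent.Lib.Helper8 Cfsg.Agent.Lib.Helper43
  Cfsg.Agent.Lib.Helper41.SpBN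

variable {F : Type*} [Field F] {m : ℕ} {a b : F}

theorem rk1l_vw_l (c : Fin 2 → F) (s : Idx m) : vw F m c (Sum.inl s) = 0 := rfl

theorem rk1l_vw_r (c : Fin 2 → F) (t : Fin 2) : vw F m c (Sum.inr t) = c t := rfl

theorem rk1l_vw_smul (r : F) (c : Fin 2 → F) : vw F m (r • c) = r • vw F m c := by
  funext i
  rcases i with s | t
  · simp [vw]
  · simp [vw]

theorem rk1l_vw_neg (c : Fin 2 → F) : vw F m (-c) = -vw F m c := by
  funext i
  rcases i with s | t
  · simp [vw]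
  · simp [vw]

theorem rk1l_Q_w (c : Fin 2 → F) :
    minusForm m F a b (vw F m c) = c 0 ^ 2 + a * c 0 * c 1 + b * c 1 ^ 2 := by
  rw [← minusForm_coe]
  unfold Cfsg.quadFormMinus
  simp only [rk1l_vw_l, rk1l_vw_r, mul_zero, Finset.sum_const_zero, zero_add]

theorem rk1l_pol_e_w (k : Fin m) (c : Fin 2 → F) :
    QuadraticMap.polar (⇑(minusForm m F a b)) (ve F k) (vw F m c) = 0 := by
  rw [rk1s_pol_e, rk1l_vw_l]

theorem rk1l_pol_f_w (k : Fin m) (c : Fin 2 → F) :
    QuadraticMap.polar (⇑(minusForm m F a b)) (vf F k) (vw F m c) = 0 := by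
  rw [rk1s_pol_f, rk1l_vw_l]

theorem rk1l_pol_w_e (k : Fin m) (c : Fin 2 → F) :
    QuadraticMap.polar (⇑(minusForm m F a b)) (vw F m c) (ve F k) = 0 := by
  rw [QuadraticMap.polar_comm, rk1l_pol_e_w]

theorem rk1l_pol_w_f (k : Fin m) (c : Fin 2 → F) :
    QuadraticMap.polar (⇑(minusForm m F a b)) (vw F m c) (vf F k) = 0 := by
  rw [QuadraticMap.polar_comm, rk1l_pol_f_w]

theorem rk1l_simpleLong_f (k : Fin m) : simpleLong k (Sum.inr k) = Sum.inl k := by
  rw [simpleLong, Equiv.swap_apply_right]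

theorem rk1l_simpleLong_ne {k j : Fin m} (h : j ≠ k) : simpleLong k (Sum.inl j) = Sum.inl j := by
  rw [simpleLong, Equiv.swap_apply_of_ne_of_ne (by simpa using h) (by simp)]

/-- LEAF RK1L. -/
theorem rk1L [Fintype F] (hab : Aniso a b) {k : Fin m} (hk : (k : ℕ) + 1 = m) {s : OG F m a b}
    (hs : mat s = permBlock (simpleLong k)) :
    ∀ x ∈ XL F m a b k, x = 1 ∨ ∃ c ∈ Bo F m a b, ∃ y ∈ XLm F m a b k, s * x = c * y := by
  rintro x ⟨c, hx⟩
  by_cases hc : c = 0
  · left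
    have : vw F m c = 0 := by
      rw [hc]
      funext i
      rcases i with s | t <;> rfl
    rw [this] at hx
    exact rk1s_actsAs_zero hx
  right
  obtain ⟨w, hw⟩ : ∃ w, w = vw F m c := ⟨_, rfl⟩
  obtain ⟨q, hq⟩ : ∃ q, q = minusForm m F a b w := ⟨_, rfl⟩
  have hq0 : q ≠ 0 := by
    intro h0
    rw [hq, hw, rk1l_Q_w] at h0
    obtain ⟨h1, h2⟩ := hab _ _ h0
    apply hc
    funext t
    fin_cases t
    · exact h1
    · exact h2
  obtain ⟨r, hr⟩ : ∃ r, r = q⁻¹ := ⟨_, rfl⟩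
  have hrq : r * q = 1 := by rw [hr, inv_mul_cancel₀ hq0]
  -- polar values
  have hEw : QuadraticMap.polar (⇑(minusForm m F a b)) (ve F k) w = 0 := by
    rw [hw]; exact rk1l_pol_e_w k c
  have hFw : QuadraticMap.polar (⇑(minusForm m F a b)) (vf F k) w = 0 := by
    rw [hw]; exact rk1l_pol_f_w k c
  have hwE : ∀ j : Fin m, QuadraticMap.polar (⇑(minusForm m F a b)) w (ve F j) = 0 := by
    intro j; rw [hw]; exact rk1l_pol_w_e j c
  have hwF : ∀ j : Fin m, QuadraticMap.polar (⇑(minusForm m F a b)) w (vf F j) = 0 := by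
    intro j; rw [hw]; exact rk1l_pol_w_f j c
  rw [← hw] at hx
  -- the element `y = E(f_k, -(r • w))`
  have hu' : minusForm m F a b (vf F k) = 0 := rk1s_Q_f k
  have huv' : QuadraticMap.polar (⇑(minusForm m F a b)) (vf F k) (-(r • w)) = 0 := by
    rw [QuadraticMap.polar_neg_right, QuadraticMap.polar_smul_right, hFw, smul_zero, neg_zero]
  obtain ⟨y, hy⟩ := eichler_exists hab (vf F k) (-(r • w)) hu' huv'
  have hyi := rk1s_actsAs_inv hab hy hu' huv'
  rw [neg_neg] at hyi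
  have hyX : y ∈ XLm F m a b k := by
    refine ⟨-(r • c), ?_⟩
    rw [rk1l_vw_neg, rk1l_vw_smul, ← hw]
    exact hy
  refine ⟨s * x * y⁻¹, ?_, y, hyX, by group⟩
  apply mem_Bo_of_e_cols
  intro j i hji
  rw [bflag_entry]
  have hcol : mat (s * x * y⁻¹) *ᵥ ve F j = mat s *ᵥ (mat x *ᵥ (mat y⁻¹ *ᵥ ve F j)) := by
    rw [rk1s_mul_mulVec, rk1s_mul_mulVec]
  show (mat (s * x * y⁻¹) *ᵥ ve F j) i = 0
  rw [hcol]
  -- the action of `x` on `e_j`, `w`, `f_k`
  have hxe : ∀ l : Fin m, mat x *ᵥ ve F l = ve F l := by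
    intro l
    rw [rk1s_acts hx, rk1s_pol_e, rk1s_ve_f, hwE, zero_smul, zero_smul, mul_zero, zero_smul,
      add_zero, sub_zero, sub_zero]
  have hxw : mat x *ᵥ w = w - (2 * q) • ve F k := by
    rw [rk1s_acts hx, hEw, QuadraticMap.polar_self, ← hq, zero_smul, mul_zero, zero_smul, add_zero,
      sub_zero, nsmul_eq_mul]
    norm_num
  have hxf : mat x *ᵥ vf F k = vf F k + w - q • ve F k := by
    rw [rk1s_acts hx, rk1s_pol_e, rk1s_vf_f, if_pos rfl, hwF, zero_smul, sub_zero, one_smul, ← hq,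
      mul_one]
  -- the action of `y⁻¹` on `e_j`
  have hye : ∀ l : Fin m, mat y⁻¹ *ᵥ ve F l
      = ve F l + (if l = k then (1 : F) else 0) • (r • w) - (r * r * q * (if l = k then (1 : F) else 0)) • vf F k := by
    intro l
    rw [rk1s_acts hyi, rk1s_pol_f, rk1s_ve_e, QuadraticMap.polar_smul_left, hwE, smul_zero,
      zero_smul, sub_zero, QuadraticMap.map_smul, ← hq, smul_eq_mul]
    by_cases hlk : l = k
    · rw [if_pos hlk, if_pos hlk.symm]
    · rw [if_neg hlk, if_neg (fun h => hlk h.symm)]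
  by_cases hjk : j = k
  · rw [hjk, hye k, if_pos rfl, one_smul, mul_one, Matrix.mulVec_sub, Matrix.mulVec_add,
      Matrix.mulVec_smul, Matrix.mulVec_smul, hxe, hxw, hxf]
    have hkey : ve F k + r • (w - (2 * q) • ve F k) - (r * r * q) • (vf F k + w - q • ve F k)
        = (-r) • vf F k := by
      funext i'
      simp only [Pi.add_apply, Pi.sub_apply, Pi.smul_apply, smul_eq_mul]
      linear_combination (ve F k i' * (r * q - 1) - w i' * r - vf F k i' * r) * hrq
    rw [hkey, Matrix.mulVec_smul, hs]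
    have hsf : (permBlock (simpleLong k) : Matrix (MIdx m) (MIdx m) F) *ᵥ vf F k = ve F k := by
      unfold vf ve
      rw [rk1s_permBlock_single, rk1l_simpleLong_f]
    rw [hsf, Pi.smul_apply, rk1s_ve_lt (le_of_eq (congrArg Fin.val hjk.symm)) hji, smul_zero]
  · rw [hye j, if_neg hjk, zero_smul, mul_zero, zero_smul, add_zero, sub_zero, hxe, hs]
    have hse : (permBlock (simpleLong k) : Matrix (MIdx m) (MIdx m) F) *ᵥ ve F j = ve F j := by
      unfold ve
      rw [rk1s_permBlock_single, rk1l_simpleLong_ne hjk]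
    rw [hse]
    exact rk1s_ve_lt le_rfl hji

end Cfsg.Agent.Lib.Helper41.OmBN
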