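import Mathlib
import Cfsg.Prelude.Def_ClassicalGeometry
import Cfsg.Prelude.Def_GeometricClasses
import Cfsg.Agent.Lib.Helper81.OnDefs
import Cfsg.Agent.Lib.Helper37.OrthSum

/-!
# On hive (S5989, owner helper81): leaf ON-E3 `exists_block_sum` (helper1)
-/

set_option autoImplicit false
set_option linter.unusedVariables false
set_option linter.unusedSectionVars false

namespace Cfsg.Agent.Lib.Helper81.On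

open Polynomial Module Matrix
open Cfsg.Agent.Lib.Helper2.BG Cfsg.Agent.Lib.Helper99 Cfsg.Agent.Lib.Helper48.Ti

section concrete

variable {F : Type*} [Field F]

local notation "Mat" d => Matrix (Fin d ⊕ Fin d) (Fin d ⊕ Fin d) F

/-- the reindexing `(Fin n₁ ⊕ Fin n₁) ⊕ (Fin n₂ ⊕ Fin n₂) ≃ Fin (n₁+n₂) ⊕ Fin (n₁+n₂)` -/
def e3_equiv (n₁ n₂ : ℕ) :
    (Fin n₁ ⊕ Fin n₁) ⊕ (Fin n₂ ⊕ Fin n₂) ≃ Fin (n₁ + n₂) ⊕ Fin (n₁ + n₂) :=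
  (Equiv.sumSumSumComm _ _ _ _).trans (Equiv.sumCongr finSumFinEquiv finSumFinEquiv)

/-- the hyperbolic form splits along the reindexing -/
theorem e3_quad (n₁ n₂ : ℕ) (w : Fin (n₁ + n₂) ⊕ Fin (n₁ + n₂) → F) :
    Cfsg.quadFormPlus (n₁ + n₂) F w
      = Cfsg.quadFormPlus n₁ F ((w ∘ e3_equiv n₁ n₂) ∘ Sum.inl)
        + Cfsg.quadFormPlus n₂ F ((w ∘ e3_equiv n₁ n₂) ∘ Sum.inr) := by
  unfold Cfsg.quadFormPlus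
  rw [Fin.sum_univ_add]
  rfl

/-- the block sum as an invertible matrix -/
noncomputable def e3_elt (n₁ n₂ : ℕ) (x₁ : GL (Fin n₁ ⊕ Fin n₁) F) (x₂ : GL (Fin n₂ ⊕ Fin n₂) F) :
    GL (Fin (n₁ + n₂) ⊕ Fin (n₁ + n₂)) F :=
  Units.map (Matrix.reindexAlgEquiv F F (e3_equiv n₁ n₂)).toAlgHom.toRingHom.toMonoidHom
    (Cfsg.Agent.Lib.Helper37.blockGL F _ _ (x₁, x₂))

theorem e3_elt_val (n₁ n₂ : ℕ) (x₁ : GL (Fin n₁ ⊕ Fin n₁) F) (x₂ : GL (Fin n₂ ⊕ Fin n₂) F) :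
    ((e3_elt n₁ n₂ x₁ x₂ : GL (Fin (n₁ + n₂) ⊕ Fin (n₁ + n₂)) F) : Mat (n₁ + n₂))
      = (Matrix.fromBlocks (x₁ : Mat n₁) 0 0 (x₂ : Mat n₂)).submatrix
          (e3_equiv n₁ n₂).symm (e3_equiv n₁ n₂).symm := rfl

theorem e3_elt_mulVec (n₁ n₂ : ℕ) (x₁ : GL (Fin n₁ ⊕ Fin n₁) F) (x₂ : GL (Fin n₂ ⊕ Fin n₂) F)
    (v : Fin (n₁ + n₂) ⊕ Fin (n₁ + n₂) → F) :
    ((e3_elt n₁ n₂ x₁ x₂ : GL (Fin (n₁ + n₂) ⊕ Fin (n₁ + n₂)) F) : Mat (n₁ + n₂)) *ᵥ v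
      = (Matrix.fromBlocks (x₁ : Mat n₁) 0 0 (x₂ : Mat n₂) *ᵥ (v ∘ e3_equiv n₁ n₂))
          ∘ (e3_equiv n₁ n₂).symm := by
  rw [e3_elt_val, Matrix.submatrix_mulVec_equiv, Equiv.symm_symm]

theorem e3_elt_pow (n₁ n₂ k : ℕ) (x₁ : GL (Fin n₁ ⊕ Fin n₁) F) (x₂ : GL (Fin n₂ ⊕ Fin n₂) F)
    (hx₁ : x₁ ^ k = 1) (hx₂ : x₂ ^ k = 1) : e3_elt n₁ n₂ x₁ x₂ ^ k = 1 := by
  unfold e3_elt
  rw [← map_pow, ← map_pow]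
  have : ((x₁, x₂) : GL (Fin n₁ ⊕ Fin n₁) F × GL (Fin n₂ ⊕ Fin n₂) F) ^ k = 1 := by
    rw [Prod.pow_mk, hx₁, hx₂]
    rfl
  rw [this, map_one, map_one]

/-- ON-E3. -/
theorem exists_block_sum (n₁ n₂ k : ℕ) (x₁ : GL (Fin n₁ ⊕ Fin n₁) F)
    (h₁ : x₁ ∈ Cfsg.isometryGroup F (Cfsg.quadFormPlus n₁ F)) (hx₁ : x₁ ^ k = 1)
    (x₂ : GL (Fin n₂ ⊕ Fin n₂) F)
    (h₂ : x₂ ∈ Cfsg.isometryGroup F (Cfsg.quadFormPlus n₂ F)) (hx₂ : x₂ ^ k = 1) :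
    ∃ x : GL (Fin (n₁ + n₂) ⊕ Fin (n₁ + n₂)) F,
      x ∈ Cfsg.isometryGroup F (Cfsg.quadFormPlus (n₁ + n₂) F) ∧ x ^ k = 1 ∧
      finrank F (LinearMap.ker (Matrix.toLin' (x : Mat (n₁ + n₂)) - 1))
        = finrank F (LinearMap.ker (Matrix.toLin' (x₁ : Mat n₁) - 1))
          + finrank F (LinearMap.ker (Matrix.toLin' (x₂ : Mat n₂) - 1)) := by
  refine ⟨e3_elt n₁ n₂ x₁ x₂, ?_, e3_elt_pow n₁ n₂ k x₁ x₂ hx₁ hx₂, ?_⟩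
  · rw [Cfsg.Agent.Lib.Helper37.mem_isometryGroup_iff'] at h₁ h₂ ⊢
    intro v
    rw [e3_elt_mulVec, e3_quad, e3_quad n₁ n₂ v]
    have hcomp : ((Matrix.fromBlocks (x₁ : Mat n₁) 0 0 (x₂ : Mat n₂) *ᵥ (v ∘ e3_equiv n₁ n₂))
          ∘ (e3_equiv n₁ n₂).symm) ∘ e3_equiv n₁ n₂
        = Matrix.fromBlocks (x₁ : Mat n₁) 0 0 (x₂ : Mat n₂) *ᵥ (v ∘ e3_equiv n₁ n₂) := by
      funext j
      simp
    rw [hcomp, Matrix.fromBlocks_mulVec]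
    have hl : (Sum.elim ((x₁ : Mat n₁) *ᵥ ((v ∘ e3_equiv n₁ n₂) ∘ Sum.inl)
          + (0 : Matrix (Fin n₁ ⊕ Fin n₁) (Fin n₂ ⊕ Fin n₂) F) *ᵥ ((v ∘ e3_equiv n₁ n₂) ∘ Sum.inr))
        ((0 : Matrix (Fin n₂ ⊕ Fin n₂) (Fin n₁ ⊕ Fin n₁) F) *ᵥ ((v ∘ e3_equiv n₁ n₂) ∘ Sum.inl)
          + (x₂ : Mat n₂) *ᵥ ((v ∘ e3_equiv n₁ n₂) ∘ Sum.inr))) ∘ Sum.inl
        = (x₁ : Mat n₁) *ᵥ ((v ∘ e3_equiv n₁ n₂) ∘ Sum.inl) := by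
      funext j
      simp
    have hr : (Sum.elim ((x₁ : Mat n₁) *ᵥ ((v ∘ e3_equiv n₁ n₂) ∘ Sum.inl)
          + (0 : Matrix (Fin n₁ ⊕ Fin n₁) (Fin n₂ ⊕ Fin n₂) F) *ᵥ ((v ∘ e3_equiv n₁ n₂) ∘ Sum.inr))
        ((0 : Matrix (Fin n₂ ⊕ Fin n₂) (Fin n₁ ⊕ Fin n₁) F) *ᵥ ((v ∘ e3_equiv n₁ n₂) ∘ Sum.inl)
          + (x₂ : Mat n₂) *ᵥ ((v ∘ e3_equiv n₁ n₂) ∘ Sum.inr))) ∘ Sum.inr
        = (x₂ : Mat n₂) *ᵥ ((v ∘ e3_equiv n₁ n₂) ∘ Sum.inr) := by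
      funext j
      simp
    rw [hl, hr, h₁, h₂]
  · -- fixed spaces
    have hfix : ∀ {κ : Type} [Fintype κ] [DecidableEq κ] (M : Matrix κ κ F),
        LinearMap.ker (Matrix.toLin' M - 1) = Cfsg.Agent.Lib.Helper8.fixSub M := by
      intro κ _ _ M
      unfold Cfsg.Agent.Lib.Helper8.fixSub
      rw [map_sub, Matrix.toLin'_one]
      rfl
    rw [hfix, hfix, hfix, ← Cfsg.Agent.Lib.Helper37.finrank_fixSub_fromBlocks]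
    have hmap : Cfsg.Agent.Lib.Helper8.fixSub
          ((e3_elt n₁ n₂ x₁ x₂ : GL (Fin (n₁ + n₂) ⊕ Fin (n₁ + n₂)) F) : Mat (n₁ + n₂))
        = (Cfsg.Agent.Lib.Helper8.fixSub
            (Matrix.fromBlocks (x₁ : Mat n₁) 0 0 (x₂ : Mat n₂))).map
          (LinearEquiv.funCongrLeft F F (e3_equiv n₁ n₂).symm).toLinearMap := by
      ext v
      rw [Submodule.mem_map_equiv, Cfsg.Agent.Lib.Helper8.mem_fixSub,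
        Cfsg.Agent.Lib.Helper8.mem_fixSub, e3_elt_mulVec]
      have hsymm : (LinearEquiv.funCongrLeft F F (e3_equiv n₁ n₂).symm).symm v
          = v ∘ e3_equiv n₁ n₂ := by
        funext j
        simp [LinearEquiv.funCongrLeft]
      rw [hsymm]
      constructor
      · intro h
        have := congrArg (fun u => u ∘ e3_equiv n₁ n₂) h
        simpa [Function.comp_assoc] using this
      · intro h
        rw [h]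
        funext j
        simp
    rw [hmap, LinearEquiv.finrank_map_eq]

end concrete

end Cfsg.Agent.Lib.Helper81.On
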