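import Mathlib
import Cfsg.Prelude.Def_ClassicalGeometry
import Cfsg.Prelude.Def_GeometricClasses
import Cfsg.Agent.Lib.Helper46.OmDefs
import Cfsg.Agent.Lib.Helper37.OrthSum
import Cfsg.Agent.Lib.Helper1.OnE3

/-!
# Om hive (S5991, owner helper46): leaf OM-E3 `exists_block_sum` (helper1), clone of ON-E3
-/

set_option autoImplicit false
set_option linter.unusedVariables false
set_option linter.unusedSectionVars false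

namespace Cfsg.Agent.Lib.Helper46.Om

open Module Matrix
open Cfsg.Agent.Lib.Helper2.BG Cfsg.Agent.Lib.Helper99 Cfsg.Agent.Lib.Helper48.Ti

section concrete

variable {F : Type*} [Field F]

/-- the index type of `quadFormMinus n` -/
abbrev e3m_I (n : ℕ) : Type := (Fin n ⊕ Fin n) ⊕ Fin 2

/-- the reindexing `((Fin n₁ ⊕ Fin n₁) ⊕ Fin 2) ⊕ (Fin n₂ ⊕ Fin n₂) ≃ (Fin (n₁+n₂) ⊕ Fin (n₁+n₂)) ⊕ Fin 2` -/
def e3m_equiv (n₁ n₂ : ℕ) : e3m_I n₁ ⊕ (Fin n₂ ⊕ Fin n₂) ≃ e3m_I (n₁ + n₂) :=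
  ((Equiv.sumAssoc (Fin n₁ ⊕ Fin n₁) (Fin 2) (Fin n₂ ⊕ Fin n₂)).trans
    ((Equiv.sumCongr (Equiv.refl (Fin n₁ ⊕ Fin n₁)) (Equiv.sumComm (Fin 2) (Fin n₂ ⊕ Fin n₂))).trans
      (Equiv.sumAssoc (Fin n₁ ⊕ Fin n₁) (Fin n₂ ⊕ Fin n₂) (Fin 2)).symm)).trans
    (Equiv.sumCongr (Cfsg.Agent.Lib.Helper81.On.e3_equiv n₁ n₂) (Equiv.refl (Fin 2)))

/-- the minus form splits along the reindexing -/
theorem e3m_quad (n₁ n₂ : ℕ) (a b : F) (w : e3m_I (n₁ + n₂) → F) :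
    Cfsg.quadFormMinus (n₁ + n₂) F a b w
      = Cfsg.quadFormMinus n₁ F a b ((w ∘ e3m_equiv n₁ n₂) ∘ Sum.inl)
        + Cfsg.quadFormPlus n₂ F ((w ∘ e3m_equiv n₁ n₂) ∘ Sum.inr) := by
  unfold Cfsg.quadFormMinus Cfsg.quadFormPlus
  rw [Fin.sum_univ_add]
  exact add_right_comm _ _ _

/-- the block sum as an invertible matrix -/
noncomputable def e3m_elt (n₁ n₂ : ℕ) (x₁ : GL (e3m_I n₁) F) (x₂ : GL (Fin n₂ ⊕ Fin n₂) F) :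
    GL (e3m_I (n₁ + n₂)) F :=
  Units.map (Matrix.reindexAlgEquiv F F (e3m_equiv n₁ n₂)).toAlgHom.toRingHom.toMonoidHom
    (Cfsg.Agent.Lib.Helper37.blockGL F _ _ (x₁, x₂))

theorem e3m_elt_val (n₁ n₂ : ℕ) (x₁ : GL (e3m_I n₁) F) (x₂ : GL (Fin n₂ ⊕ Fin n₂) F) :
    ((e3m_elt n₁ n₂ x₁ x₂ : GL (e3m_I (n₁ + n₂)) F) : Matrix (e3m_I (n₁ + n₂)) (e3m_I (n₁ + n₂)) F)
      = (Matrix.fromBlocks (x₁ : Matrix (e3m_I n₁) (e3m_I n₁) F) 0 0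
          (x₂ : Matrix (Fin n₂ ⊕ Fin n₂) (Fin n₂ ⊕ Fin n₂) F)).submatrix
          (e3m_equiv n₁ n₂).symm (e3m_equiv n₁ n₂).symm := rfl

theorem e3m_elt_mulVec (n₁ n₂ : ℕ) (x₁ : GL (e3m_I n₁) F) (x₂ : GL (Fin n₂ ⊕ Fin n₂) F)
    (v : e3m_I (n₁ + n₂) → F) :
    ((e3m_elt n₁ n₂ x₁ x₂ : GL (e3m_I (n₁ + n₂)) F) : Matrix (e3m_I (n₁ + n₂)) (e3m_I (n₁ + n₂)) F) *ᵥ v
      = (Matrix.fromBlocks (x₁ : Matrix (e3m_I n₁) (e3m_I n₁) F) 0 0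
          (x₂ : Matrix (Fin n₂ ⊕ Fin n₂) (Fin n₂ ⊕ Fin n₂) F) *ᵥ (v ∘ e3m_equiv n₁ n₂))
          ∘ (e3m_equiv n₁ n₂).symm := by
  rw [e3m_elt_val, Matrix.submatrix_mulVec_equiv, Equiv.symm_symm]

theorem e3m_elt_pow (n₁ n₂ k : ℕ) (x₁ : GL (e3m_I n₁) F) (x₂ : GL (Fin n₂ ⊕ Fin n₂) F)
    (hx₁ : x₁ ^ k = 1) (hx₂ : x₂ ^ k = 1) : e3m_elt n₁ n₂ x₁ x₂ ^ k = 1 := by
  unfold e3m_elt
  rw [← map_pow, ← map_pow]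
  have : ((x₁, x₂) : GL (e3m_I n₁) F × GL (Fin n₂ ⊕ Fin n₂) F) ^ k = 1 := by
    rw [Prod.pow_mk, hx₁, hx₂]
    rfl
  rw [this, map_one, map_one]

/-- OM-E3. -/
theorem exists_block_sum (n₁ n₂ j : ℕ) (a b : F)
    (x₁ : Matrix.GeneralLinearGroup ((Fin n₁ ⊕ Fin n₁) ⊕ Fin 2) F)
    (h₁ : x₁ ∈ Cfsg.isometryGroup F (Cfsg.quadFormMinus n₁ F a b)) (hx₁ : x₁ ^ j = 1)
    (x₂ : Matrix.GeneralLinearGroup (Fin n₂ ⊕ Fin n₂) F)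
    (h₂ : x₂ ∈ Cfsg.isometryGroup F (Cfsg.quadFormPlus n₂ F)) (hx₂ : x₂ ^ j = 1) :
    ∃ x : Matrix.GeneralLinearGroup ((Fin (n₁ + n₂) ⊕ Fin (n₁ + n₂)) ⊕ Fin 2) F,
      x ∈ Cfsg.isometryGroup F (Cfsg.quadFormMinus (n₁ + n₂) F a b) ∧ x ^ j = 1 ∧
      finrank F (LinearMap.ker (Matrix.toLin' (x : Matrix ((Fin (n₁ + n₂) ⊕ Fin (n₁ + n₂)) ⊕ Fin 2)
          ((Fin (n₁ + n₂) ⊕ Fin (n₁ + n₂)) ⊕ Fin 2) F) - 1))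
        = finrank F (LinearMap.ker (Matrix.toLin'
            (x₁ : Matrix ((Fin n₁ ⊕ Fin n₁) ⊕ Fin 2) ((Fin n₁ ⊕ Fin n₁) ⊕ Fin 2) F) - 1))
          + finrank F (LinearMap.ker (Matrix.toLin'
            (x₂ : Matrix (Fin n₂ ⊕ Fin n₂) (Fin n₂ ⊕ Fin n₂) F) - 1)) := by
  refine ⟨e3m_elt n₁ n₂ x₁ x₂, ?_, e3m_elt_pow n₁ n₂ j x₁ x₂ hx₁ hx₂, ?_⟩
  · rw [Cfsg.Agent.Lib.Helper37.mem_isometryGroup_iff'] at h₁ h₂ ⊢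
    intro v
    rw [e3m_elt_mulVec, e3m_quad, e3m_quad n₁ n₂ a b v]
    have hcomp : ((Matrix.fromBlocks (x₁ : Matrix (e3m_I n₁) (e3m_I n₁) F) 0 0
            (x₂ : Matrix (Fin n₂ ⊕ Fin n₂) (Fin n₂ ⊕ Fin n₂) F) *ᵥ (v ∘ e3m_equiv n₁ n₂))
          ∘ (e3m_equiv n₁ n₂).symm) ∘ e3m_equiv n₁ n₂
        = Matrix.fromBlocks (x₁ : Matrix (e3m_I n₁) (e3m_I n₁) F) 0 0
            (x₂ : Matrix (Fin n₂ ⊕ Fin n₂) (Fin n₂ ⊕ Fin n₂) F) *ᵥ (v ∘ e3m_equiv n₁ n₂) := by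
      funext i
      simp
    rw [hcomp, Matrix.fromBlocks_mulVec]
    have hl : (Sum.elim ((x₁ : Matrix (e3m_I n₁) (e3m_I n₁) F) *ᵥ ((v ∘ e3m_equiv n₁ n₂) ∘ Sum.inl)
          + (0 : Matrix (e3m_I n₁) (Fin n₂ ⊕ Fin n₂) F) *ᵥ ((v ∘ e3m_equiv n₁ n₂) ∘ Sum.inr))
        ((0 : Matrix (Fin n₂ ⊕ Fin n₂) (e3m_I n₁) F) *ᵥ ((v ∘ e3m_equiv n₁ n₂) ∘ Sum.inl)
          + (x₂ : Matrix (Fin n₂ ⊕ Fin n₂) (Fin n₂ ⊕ Fin n₂) F) *ᵥ ((v ∘ e3m_equiv n₁ n₂) ∘ Sum.inr)))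
          ∘ Sum.inl
        = (x₁ : Matrix (e3m_I n₁) (e3m_I n₁) F) *ᵥ ((v ∘ e3m_equiv n₁ n₂) ∘ Sum.inl) := by
      funext i
      simp
    have hr : (Sum.elim ((x₁ : Matrix (e3m_I n₁) (e3m_I n₁) F) *ᵥ ((v ∘ e3m_equiv n₁ n₂) ∘ Sum.inl)
          + (0 : Matrix (e3m_I n₁) (Fin n₂ ⊕ Fin n₂) F) *ᵥ ((v ∘ e3m_equiv n₁ n₂) ∘ Sum.inr))
        ((0 : Matrix (Fin n₂ ⊕ Fin n₂) (e3m_I n₁) F) *ᵥ ((v ∘ e3m_equiv n₁ n₂) ∘ Sum.inl)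
          + (x₂ : Matrix (Fin n₂ ⊕ Fin n₂) (Fin n₂ ⊕ Fin n₂) F) *ᵥ ((v ∘ e3m_equiv n₁ n₂) ∘ Sum.inr)))
          ∘ Sum.inr
        = (x₂ : Matrix (Fin n₂ ⊕ Fin n₂) (Fin n₂ ⊕ Fin n₂) F) *ᵥ ((v ∘ e3m_equiv n₁ n₂) ∘ Sum.inr) := by
      funext i
      simp
    rw [hl, hr, h₁, h₂]
  · -- fixed spaces
    have hfix : ∀ {κ : Type} [Fintype κ] [DecidableEq κ] (M : Matrix κ κ F),
        LinearMap.ker (Matrix.toLin' M - 1) = Cfsg.Agent.Lib.Helper8.fixSub M := by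
      intro κ _ _ M
      unfold Cfsg.Agent.Lib.Helper8.fixSub
      rw [map_sub, Matrix.toLin'_one]
      rfl
    rw [hfix, hfix, hfix, ← Cfsg.Agent.Lib.Helper37.finrank_fixSub_fromBlocks]
    have hmap : Cfsg.Agent.Lib.Helper8.fixSub
          ((e3m_elt n₁ n₂ x₁ x₂ : GL (e3m_I (n₁ + n₂)) F) :
            Matrix (e3m_I (n₁ + n₂)) (e3m_I (n₁ + n₂)) F)
        = (Cfsg.Agent.Lib.Helper8.fixSub
            (Matrix.fromBlocks (x₁ : Matrix (e3m_I n₁) (e3m_I n₁) F) 0 0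
              (x₂ : Matrix (Fin n₂ ⊕ Fin n₂) (Fin n₂ ⊕ Fin n₂) F))).map
          (LinearEquiv.funCongrLeft F F (e3m_equiv n₁ n₂).symm).toLinearMap := by
      ext v
      rw [Submodule.mem_map_equiv, Cfsg.Agent.Lib.Helper8.mem_fixSub,
        Cfsg.Agent.Lib.Helper8.mem_fixSub, e3m_elt_mulVec]
      have hsymm : (LinearEquiv.funCongrLeft F F (e3m_equiv n₁ n₂).symm).symm v
          = v ∘ e3m_equiv n₁ n₂ := by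
        funext i
        simp [LinearEquiv.funCongrLeft]
      rw [hsymm]
      constructor
      · intro h
        have := congrArg (fun u => u ∘ e3m_equiv n₁ n₂) h
        simpa [Function.comp_assoc] using this
      · intro h
        rw [h]
        funext i
        simp
    rw [hmap, LinearEquiv.finrank_map_eq]

end concrete

end Cfsg.Agent.Lib.Helper46.Om
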