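import Mathlib
import Cfsg.Agent.Lib.Helper39.OoDefs
import Cfsg.Agent.Lib.Helper39.OoINVF
import Cfsg.Agent.Lib.Helper85.OoROOTA

/-! # S2547 hive (helper39), leaf OO-RK1A (helper1): the rank one identity for a long simple root -/

set_option autoImplicit false
set_option linter.unusedVariables false
set_option linter.unusedSectionVars false
set_option linter.unusedSimpArgs false

namespace Cfsg.Agent.Lib.Helper39.OoBN

open Matrix Cfsg

variable {F : Type*} [Field F] {m : ℕ}

/-- rows of `permMat σ * M` -/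
theorem rk1a_perm_mul_apply (σ : Equiv.Perm (Idx m)) (M : Matrix (Idx m) (Idx m) F) (p q : Idx m) :
    (permMat F σ * M) p q = M (σ.symm p) q := by
  rw [Matrix.mul_apply, Finset.sum_eq_single (σ.symm p)]
  · rw [permMat_apply, if_pos (Equiv.apply_symm_apply σ p).symm, one_mul]
  · intro r _ hr
    rw [permMat_apply, if_neg, zero_mul]
    intro hp
    apply hr
    rw [hp, Equiv.symm_apply_apply]
  · intro hp
    exact absurd (Finset.mem_univ _) hp

theorem rk1a_simpleA_e0 (k k' : Fin m) : simpleA k k' (e0 : Idx m) = e0 := by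
  unfold simpleA
  simp [Equiv.swap_apply_def, xi, yi, e0]

theorem rk1a_simpleA_xi (k k' i : Fin m) :
    simpleA k k' (xi i) = if i = k then xi k' else if i = k' then xi k else xi i := by
  unfold simpleA
  simp only [Equiv.Perm.mul_apply, Equiv.swap_apply_def, xi, yi]
  split_ifs <;> simp_all

theorem rk1a_simpleA_yi (k k' i : Fin m) :
    simpleA k k' (yi i) = if i = k then yi k' else if i = k' then yi k else yi i := by
  unfold simpleA
  simp only [Equiv.Perm.mul_apply, Equiv.swap_apply_def, xi, yi]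
  split_ifs <;> simp_all

theorem rk1a_simpleA_symm {k k' : Fin m} (hkk : k ≠ k') : (simpleA k k').symm = simpleA k k' := by
  unfold simpleA
  have hd : Equiv.Perm.Disjoint (Equiv.swap (xi k : Idx m) (xi k')) (Equiv.swap (yi k) (yi k')) := by
    apply Equiv.Perm.disjoint_swap_swap
    simp [xi, yi, hkk]
  show (Equiv.swap (xi k) (xi k') * Equiv.swap (yi k) (yi k'))⁻¹ = _
  rw [_root_.mul_inv_rev, Equiv.swap_inv, Equiv.swap_inv, hd.commute.eq]

/-- the matrix of the long root element for `ε_a - ε_b` -/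
def rk1aX (F : Type*) [Field F] {m : ℕ} (a b : Fin m) (t : F) : Matrix (Idx m) (Idx m) F :=
  1 + t • Matrix.single (xi a) (xi b) (1 : F) - t • Matrix.single (yi b) (yi a) (1 : F)

theorem rk1a_X_apply (a b : Fin m) (t : F) (r c : Idx m) :
    rk1aX F a b t r c = (if r = c then 1 else 0) + (if r = xi a ∧ c = xi b then t else 0)
      - (if r = yi b ∧ c = yi a then t else 0) := by
  unfold rk1aX
  simp only [Matrix.add_apply, Matrix.sub_apply, Matrix.smul_apply, Matrix.one_apply,
    Matrix.single_apply, smul_eq_mul, mul_ite, mul_one, mul_zero]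
  congr 1
  · congr 1
    by_cases h : r = xi a ∧ c = xi b
    · rw [if_pos h, if_pos ⟨h.1.symm, h.2.symm⟩]
    · rw [if_neg h, if_neg]
      rintro ⟨h1, h2⟩
      exact h ⟨h1.symm, h2.symm⟩
  · by_cases h : r = yi b ∧ c = yi a
    · rw [if_pos h, if_pos ⟨h.1.symm, h.2.symm⟩]
    · rw [if_neg h, if_neg]
      rintro ⟨h1, h2⟩
      exact h ⟨h1.symm, h2.symm⟩

theorem rk1a_xi_ne_e0 (k : Fin m) : (xi k : Idx m) ≠ e0 := by simp [xi, e0]
theorem rk1a_yi_ne_e0 (k : Fin m) : (yi k : Idx m) ≠ e0 := by simp [yi, e0]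
theorem rk1a_xi_ne_yi (k j : Fin m) : (xi k : Idx m) ≠ yi j := by simp [xi, yi]
theorem rk1a_yi_ne_xi (k j : Fin m) : (yi k : Idx m) ≠ xi j := by simp [xi, yi]
theorem rk1a_e0_ne_xi (k : Fin m) : (e0 : Idx m) ≠ xi k := by simp [xi, e0]
theorem rk1a_e0_ne_yi (k : Fin m) : (e0 : Idx m) ≠ yi k := by simp [yi, e0]
theorem rk1a_xi_inj {k j : Fin m} : (xi k : Idx m) = xi j ↔ k = j := by simp [xi]
theorem rk1a_yi_inj {k j : Fin m} : (yi k : Idx m) = yi j ↔ k = j := by simp [yi]

/-- product of a matrix with the root element for `ε_a - ε_b`: the columns `x_j`. -/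
theorem rk1a_mul_X_apply (M : Matrix (Idx m) (Idx m) F) (a b : Fin m) (u : F) (r : Idx m) (j : Fin m) :
    (M * rk1aX F a b u) r (xi j) =
      M r (xi j) + (if j = b then u * M r (xi a) else 0) := by
  unfold rk1aX
  rw [Matrix.mul_sub, Matrix.mul_add, Matrix.mul_one, Matrix.mul_smul, Matrix.mul_smul]
  simp only [Matrix.add_apply, Matrix.sub_apply, Matrix.smul_apply, smul_eq_mul]
  rw [Matrix.mul_single_apply_of_ne _ _ _ _ _ (rk1a_xi_ne_yi j a)]
  by_cases hjb : j = b
  · subst hjb
    rw [Matrix.mul_single_apply_same, if_pos rfl]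
    ring
  · have hne : (xi j : Idx m) ≠ xi b := fun h => hjb (rk1a_xi_inj.mp h)
    rw [Matrix.mul_single_apply_of_ne _ _ _ _ _ hne, if_neg hjb]
    ring

/-- `x(-u) * x(u) = 1`. -/
theorem rk1a_X_mul {a b : Fin m} (hab : a ≠ b) (u : F) : rk1aX F a b (-u) * rk1aX F a b u = 1 := by
  unfold rk1aX
  have h1 : (xi b : Idx m) ≠ xi a := fun h => hab (rk1a_xi_inj.mp h).symm
  have h2 : (xi b : Idx m) ≠ yi b := rk1a_xi_ne_yi b b
  have h3 : (yi a : Idx m) ≠ xi a := (rk1a_xi_ne_yi a a).symm
  have h4 : (yi a : Idx m) ≠ yi b := fun h => hab (rk1a_yi_inj.mp h)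
  simp only [Matrix.add_mul, Matrix.sub_mul, Matrix.mul_add, Matrix.mul_sub, Matrix.one_mul,
    Matrix.mul_one, Matrix.smul_mul, Matrix.mul_smul, Matrix.single_mul_single_same,
    Matrix.single_mul_single_of_ne _ _ _ _ h1, Matrix.single_mul_single_of_ne _ _ _ _ h2,
    Matrix.single_mul_single_of_ne _ _ _ _ h3, Matrix.single_mul_single_of_ne _ _ _ _ h4,
    smul_zero, sub_zero, add_zero, mul_one]
  module

/-- LEAF RK1A. -/
theorem rk1A (h2 : (2 : F) ≠ 0) {k k' : Fin m} (hkk : (k : ℕ) + 1 = (k' : ℕ)) {s : OG F m}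
    (hs : mat s = permMat F (simpleA k k')) :
    ∀ x ∈ XA F m k k', x = 1 ∨ ∃ c ∈ Bo F m, ∃ y ∈ XA F m k' k, s * x = c * y := by
  have hne : k ≠ k' := by
    intro h
    rw [h] at hkk
    omega
  rintro x ⟨t, hx⟩
  by_cases ht : t = 0
  · left
    apply mat_ext
    rw [hx, ht]
    simp
  right
  obtain ⟨u, hu⟩ : ∃ u : F, u = t⁻¹ := ⟨_, rfl⟩
  have htu : t * u = 1 := by
    rw [hu, mul_inv_cancel₀ ht]
  clear hu
  obtain ⟨y, hy⟩ := exists_xA (F := F) k' k hne.symm u
  obtain ⟨y', hy'⟩ := exists_xA (F := F) k' k hne.symm (-u)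
  have hyY : mat y = rk1aX F k' k u := hy
  have hy'Y : mat y' = rk1aX F k' k (-u) := hy'
  have hy'y : y' * y = 1 := by
    apply mat_ext
    rw [mat_mul, hy'Y, hyY, mat_one]
    exact rk1a_X_mul hne.symm u
  have hxX : mat x = rk1aX F k k' t := hx
  refine ⟨s * x * y', ?_, y, ⟨u, hy⟩, ?_⟩
  · apply mem_Bo_of_flag h2
    intro a j hj
    have hc : mat (s * x * y') = permMat F (simpleA k k') * (mat x * rk1aX F k' k (-u)) := by
      rw [mat_mul, mat_mul, hs, hy'Y, Matrix.mul_assoc]
    rw [hc, rk1a_perm_mul_apply, rk1a_simpleA_symm hne, rk1a_mul_X_apply, hxX]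
    simp only [rk1a_X_apply]
    have haj : a ≠ xi j := by
      intro h
      rw [h, rk_xi] at hj
      omega
    rcases a with a0 | i | i
    · -- `a = e₀`
      have h1 : simpleA k k' (Sum.inl a0 : Idx m) = e0 := rk1a_simpleA_e0 k k'
      rw [h1]
      simp [rk1a_xi_ne_e0, rk1a_yi_ne_e0, rk1a_e0_ne_xi, rk1a_e0_ne_yi]
    · -- `a = x_i`, `i > j`
      have hij : j < i := by
        have : rk (Sum.inr (Sum.inl i) : Idx m) = (i : ℕ) := rfl
        rw [this] at hj
        exact hj
      have h1 : simpleA k k' (Sum.inr (Sum.inl i) : Idx m) =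
          if i = k then xi k' else if i = k' then xi k else xi i := rk1a_simpleA_xi k k' i
      rw [h1]
      by_cases hik : i = k
      · subst hik
        rw [if_pos rfl]
        have hjk' : j ≠ k' := by
          intro h
          rw [h] at hij
          have := Fin.lt_def.mp hij
          omega
        have hji : j ≠ i := fun h => by rw [h] at hij; exact lt_irrefl _ hij
        simp [rk1a_xi_inj, rk1a_xi_ne_yi, rk1a_yi_ne_xi, hjk', hjk'.symm, hji, hji.symm,
          hne, hne.symm]
      · rw [if_neg hik]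
        by_cases hik' : i = k'
        · subst hik'
          rw [if_pos rfl]
          by_cases hjk : j = k
          · subst hjk
            simp [rk1a_xi_inj, rk1a_xi_ne_yi, rk1a_yi_ne_xi, hne, hne.symm]
            linear_combination (-1 : F) * htu
          · have hji : j ≠ i := fun h => by rw [h] at hij; exact lt_irrefl _ hij
            simp [rk1a_xi_inj, rk1a_xi_ne_yi, rk1a_yi_ne_xi, hjk, Ne.symm hjk, hji,
              hji.symm, hne, hne.symm]
        · rw [if_neg hik']
          have hji : j ≠ i := fun h => by rw [h] at hij; exact lt_irrefl _ hij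
          simp [rk1a_xi_inj, rk1a_xi_ne_yi, rk1a_yi_ne_xi, hik, hik', Ne.symm hik,
            Ne.symm hik', hji, hji.symm, hne, hne.symm]
    · -- `a = y_i`
      have h1 : simpleA k k' (Sum.inr (Sum.inr i) : Idx m) =
          if i = k then yi k' else if i = k' then yi k else yi i := rk1a_simpleA_yi k k' i
      rw [h1]
      by_cases hik : i = k
      · rw [if_pos hik]
        simp [rk1a_xi_inj, rk1a_yi_inj, rk1a_xi_ne_yi, rk1a_yi_ne_xi, hne, hne.symm]
      · rw [if_neg hik]
        by_cases hik' : i = k'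
        · rw [if_pos hik']
          simp [rk1a_xi_inj, rk1a_yi_inj, rk1a_xi_ne_yi, rk1a_yi_ne_xi, hne, hne.symm]
        · rw [if_neg hik']
          simp [rk1a_xi_inj, rk1a_yi_inj, rk1a_xi_ne_yi, rk1a_yi_ne_xi, hne, hne.symm]
  · rw [mul_assoc, mul_assoc, hy'y, mul_one]

end Cfsg.Agent.Lib.Helper39.OoBN
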