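import Mathlib
import Cfsg.Agent.Lib.Helper39.OoDefs
import Cfsg.Agent.Lib.Helper39.OoINVF
import Cfsg.Agent.Lib.Helper85.OoROOTB

/-! # S2547 hive (helper39), leaf OO-RK1B (helper1): the rank one identity for the short simple root -/

set_option autoImplicit false
set_option linter.unusedVariables false
set_option linter.unusedSectionVars false

namespace Cfsg.Agent.Lib.Helper39.OoBN

open Matrix Cfsg

variable {F : Type*} [Field F] {m : ℕ}

/-- rows of `permMat σ * M` -/
theorem rk1b_perm_mul_apply (σ : Equiv.Perm (Idx m)) (M : Matrix (Idx m) (Idx m) F) (p q : Idx m) :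
    (permMat F σ * M) p q = M (σ.symm p) q := by
  rw [Matrix.mul_apply, Finset.sum_eq_single (σ.symm p)]
  · rw [permMat_apply, if_pos (Equiv.apply_symm_apply σ p).symm, one_mul]
  · intro r _ hr
    rw [permMat_apply, if_neg, zero_mul]
    intro hp
    apply hr
    rw [hp, Equiv.symm_apply_apply]
  · intro hp
    exact absurd (Finset.mem_univ _) hp

/-- the matrix of `x_{-B}(u)` -/
def rk1bYm (F : Type*) [Field F] {m : ℕ} (k : Fin m) (u : F) : Matrix (Idx m) (Idx m) F :=
  1 + (2 * u) • Matrix.single (yi k) e0 (1 : F) - u • Matrix.single e0 (xi k) (1 : F)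
    - (u ^ 2) • Matrix.single (yi k) (xi k) (1 : F)

/-- the matrix of `x_B(t)` -/
def rk1bX (F : Type*) [Field F] {m : ℕ} (k : Fin m) (t : F) : Matrix (Idx m) (Idx m) F :=
  1 + (2 * t) • Matrix.single (xi k) e0 (1 : F) - t • Matrix.single e0 (yi k) (1 : F)
    - (t ^ 2) • Matrix.single (xi k) (yi k) (1 : F)

theorem rk1b_Ym_apply (k : Fin m) (u : F) (r c : Idx m) :
    rk1bYm F k u r c = (if r = c then 1 else 0) + (if r = yi k ∧ c = e0 then 2 * u else 0)
      - (if r = e0 ∧ c = xi k then u else 0) - (if r = yi k ∧ c = xi k then u ^ 2 else 0) := by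
  unfold rk1bYm
  simp only [Matrix.add_apply, Matrix.sub_apply, Matrix.smul_apply, Matrix.one_apply,
    Matrix.single_apply, smul_eq_mul, mul_ite, mul_one, mul_zero]
  congr 1
  · congr 1
    · congr 1
      by_cases h : r = yi k ∧ c = e0
      · rw [if_pos h, if_pos ⟨h.1.symm, h.2.symm⟩]
      · rw [if_neg h, if_neg]
        rintro ⟨h1, h2⟩
        exact h ⟨h1.symm, h2.symm⟩
    · by_cases h : r = e0 ∧ c = xi k
      · rw [if_pos h, if_pos ⟨h.1.symm, h.2.symm⟩]
      · rw [if_neg h, if_neg]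
        rintro ⟨h1, h2⟩
        exact h ⟨h1.symm, h2.symm⟩
  · by_cases h : r = yi k ∧ c = xi k
    · rw [if_pos h, if_pos ⟨h.1.symm, h.2.symm⟩]
    · rw [if_neg h, if_neg]
      rintro ⟨h1, h2⟩
      exact h ⟨h1.symm, h2.symm⟩

theorem rk1b_X_apply (k : Fin m) (t : F) (r c : Idx m) :
    rk1bX F k t r c = (if r = c then 1 else 0) + (if r = xi k ∧ c = e0 then 2 * t else 0)
      - (if r = e0 ∧ c = yi k then t else 0) - (if r = xi k ∧ c = yi k then t ^ 2 else 0) := by
  unfold rk1bX
  simp only [Matrix.add_apply, Matrix.sub_apply, Matrix.smul_apply, Matrix.one_apply,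
    Matrix.single_apply, smul_eq_mul, mul_ite, mul_one, mul_zero]
  congr 1
  · congr 1
    · congr 1
      by_cases h : r = xi k ∧ c = e0
      · rw [if_pos h, if_pos ⟨h.1.symm, h.2.symm⟩]
      · rw [if_neg h, if_neg]
        rintro ⟨h1, h2⟩
        exact h ⟨h1.symm, h2.symm⟩
    · by_cases h : r = e0 ∧ c = yi k
      · rw [if_pos h, if_pos ⟨h.1.symm, h.2.symm⟩]
      · rw [if_neg h, if_neg]
        rintro ⟨h1, h2⟩
        exact h ⟨h1.symm, h2.symm⟩
  · by_cases h : r = xi k ∧ c = yi k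
    · rw [if_pos h, if_pos ⟨h.1.symm, h.2.symm⟩]
    · rw [if_neg h, if_neg]
      rintro ⟨h1, h2⟩
      exact h ⟨h1.symm, h2.symm⟩

theorem rk1b_xi_ne_e0 (k : Fin m) : (xi k : Idx m) ≠ e0 := by simp [xi, e0]
theorem rk1b_yi_ne_e0 (k : Fin m) : (yi k : Idx m) ≠ e0 := by simp [yi, e0]
theorem rk1b_xi_ne_yi (k j : Fin m) : (xi k : Idx m) ≠ yi j := by simp [xi, yi]
theorem rk1b_xi_inj {k j : Fin m} : (xi k : Idx m) = xi j ↔ k = j := by simp [xi]
theorem rk1b_yi_inj {k j : Fin m} : (yi k : Idx m) = yi j ↔ k = j := by simp [yi]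

/-- product of a matrix with `x_{-B}(u)`: the columns `x_j`. -/
theorem rk1b_mul_Ym_apply (M : Matrix (Idx m) (Idx m) F) (k : Fin m) (u : F) (r : Idx m) (j : Fin m) :
    (M * rk1bYm F k u) r (xi j) =
      M r (xi j) - (if j = k then u * M r e0 + u ^ 2 * M r (yi k) else 0) := by
  unfold rk1bYm
  rw [Matrix.mul_sub, Matrix.mul_sub, Matrix.mul_add, Matrix.mul_one, Matrix.mul_smul, Matrix.mul_smul,
    Matrix.mul_smul]
  simp only [Matrix.add_apply, Matrix.sub_apply, Matrix.smul_apply, smul_eq_mul]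
  rw [Matrix.mul_single_apply_of_ne _ _ _ _ _ (rk1b_xi_ne_e0 j)]
  by_cases hjk : j = k
  · subst hjk
    rw [Matrix.mul_single_apply_same, Matrix.mul_single_apply_same, if_pos rfl]
    ring
  · have hne : (xi j : Idx m) ≠ xi k := fun h => hjk (rk1b_xi_inj.mp h)
    rw [Matrix.mul_single_apply_of_ne _ _ _ _ _ hne, Matrix.mul_single_apply_of_ne _ _ _ _ _ hne, if_neg hjk]
    ring

/-- `x_{-B}(-u) * x_{-B}(u) = 1`. -/
theorem rk1b_Ym_mul (k : Fin m) (u : F) : rk1bYm F k (-u) * rk1bYm F k u = 1 := by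
  unfold rk1bYm
  have h1 : (e0 : Idx m) ≠ yi k := (rk1b_yi_ne_e0 k).symm
  have h2 : (xi k : Idx m) ≠ yi k := rk1b_xi_ne_yi k k
  have h3 : (xi k : Idx m) ≠ e0 := rk1b_xi_ne_e0 k
  simp only [Matrix.add_mul, Matrix.sub_mul, Matrix.mul_add, Matrix.mul_sub, Matrix.one_mul,
    Matrix.smul_mul, Matrix.mul_smul, Matrix.single_mul_single_same,
    Matrix.single_mul_single_of_ne _ _ _ _ h1, Matrix.single_mul_single_of_ne _ _ _ _ h2,
    Matrix.single_mul_single_of_ne _ _ _ _ h3, smul_zero, sub_zero, add_zero, mul_one]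
  module

/-- core of RK1B, with the existence of the negative short root elements as a hypothesis. -/
theorem rk1b_core (h2 : (2 : F) ≠ 0) {k : Fin m} (hk : (k : ℕ) + 1 = m) {s : OG F m}
    (hs : mat s = permMat F (simpleB k))
    (hXBm : ∀ u : F, ∃ g : OG F m, mat g = rk1bYm F k u) :
    ∀ x ∈ XB F m k, x = 1 ∨ ∃ c ∈ Bo F m, ∃ y ∈ XBm F m k, s * x = c * y := by
  rintro x ⟨t, hx⟩
  by_cases ht : t = 0
  · left
    apply mat_ext
    rw [hx, ht]
    simp
  right
  obtain ⟨u, hu⟩ : ∃ u : F, u = -t⁻¹ := ⟨_, rfl⟩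
  have htu : t * u = -1 := by
    rw [hu, mul_neg, mul_inv_cancel₀ ht]
  clear hu
  obtain ⟨y, hy⟩ := hXBm u
  obtain ⟨y', hy'⟩ := hXBm (-u)
  have hy'y : y' * y = 1 := by
    apply mat_ext
    rw [mat_mul, hy', hy, mat_one]
    exact rk1b_Ym_mul k u
  have hxX : mat x = rk1bX F k t := hx
  refine ⟨s * x * y', ?_, y, ⟨u, hy⟩, ?_⟩
  · apply mem_Bo_of_flag h2
    intro a j hj
    have hc : mat (s * x * y') = permMat F (simpleB k) * (mat x * rk1bYm F k (-u)) := by
      rw [mat_mul, mat_mul, hs, hy', Matrix.mul_assoc]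
    have hsym : (simpleB k).symm = simpleB k := by
      unfold simpleB
      rw [Equiv.symm_swap]
    rw [hc, rk1b_perm_mul_apply, hsym, rk1b_mul_Ym_apply, hxX]
    simp only [rk1b_X_apply]
    by_cases hjk : j = k
    · subst hjk
      -- `a ≠ x_j`
      have haj : a ≠ xi j := by
        intro h
        rw [h, rk_xi] at hj
        omega
      rcases a with a0 | i | i
      · -- `a = e₀`
        have h1 : simpleB j (Sum.inl a0 : Idx m) = e0 := by
          unfold simpleB
          apply Equiv.swap_apply_of_ne_of_ne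
          · exact (rk1b_xi_ne_e0 j).symm
          · exact (rk1b_yi_ne_e0 j).symm
        rw [h1]
        simp [rk1b_xi_ne_e0, rk1b_yi_ne_e0, (rk1b_xi_ne_e0 j).symm, (rk1b_yi_ne_e0 j).symm,
          rk1b_xi_ne_yi]
        linear_combination u * htu
      · -- `a = x_i`, `i ≠ j`
        have hij : i ≠ j := fun h => haj (by rw [h]; rfl)
        have h1 : simpleB j (Sum.inr (Sum.inl i) : Idx m) = xi i := by
          unfold simpleB
          apply Equiv.swap_apply_of_ne_of_ne
          · exact fun h => hij (rk1b_xi_inj.mp h)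
          · exact rk1b_xi_ne_yi i j
        rw [h1]
        simp [rk1b_xi_ne_e0, rk1b_xi_ne_yi, rk1b_xi_inj, hij]
      · -- `a = y_i`
        by_cases hij : i = j
        · subst hij
          have h1 : simpleB i (Sum.inr (Sum.inr i) : Idx m) = xi i := by
            unfold simpleB
            exact Equiv.swap_apply_right _ _
          rw [h1]
          simp [rk1b_xi_ne_e0, rk1b_xi_ne_yi, rk1b_yi_ne_e0, (rk1b_yi_ne_e0 i).symm]
          linear_combination (1 + t * u) * htu
        · have h1 : simpleB j (Sum.inr (Sum.inr i) : Idx m) = yi i := by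
            unfold simpleB
            apply Equiv.swap_apply_of_ne_of_ne
            · exact fun h => rk1b_xi_ne_yi j i h.symm
            · exact fun h => hij (rk1b_yi_inj.mp h)
          rw [h1]
          simp [rk1b_yi_ne_e0, (rk1b_xi_ne_yi _ _).symm, rk1b_yi_inj, hij]
    · rw [if_neg hjk, sub_zero]
      have haj : a ≠ xi j := by
        intro h
        rw [h, rk_xi] at hj
        omega
      have hfix : simpleB k (xi j) = xi j := by
        unfold simpleB
        apply Equiv.swap_apply_of_ne_of_ne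
        · exact fun h => hjk (rk1b_xi_inj.mp h)
        · exact rk1b_xi_ne_yi j k
      have hne : simpleB k a ≠ xi j := by
        intro h
        apply haj
        have := congrArg (simpleB k) h
        rw [hfix] at this
        rw [← this]
        unfold simpleB
        rw [Equiv.swap_apply_self]
      simp [hne, rk1b_xi_ne_e0, rk1b_xi_ne_yi]
  · rw [mul_assoc, mul_assoc, hy'y, mul_one]

/-- LEAF RK1B. -/
theorem rk1B (h2 : (2 : F) ≠ 0) {k : Fin m} (hk : (k : ℕ) + 1 = m) {s : OG F m}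
    (hs : mat s = permMat F (simpleB k)) :
    ∀ x ∈ XB F m k, x = 1 ∨ ∃ c ∈ Bo F m, ∃ y ∈ XBm F m k, s * x = c * y :=
  rk1b_core h2 hk hs (fun u => exists_xBm k u)

end Cfsg.Agent.Lib.Helper39.OoBN
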