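import Mathlib
import Cfsg.Agent.Lib.Helper40.OpBNDefs

/-! # S2548 hive (helper40, "OpBN"), leaf RK1D (helper1), core: the rank one identity for the root `e_k + e_k'` -/

set_option autoImplicit false
set_option linter.unusedVariables false
set_option linter.unusedSectionVars false
set_option linter.unusedSimpArgs false

namespace Cfsg.Agent.Lib.Helper40.OpBN

open Matrix Cfsg Cfsg.Agent.Lib.Helper13 Cfsg.Agent.Lib.Helper41.SpBN

variable {F : Type*} [Field F] {m : ℕ}

/-- rows of `permMat σ * M` -/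
theorem rk1d_perm_mul_apply (σ : Equiv.Perm (Idx m)) (M : Matrix (Idx m) (Idx m) F) (p q : Idx m) :
    (permMat F σ * M) p q = M (σ.symm p) q := by
  rw [Matrix.mul_apply, Finset.sum_eq_single (σ.symm p)]
  · have h1 : permMat F σ p (σ.symm p) = 1 := by
      show (if p = σ (σ.symm p) then (1 : F) else 0) = 1
      rw [if_pos (Equiv.apply_symm_apply σ p).symm]
    rw [h1, one_mul]
  · intro r _ hr
    have h1 : permMat F σ p r = 0 := by
      show (if p = σ r then (1 : F) else 0) = 0
      rw [if_neg]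
      intro hp
      apply hr
      rw [hp, Equiv.symm_apply_apply]
    rw [h1, zero_mul]
  · intro hp
    exact absurd (Finset.mem_univ _) hp

theorem rk1d_simpleD_inl {k k' : Fin m} (hkk : k ≠ k') (i : Fin m) :
    simpleD k k' (Sum.inl i : Idx m) =
      if i = k then Sum.inr k' else if i = k' then Sum.inr k else Sum.inl i := by
  unfold simpleD
  simp only [Equiv.Perm.mul_apply, Equiv.swap_apply_def]
  split_ifs <;> simp_all

theorem rk1d_simpleD_inr {k k' : Fin m} (hkk : k ≠ k') (i : Fin m) :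
    simpleD k k' (Sum.inr i : Idx m) =
      if i = k' then Sum.inl k else if i = k then Sum.inl k' else Sum.inr i := by
  unfold simpleD
  simp only [Equiv.Perm.mul_apply, Equiv.swap_apply_def]
  split_ifs <;> simp_all

theorem rk1d_simpleD_symm {k k' : Fin m} (hkk : k ≠ k') : (simpleD k k').symm = simpleD k k' := by
  unfold simpleD
  have hd : Equiv.Perm.Disjoint (Equiv.swap (Sum.inl k : Idx m) (Sum.inr k'))
      (Equiv.swap (Sum.inl k') (Sum.inr k)) := by
    apply Equiv.Perm.disjoint_swap_swap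
    simp [hkk, Ne.symm hkk]
  show (Equiv.swap (Sum.inl k : Idx m) (Sum.inr k') * Equiv.swap (Sum.inl k') (Sum.inr k))⁻¹ = _
  rw [_root_.mul_inv_rev, Equiv.swap_inv, Equiv.swap_inv, hd.commute.eq]

/-- the matrix of `x_D(t)` -/
def rk1dX (F : Type*) [Field F] {m : ℕ} (k k' : Fin m) (t : F) : Matrix (Idx m) (Idx m) F :=
  1 + t • Matrix.single (Sum.inl k) (Sum.inr k') (1 : F) - t • Matrix.single (Sum.inl k') (Sum.inr k) (1 : F)

/-- the matrix of `x_{Dm}(u)` -/
def rk1dY (F : Type*) [Field F] {m : ℕ} (k k' : Fin m) (u : F) : Matrix (Idx m) (Idx m) F :=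
  1 + u • Matrix.single (Sum.inr k') (Sum.inl k) (1 : F) - u • Matrix.single (Sum.inr k) (Sum.inl k') (1 : F)

theorem rk1d_X_apply (k k' : Fin m) (t : F) (r c : Idx m) :
    rk1dX F k k' t r c = (if r = c then 1 else 0) + (if r = Sum.inl k ∧ c = Sum.inr k' then t else 0)
      - (if r = Sum.inl k' ∧ c = Sum.inr k then t else 0) := by
  unfold rk1dX
  simp only [Matrix.add_apply, Matrix.sub_apply, Matrix.smul_apply, Matrix.one_apply,
    Matrix.single_apply, smul_eq_mul, mul_ite, mul_one, mul_zero]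
  congr 1
  · congr 1
    by_cases h : r = Sum.inl k ∧ c = Sum.inr k'
    · rw [if_pos h, if_pos ⟨h.1.symm, h.2.symm⟩]
    · rw [if_neg h, if_neg]
      rintro ⟨h1, h2⟩
      exact h ⟨h1.symm, h2.symm⟩
  · by_cases h : r = Sum.inl k' ∧ c = Sum.inr k
    · rw [if_pos h, if_pos ⟨h.1.symm, h.2.symm⟩]
    · rw [if_neg h, if_neg]
      rintro ⟨h1, h2⟩
      exact h ⟨h1.symm, h2.symm⟩

/-- product of a matrix with `x_{Dm}(u)`: the columns `e_j`. -/
theorem rk1d_mul_Y_apply (M : Matrix (Idx m) (Idx m) F) {k k' : Fin m} (hkk : k ≠ k') (u : F)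
    (r : Idx m) (j : Fin m) :
    (M * rk1dY F k k' u) r (Sum.inl j) =
      M r (Sum.inl j) + (if j = k then u * M r (Sum.inr k') else 0)
        - (if j = k' then u * M r (Sum.inr k) else 0) := by
  unfold rk1dY
  rw [Matrix.mul_sub, Matrix.mul_add, Matrix.mul_one, Matrix.mul_smul, Matrix.mul_smul]
  simp only [Matrix.add_apply, Matrix.sub_apply, Matrix.smul_apply, smul_eq_mul]
  by_cases hjk : j = k
  · subst hjk
    have hne : (Sum.inl j : Idx m) ≠ Sum.inl k' := fun h => hkk (Sum.inl_injective h)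
    rw [Matrix.mul_single_apply_same, Matrix.mul_single_apply_of_ne _ _ _ _ _ hne, if_pos rfl,
      if_neg hkk]
    ring
  · have hne : (Sum.inl j : Idx m) ≠ Sum.inl k := fun h => hjk (Sum.inl_injective h)
    rw [Matrix.mul_single_apply_of_ne _ _ _ _ _ hne, if_neg hjk]
    by_cases hjk' : j = k'
    · subst hjk'
      rw [Matrix.mul_single_apply_same, if_pos rfl]
      ring
    · have hne' : (Sum.inl j : Idx m) ≠ Sum.inl k' := fun h => hjk' (Sum.inl_injective h)
      rw [Matrix.mul_single_apply_of_ne _ _ _ _ _ hne', if_neg hjk']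
      ring

/-- `x_{Dm}(-u) * x_{Dm}(u) = 1`. -/
theorem rk1d_Y_mul (k k' : Fin m) (u : F) : rk1dY F k k' (-u) * rk1dY F k k' u = 1 := by
  unfold rk1dY
  have h1 : (Sum.inl k : Idx m) ≠ Sum.inr k' := Sum.inl_ne_inr
  have h2 : (Sum.inl k : Idx m) ≠ Sum.inr k := Sum.inl_ne_inr
  have h3 : (Sum.inl k' : Idx m) ≠ Sum.inr k' := Sum.inl_ne_inr
  have h4 : (Sum.inl k' : Idx m) ≠ Sum.inr k := Sum.inl_ne_inr
  simp only [Matrix.add_mul, Matrix.sub_mul, Matrix.mul_add, Matrix.mul_sub, Matrix.one_mul,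
    Matrix.mul_one, Matrix.smul_mul, Matrix.mul_smul, Matrix.single_mul_single_same,
    Matrix.single_mul_single_of_ne _ _ _ _ h1, Matrix.single_mul_single_of_ne _ _ _ _ h2,
    Matrix.single_mul_single_of_ne _ _ _ _ h3, Matrix.single_mul_single_of_ne _ _ _ _ h4,
    smul_zero, sub_zero, add_zero, mul_one]
  module

/-- core of RK1D, with the leaves ROOT (`exists_xDm`) and BOREL (`←` of `mem_Bo_iff`) as hypotheses. -/
theorem rk1d_core {k k' : Fin m} (hkk : k ≠ k') {s : OG F m}
    (hs : mt s = permMat F (simpleD k k'))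
    (hXDm : ∀ u : F, ∃ g : OG F m, mt g = rk1dY F k k' u)
    (hBo : ∀ g : OG F m, (∀ i j : Fin m, (j : ℕ) < (i : ℕ) → mt g (Sum.inl i) (Sum.inl j) = 0) →
      (∀ i j : Fin m, mt g (Sum.inr i) (Sum.inl j) = 0) → g ∈ Bo F m) :
    ∀ x ∈ XD F m k k', x = 1 ∨ ∃ c ∈ Bo F m, ∃ y ∈ XDm F m k k', s * x = c * y := by
  rintro x ⟨t, hx⟩
  by_cases ht : t = 0
  · left
    apply mt_ext
    rw [hx, ht, mt_one]
    simp
  right
  obtain ⟨u, hu⟩ : ∃ u : F, u = t⁻¹ := ⟨_, rfl⟩
  have htu : t * u = 1 := by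
    rw [hu, mul_inv_cancel₀ ht]
  clear hu
  obtain ⟨y, hy⟩ := hXDm u
  obtain ⟨y', hy'⟩ := hXDm (-u)
  have hy'y : y' * y = 1 := by
    apply mt_ext
    rw [mt_mul, hy', hy, mt_one]
    exact rk1d_Y_mul k k' u
  have hxX : mt x = rk1dX F k k' t := hx
  have hc : mt (s * x * y') = permMat F (simpleD k k') * (mt x * rk1dY F k k' (-u)) := by
    rw [mt_mul, mt_mul, hs, hy', Matrix.mul_assoc]
  have hne' : k' ≠ k := Ne.symm hkk
  refine ⟨s * x * y', ?_, y, ⟨u, hy⟩, ?_⟩
  · apply hBo
    · intro i j hji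
      have hij : i ≠ j := by
        intro h
        rw [h] at hji
        exact lt_irrefl _ hji
      rw [hc, rk1d_perm_mul_apply, rk1d_simpleD_symm hkk, rk1d_mul_Y_apply _ hkk, hxX,
        rk1d_simpleD_inl hkk]
      simp only [rk1d_X_apply]
      by_cases hik : i = k
      · subst hik
        rw [if_pos rfl]
        simp [hkk, hne', hij, Ne.symm hij]
      · rw [if_neg hik]
        by_cases hik' : i = k'
        · subst hik'
          rw [if_pos rfl]
          simp [hkk, hne', hij, Ne.symm hij]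
        · rw [if_neg hik']
          simp [hkk, hne', hij, Ne.symm hij, hik, hik', Ne.symm hik, Ne.symm hik']
    · intro i j
      rw [hc, rk1d_perm_mul_apply, rk1d_simpleD_symm hkk, rk1d_mul_Y_apply _ hkk, hxX,
        rk1d_simpleD_inr hkk]
      simp only [rk1d_X_apply]
      by_cases hik' : i = k'
      · subst hik'
        rw [if_pos rfl]
        by_cases hjk : j = k
        · subst hjk
          simp [hkk, hne']
          linear_combination (-1 : F) * htu
        · simp [hkk, hne', hjk, Ne.symm hjk]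
      · rw [if_neg hik']
        by_cases hik : i = k
        · subst hik
          rw [if_pos rfl]
          by_cases hjk' : j = k'
          · subst hjk'
            simp [hkk, hne']
            linear_combination (-1 : F) * htu
          · simp [hkk, hne', hjk', Ne.symm hjk']
        · rw [if_neg hik]
          simp [hkk, hne', hik, hik', Ne.symm hik, Ne.symm hik']
  · rw [mul_assoc, mul_assoc, hy'y, mul_one]

end Cfsg.Agent.Lib.Helper40.OpBN
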