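import Mathlib
import Cfsg.Agent.Lib.Helper1.OpBN_RK1Dcore
import Cfsg.Agent.Lib.Helper40.OpBN_ROOT
import Cfsg.Agent.Lib.Helper87.OpBN_BOREL

/-!
# OpBN hive (S2548, owner helper40): leaf OPBN-RK1D `rk1D` (helper1)

Wrapper of `rk1d_core` with the landed leaves ROOT (`exists_xDm`) and BOREL (`mem_Bo_iff`).
-/

set_option autoImplicit false

namespace Cfsg.Agent.Lib.Helper40.OpBN

open Matrix Cfsg Cfsg.Agent.Lib.Helper13 Cfsg.Agent.Lib.Helper41.SpBN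

variable {F : Type*} [Field F] {m : ℕ}

theorem rk1D {k k' : Fin m} (hkk : k ≠ k') {s : OG F m}
    (hs : mt s = permMat F (simpleD k k')) :
    ∀ x ∈ XD F m k k', x = 1 ∨ ∃ c ∈ Bo F m, ∃ y ∈ XDm F m k k', s * x = c * y :=
  rk1d_core hkk hs (fun u => exists_xDm k k' hkk u)
    (fun g h1 h2 => (mem_Bo_iff g).2 ⟨h1, h2⟩)

end Cfsg.Agent.Lib.Helper40.OpBN
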