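import Mathlib

/-!
Counting elements of order `p` in a nontrivial commutative `p`-subgroup, and a partition lemma
for conjugacy-closed counting.
-/

set_option autoImplicit false

namespace Cfsg.Agent.Lib.Helper1

/-- In a nontrivial `p`-subgroup `Z` whose elements commute pairwise, the number of elements of
order `p` is not divisible by `p` (it is `p ^ j - 1` with `j ≥ 1`). -/
theorem not_dvd_card_orderOf_eq_prime {H : Type*} [Group H] [Fintype H] [DecidableEq H]
    (p : ℕ) [hpf : Fact p.Prime] (Z : Subgroup H) (hZp : IsPGroup p Z) (hZ : Z ≠ ⊥)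
    (hcomm : ∀ a ∈ Z, ∀ b ∈ Z, a * b = b * a) [DecidablePred (fun h : H => h ∈ Z ∧ orderOf h = p)] :
    ¬ p ∣ (Finset.univ.filter (fun h : H => h ∈ Z ∧ orderOf h = p)).card := by
  classical
  have hp : p.Prime := hpf.out
  -- the subgroup of elements of `Z` killed by `p`
  let K : Subgroup H :=
    { carrier := {h | h ∈ Z ∧ h ^ p = 1}
      one_mem' := ⟨Z.one_mem, one_pow _⟩
      mul_mem' := by
        rintro a b ⟨ha, ha1⟩ ⟨hb, hb1⟩
        refine ⟨Z.mul_mem ha hb, ?_⟩
        have hc : Commute a b := hcomm a ha b hb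
        rw [hc.mul_pow, ha1, hb1, one_mul]
      inv_mem' := by
        rintro a ⟨ha, ha1⟩
        exact ⟨Z.inv_mem ha, by rw [inv_pow, ha1, inv_one]⟩ }
  have hKZ : K ≤ Z := fun h hh => hh.1
  have hKp : IsPGroup p K := hZp.to_le hKZ
  obtain ⟨j, hj⟩ := IsPGroup.exists_card_eq hKp
  -- `K` is nontrivial
  have hj0 : j ≠ 0 := by
    intro h0
    rw [h0, pow_zero] at hj
    have hKbot : K = ⊥ := Subgroup.card_eq_one.mp hj
    -- `Z` has an element of order `p`
    obtain ⟨n, hn⟩ := IsPGroup.exists_card_eq hZp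
    have hn0 : n ≠ 0 := by
      intro h0'
      rw [h0', pow_zero] at hn
      exact hZ (Subgroup.card_eq_one.mp hn)
    have hdvd : p ∣ Nat.card Z := by
      rw [hn]
      exact dvd_pow_self p hn0
    obtain ⟨z, hz⟩ := exists_prime_orderOf_dvd_card' p hdvd
    have hzK : (z : H) ∈ K := by
      refine ⟨z.2, ?_⟩
      have : (z : H) ^ p = ((z ^ p : Z) : H) := by simp
      rw [this, ← hz, pow_orderOf_eq_one]
      rfl
    rw [hKbot, Subgroup.mem_bot] at hzK
    have hz1 : z = 1 := Subtype.ext hzK
    rw [hz1, orderOf_one] at hz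
    exact hp.one_lt.ne hz
  -- the filter is `K` minus the identity
  have hset : Finset.univ.filter (fun h : H => h ∈ Z ∧ orderOf h = p) =
      (Finset.univ.filter (fun h : H => h ∈ K)).erase 1 := by
    ext h
    simp only [Finset.mem_filter, Finset.mem_univ, true_and, Finset.mem_erase]
    rw [orderOf_eq_prime_iff]
    constructor
    · rintro ⟨hZ', h1, h2⟩
      exact ⟨h2, hZ', h1⟩
    · rintro ⟨h2, hZ', h1⟩
      exact ⟨hZ', h1, h2⟩
  have hcardK : (Finset.univ.filter (fun h : H => h ∈ K)).card = p ^ j := by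
    rw [← hj, Nat.card_eq_fintype_card, Fintype.card_subtype]
  have h1mem : (1 : H) ∈ Finset.univ.filter (fun h : H => h ∈ K) := by
    simp [K.one_mem]
  have hcard : (Finset.univ.filter (fun h : H => h ∈ Z ∧ orderOf h = p)).card = p ^ j - 1 := by
    rw [hset, Finset.card_erase_of_mem h1mem, hcardK]
  have hres : ¬ p ∣ p ^ j - 1 := by
    intro hdvd
    have h1 : p ∣ p ^ j := dvd_pow_self p hj0
    have hpos : 1 ≤ p ^ j := Nat.one_le_pow _ _ hp.pos
    have h2 : p ∣ p ^ j - (p ^ j - 1) := Nat.dvd_sub h1 hdvd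
    have h3 : p ^ j - (p ^ j - 1) = 1 := by omega
    rw [h3] at h2
    exact hp.one_lt.ne' (Nat.dvd_one.mp h2)
  convert hres using 2

/-- If a finite set `A` of elements of a type `H` mapping to a group `G` has the property that
for each member the number of members of `A` conjugate to it (in `G`) is divisible by `p`, then
`p` divides the cardinality of `A`. -/
theorem dvd_card_of_dvd_conj_fibers {H G : Type*} [Group G] [DecidableEq H] (p : ℕ)
    (ι : H → G) (A : Finset H)
    (hfib : ∀ h₀ ∈ A, ∀ [DecidablePred (fun h : H => IsConj (ι h₀) (ι h))],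
      p ∣ (A.filter (fun h : H => IsConj (ι h₀) (ι h))).card) :
    p ∣ A.card := by
  classical
  have h1 := Finset.card_eq_sum_card_fiberwise (s := A) (t := A.image (fun h => ConjClasses.mk (ι h)))
    (f := fun h => ConjClasses.mk (ι h)) (fun x hx => Finset.mem_image_of_mem _ hx)
  rw [h1]
  apply Finset.dvd_sum
  intro c hc
  obtain ⟨h₀, hh₀, rfl⟩ := Finset.mem_image.mp hc
  have h2 := hfib h₀ hh₀
  have h3 : A.filter (fun h : H => ConjClasses.mk (ι h) = ConjClasses.mk (ι h₀)) =
      A.filter (fun h : H => IsConj (ι h₀) (ι h)) := by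
    apply Finset.filter_congr
    intro h _
    rw [ConjClasses.mk_eq_mk_iff_isConj]
    exact ⟨fun hh => hh.symm, fun hh => hh.symm⟩
  rw [h3]
  exact h2

end Cfsg.Agent.Lib.Helper1
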