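import Mathlib
import Cfsg.Agent.Lib.Helper1.SZB

set_option autoImplicit false

namespace Cfsg.Agent.Lib.Helper1

universe u

open scoped Pointwise

variable {G : Type u} [Group G]

/-- in a `p`-group a proper subgroup is properly contained in its normalizer; version for a
subgroup `D < P` of an ambient group -/
theorem exists_mem_normalizer_not_mem [Finite G] {p : ℕ} [Fact p.Prime] (P : Sylow p G)
    (D : Subgroup G) (hDP : D ≤ P) (hne : D ≠ P) :
    ∃ x ∈ (P : Subgroup G), x ∈ Subgroup.normalizer (D : Set G) ∧ x ∉ D := by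
  have hnil : Group.IsNilpotent (P : Subgroup G) := P.isPGroup'.isNilpotent
  have hnc : NormalizerCondition (P : Subgroup G) := Group.normalizerCondition_of_isNilpotent
  have hlt : D.subgroupOf P < ⊤ := by
    rw [lt_top_iff_ne_top, Ne, Subgroup.subgroupOf_eq_top]
    intro h
    exact hne (le_antisymm hDP h)
  have h1 := hnc _ hlt
  rw [← Subgroup.subgroupOf_normalizer_eq hDP] at h1
  obtain ⟨x, hx1, hx2⟩ := SetLike.exists_of_lt h1
  exact ⟨x, x.2, Subgroup.mem_subgroupOf.mp hx1, fun h => hx2 (Subgroup.mem_subgroupOf.mpr h)⟩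

theorem normalizer_not_isPGroup [Finite G] {p : ℕ} [Fact p.Prime] (P₁ P₂ : Sylow p G)
    (hne : P₁ ≠ P₂)
    (hmax : ∀ S₁ S₂ : Sylow p G, S₁ ≠ S₂ →
      Nat.card ((S₁ : Subgroup G) ⊓ S₂ : Subgroup G) ≤ Nat.card ((P₁ : Subgroup G) ⊓ P₂ : Subgroup G)) :
    ¬ IsPGroup p (Subgroup.normalizer (((P₁ : Subgroup G) ⊓ P₂ : Subgroup G) : Set G)) := by
  intro hp
  set D : Subgroup G := (P₁ : Subgroup G) ⊓ P₂ with hD
  obtain ⟨P₃, hP₃⟩ := hp.exists_le_sylow
  have key : ∀ S : Sylow p G, D ≤ S → D ≠ S → S = P₃ := by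
    intro S hDS hDne
    by_contra hS
    obtain ⟨x, hxS, hxN, hxD⟩ := exists_mem_normalizer_not_mem S D hDS hDne
    have h1 := hmax S P₃ hS
    have h2 : D < (S : Subgroup G) ⊓ P₃ := by
      refine lt_of_le_of_ne (le_inf hDS (Subgroup.le_normalizer.trans hP₃)) ?_
      intro h
      apply hxD
      rw [h]
      exact ⟨hxS, hP₃ hxN⟩
    have h3 : Nat.card D < Nat.card ((S : Subgroup G) ⊓ P₃ : Subgroup G) := by
      rcases (Subgroup.card_le_of_le h2.le).lt_or_eq with h | h
      · exact h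
      · exact absurd (Subgroup.eq_of_le_of_card_ge h2.le h.ge) h2.ne
    omega
  have hcardeq : Nat.card (P₁ : Subgroup G) = Nat.card (P₂ : Subgroup G) := by
    rw [Sylow.card_eq_multiplicity, Sylow.card_eq_multiplicity]
  have e1 : P₁ = P₃ := by
    apply key P₁ inf_le_left
    intro h
    apply hne
    have : (P₁ : Subgroup G) ≤ P₂ := by rw [← h]; exact inf_le_right
    exact Sylow.ext (Subgroup.eq_of_le_of_card_ge this hcardeq.ge)
  have e2 : P₂ = P₃ := by
    apply key P₂ inf_le_right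
    intro h
    apply hne
    have : (P₂ : Subgroup G) ≤ P₁ := by rw [← h]; exact inf_le_left
    exact (Sylow.ext (Subgroup.eq_of_le_of_card_ge this hcardeq.le)).symm
  exact hne (e1.trans e2.symm)

theorem le_all_sylow_of_complement [Finite G] {p : ℕ} [Fact p.Prime] (P : Sylow p G)
    (Q D : Subgroup G) (hc : Subgroup.IsComplement' Q (P : Subgroup G)) (hDP : D ≤ P)
    (hQD : Q ≤ Subgroup.normalizer (D : Set G)) (S : Sylow p G) : D ≤ S := by
  obtain ⟨g, rfl⟩ := MulAction.exists_smul_eq G P S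
  obtain ⟨⟨y, u⟩, hyu⟩ := hc.2 g
  simp only at hyu
  have h1 : g • P = (y : G) • P := by
    rw [← hyu, mul_smul]
    congr 1
    exact Sylow.smul_eq_iff_mem_normalizer.mpr (Subgroup.le_normalizer u.2)
  rw [h1, Sylow.coe_subgroup_smul, ← conj_smul_eq_of_mem_normalizer (hQD y.2)]
  exact Subgroup.pointwise_smul_le_pointwise_smul_iff.mpr hDP

end Cfsg.Agent.Lib.Helper1
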