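import Mathlib
import Cfsg.Agent.Lib.Helper1.PQ

set_option autoImplicit false
set_option linter.style.haveILetI false

namespace Cfsg.Agent.Lib.Helper1

universe u

open scoped Pointwise

variable {G : Type u} [Group G]

theorem factorization_pq_left {p q m : ℕ} (hp : p.Prime) (hq : q.Prime) (hpq : p ≠ q) :
    (p ^ m * q).factorization p = m := by
  rw [Nat.factorization_mul (pow_ne_zero _ hp.ne_zero) hq.ne_zero, Finsupp.add_apply,
    hp.factorization_pow, hq.factorization]
  simp [hpq.symm]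

theorem factorization_pq_right {p q m : ℕ} (hp : p.Prime) (hq : q.Prime) (hpq : p ≠ q) :
    (p ^ m * q).factorization q = 1 := by
  rw [Nat.factorization_mul (pow_ne_zero _ hp.ne_zero) hq.ne_zero, Finsupp.add_apply,
    hp.factorization_pow, hq.factorization]
  simp [hpq]

theorem card_sylow_pq_left [Finite G] {p q m : ℕ} [hp : Fact p.Prime] (hq : q.Prime) (hpq : p ≠ q)
    (hG : Nat.card G = p ^ m * q) (S : Sylow p G) : Nat.card (S : Subgroup G) = p ^ m := by
  rw [Sylow.card_eq_multiplicity, hG, factorization_pq_left hp.out hq hpq]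

theorem card_sylow_pq_right [Finite G] {p q m : ℕ} (hp : p.Prime) [hq : Fact q.Prime] (hpq : p ≠ q)
    (hG : Nat.card G = p ^ m * q) (S : Sylow q G) : Nat.card (S : Subgroup G) = q := by
  rw [Sylow.card_eq_multiplicity, hG, factorization_pq_right hp hq.out hpq, pow_one]

theorem subsingleton_sylow_of_TI [Finite G] {p q m : ℕ} [hp : Fact p.Prime] [hq : Fact q.Prime]
    (hpq : p ≠ q) (hG : Nat.card G = p ^ m * q) (hn : Nat.card (Sylow p G) = q)
    (hTI : ∀ S₁ S₂ : Sylow p G, S₁ ≠ S₂ → (S₁ : Subgroup G) ⊓ S₂ = ⊥) :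
    Subsingleton (Sylow q G) := by
  classical
  haveI := Fintype.ofFinite G
  haveI := Fintype.ofFinite (Sylow p G)
  let e : Subgroup G → Finset G := fun H => (Finset.univ.filter (· ∈ H)).erase 1
  have he_card : ∀ H : Subgroup G, (e H).card = Nat.card H - 1 := by
    intro H
    rw [Finset.card_erase_of_mem (by simp [H.one_mem])]
    congr 1
    rw [Nat.card_eq_fintype_card, Fintype.card_subtype]
  have he_mem : ∀ (H : Subgroup G) (x : G), x ∈ e H ↔ x ≠ 1 ∧ x ∈ H := by
    intro H x
    simp [e]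
  have hdisj : ∀ S ∈ (Finset.univ : Finset (Sylow p G)), ∀ S' ∈ (Finset.univ : Finset (Sylow p G)),
      S ≠ S' → Disjoint (e S) (e S') := by
    intro S _ S' _ hSS'
    rw [Finset.disjoint_left]
    intro x hx hx'
    rw [he_mem] at hx hx'
    have : x ∈ (S : Subgroup G) ⊓ S' := ⟨hx.2, hx'.2⟩
    rw [hTI S S' hSS', Subgroup.mem_bot] at this
    exact hx.1 this
  set T := (Finset.univ : Finset (Sylow p G)).biUnion (fun S => e S) with hT
  have hTcard : T.card = q * (p ^ m - 1) := by
    rw [hT, Finset.card_biUnion hdisj]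
    rw [Finset.sum_congr rfl (fun S _ => by rw [he_card, card_sylow_pq_left hq.out hpq hG S])]
    rw [Finset.sum_const, Finset.card_univ, ← Nat.card_eq_fintype_card, hn, smul_eq_mul]
  refine ⟨fun Q₁ Q₂ => ?_⟩
  have hQT : ∀ Q : Sylow q G, Disjoint (e Q) T := by
    intro Q
    rw [Finset.disjoint_left]
    intro x hx hxT
    rw [hT, Finset.mem_biUnion] at hxT
    obtain ⟨S, _, hxS⟩ := hxT
    rw [he_mem] at hx hxS
    have hcop : (Nat.card (Q : Subgroup G)).Coprime (Nat.card (S : Subgroup G)) := by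
      rw [card_sylow_pq_left hq.out hpq hG S, card_sylow_pq_right hp.out hpq hG Q]
      exact Nat.Coprime.pow_right _ ((Nat.coprime_primes hq.out hp.out).mpr hpq.symm)
    have : x ∈ (Q : Subgroup G) ⊓ S := ⟨hx.2, hxS.2⟩
    rw [(Subgroup.disjoint_of_coprime_natCard hcop).eq_bot, Subgroup.mem_bot] at this
    exact hx.1 this
  have hsub : (e Q₁ ∪ e Q₂) ∪ T ⊆ (Finset.univ : Finset G).erase 1 := by
    intro x hx
    rw [Finset.mem_erase]
    refine ⟨?_, Finset.mem_univ x⟩
    rcases Finset.mem_union.mp hx with h | h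
    · rcases Finset.mem_union.mp h with h | h
      · exact ((he_mem _ _).mp h).1
      · exact ((he_mem _ _).mp h).1
    · rw [hT, Finset.mem_biUnion] at h
      obtain ⟨S, _, hxS⟩ := h
      exact ((he_mem _ _).mp hxS).1
  have hcard := Finset.card_le_card hsub
  rw [Finset.card_union_of_disjoint (Finset.disjoint_union_left.mpr ⟨hQT Q₁, hQT Q₂⟩), hTcard,
    Finset.card_erase_of_mem (Finset.mem_univ 1), Finset.card_univ, ← Nat.card_eq_fintype_card,
    hG] at hcard
  have hpm : 1 ≤ p ^ m := Nat.one_le_pow _ _ hp.out.pos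
  have hq1 : 1 ≤ q := hq.out.pos
  have hle : (e Q₁ ∪ e Q₂).card ≤ q - 1 := by
    have h1 : q * (p ^ m - 1) = p ^ m * q - q := by
      rw [Nat.mul_sub, mul_one, mul_comm]
    have h2 : q ≤ p ^ m * q := Nat.le_mul_of_pos_left q (by omega)
    omega
  have hQ₁c : (e Q₁).card = q - 1 := by rw [he_card, card_sylow_pq_right hp.out hpq hG Q₁]
  have heq : e Q₁ = e Q₁ ∪ e Q₂ :=
    Finset.eq_of_subset_of_card_le Finset.subset_union_left (by rw [hQ₁c]; exact hle)
  have hle' : (Q₂ : Subgroup G) ≤ Q₁ := by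
    intro x hx
    by_cases hx1 : x = 1
    · rw [hx1]; exact Subgroup.one_mem _
    · have : x ∈ e Q₁ := by
        rw [heq]
        exact Finset.mem_union_right _ ((he_mem _ _).mpr ⟨hx1, hx⟩)
      exact ((he_mem _ _).mp this).2
  have hc : Nat.card (Q₁ : Subgroup G) ≤ Nat.card (Q₂ : Subgroup G) := by
    rw [card_sylow_pq_right hp.out hpq hG Q₁, card_sylow_pq_right hp.out hpq hG Q₂]
  exact (Sylow.ext (Subgroup.eq_of_le_of_card_ge hle' hc)).symm

end Cfsg.Agent.Lib.Helper1
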