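import Mathlib
import Cfsg.Agent.Lib.Helper1.PQ2

set_option autoImplicit false
set_option linter.style.haveILetI false

namespace Cfsg.Agent.Lib.Helper1

universe u

open scoped Pointwise

/-- groups of order `p ^ m * q` are solvable -/
def PQProp (G : Type u) [Group G] : Prop :=
  ∀ p q m : ℕ, p.Prime → q.Prime → Nat.card G = p ^ m * q → Group.IsSolvable G

theorem isSolvable_of_card_prime {H : Type u} [Group H] {q : ℕ} (hq : q.Prime)
    (h : Nat.card H = q) : Group.IsSolvable H := by
  haveI : Fact q.Prime := ⟨hq⟩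
  haveI := isCyclic_of_prime_card h
  exact Group.isSolvable_of_comm (fun a b => mul_comm' a b)

theorem pq_small {G : Type u} [Group G] [Finite G] (p q m : ℕ) (hp : p.Prime) (hq : q.Prime)
    (hG : Nat.card G = p ^ m * q)
    (ih : ∀ (G' : Type u) [Group G'] [Finite G'], Nat.card G' < Nat.card G → PQProp G')
    (H : Type u) [Group H] [Finite H] (hlt : Nat.card H < Nat.card G)
    (hd : Nat.card H ∣ Nat.card G) : Group.IsSolvable H := by
  rw [hG] at hd
  obtain ⟨k₁, k₂, h1, h2, h3⟩ := Nat.dvd_mul.mp hd
  obtain ⟨a, -, rfl⟩ := (Nat.dvd_prime_pow hp).mp h1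
  rcases (Nat.dvd_prime hq).mp h2 with h | h
  · rw [h, mul_one] at h3
    haveI : Fact p.Prime := ⟨hp⟩
    have h4 : IsPGroup p H := IsPGroup.of_card h3.symm
    have := h4.isNilpotent
    infer_instance
  · rw [h] at h3
    exact ih H hlt p q a hp hq h3.symm

theorem pq_all (G : Type u) [Group G] [Finite G] : PQProp G := by
  refine finite_group_induction (fun G _ => PQProp G) ?_ G
  intro G _ _ ih p q m hp hq hG
  have hred : ∀ N : Subgroup G, N.Normal → N ≠ ⊥ → N ≠ ⊤ → Group.IsSolvable G := by
    intro N hN hb ht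
    have hlt : Nat.card N < Nat.card G := by
      rcases (Subgroup.card_le_card_group N).lt_or_eq with h | h
      · exact h
      · exact absurd (eq_top_of_card_eq_card N h) ht
    have h1 : Group.IsSolvable N :=
      pq_small p q m hp hq hG ih N hlt (Subgroup.card_subgroup_dvd_card N)
    have h2 : Group.IsSolvable (G ⧸ N) :=
      pq_small p q m hp hq hG ih (G ⧸ N) (card_quotient_lt N hb) (Subgroup.card_quotient_dvd_card N)
    exact Group.isSolvable_of_ker_le_range N.subtype (QuotientGroup.mk' N) (by simp)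
  by_cases hpq : p = q
  · subst hpq
    haveI : Fact p.Prime := ⟨hp⟩
    have h4 : IsPGroup p G := IsPGroup.of_card (n := m + 1) (by rw [hG, pow_succ])
    have := h4.isNilpotent
    infer_instance
  haveI : Fact p.Prime := ⟨hp⟩
  haveI : Fact q.Prime := ⟨hq⟩
  obtain ⟨P⟩ : Nonempty (Sylow p G) := inferInstance
  have hPc := card_sylow_pq_left hq hpq hG P
  have hpm : 0 < p ^ m := pow_pos hp.pos m
  have hidx : (P : Subgroup G).index = q := by
    have h1 := (P : Subgroup G).card_mul_index
    rw [hPc, hG] at h1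
    exact Nat.eq_of_mul_eq_mul_left hpm h1
  have hPtop : (P : Subgroup G) ≠ ⊤ := by
    intro h
    rw [h, Subgroup.index_top] at hidx
    exact hq.one_lt.ne hidx
  -- the case where some Sylow `q`-subgroup is normal
  have hQcase : ∀ Q : Sylow q G, (Q : Subgroup G).Normal → Group.IsSolvable G := by
    intro Q hQn
    have hQc := card_sylow_pq_right hp hpq hG Q
    by_cases hQt : (Q : Subgroup G) = ⊤
    · apply isSolvable_of_card_prime hq
      rw [← Subgroup.card_top (G := G), ← hQt, hQc]
    · refine hred Q hQn ?_ hQt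
      intro h
      rw [h, Subgroup.card_bot] at hQc
      exact hq.one_lt.ne hQc
  by_cases hPn : (P : Subgroup G).Normal
  · by_cases hPb : (P : Subgroup G) = ⊥
    · apply isSolvable_of_card_prime hq
      rw [hG, ← hPc, hPb, Subgroup.card_bot, one_mul]
    · exact hred P hPn hPb hPtop
  · have hn : Nat.card (Sylow p G) = q := by
      have h1 := P.card_dvd_index
      rw [hidx] at h1
      rcases (Nat.dvd_prime hq).mp h1 with h | h
      · exfalso
        apply hPn
        haveI : Subsingleton (Sylow p G) := (Nat.card_eq_one_iff_unique.mp h).1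
        exact Sylow.normal_of_subsingleton P
      · exact h
    classical
    haveI := Fintype.ofFinite (Sylow p G)
    have hne2 : ∃ P₂ : Sylow p G, P ≠ P₂ := by
      by_contra hcon
      have hcon' : ∀ P₂ : Sylow p G, P = P₂ := fun P₂ => by
        by_contra h
        exact hcon ⟨P₂, h⟩
      apply hPn
      haveI : Subsingleton (Sylow p G) := ⟨fun a b => (hcon' a).symm.trans (hcon' b)⟩
      exact Sylow.normal_of_subsingleton P
    obtain ⟨P₂', hP₂'⟩ := hne2
    obtain ⟨⟨P₁, P₂⟩, hmem, hmax⟩ := Finset.exists_max_image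
      ((Finset.univ : Finset (Sylow p G × Sylow p G)).filter (fun x => x.1 ≠ x.2))
      (fun x => Nat.card ((x.1 : Subgroup G) ⊓ x.2 : Subgroup G))
      ⟨(P, P₂'), by simp [hP₂']⟩
    have hne : P₁ ≠ P₂ := (Finset.mem_filter.mp hmem).2
    have hmax' : ∀ S₁ S₂ : Sylow p G, S₁ ≠ S₂ →
        Nat.card ((S₁ : Subgroup G) ⊓ S₂ : Subgroup G) ≤
        Nat.card ((P₁ : Subgroup G) ⊓ P₂ : Subgroup G) := by
      intro S₁ S₂ h
      exact hmax (S₁, S₂) (Finset.mem_filter.mpr ⟨Finset.mem_univ _, h⟩)
    by_cases hD : (P₁ : Subgroup G) ⊓ P₂ = ⊥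
    · -- TI case
      have hTI : ∀ S₁ S₂ : Sylow p G, S₁ ≠ S₂ → (S₁ : Subgroup G) ⊓ S₂ = ⊥ := by
        intro S₁ S₂ h
        have h1 := hmax' S₁ S₂ h
        rw [hD, Subgroup.card_bot] at h1
        rw [← Subgroup.card_eq_one]
        have : 0 < Nat.card ((S₁ : Subgroup G) ⊓ S₂ : Subgroup G) := Nat.card_pos
        omega
      haveI := subsingleton_sylow_of_TI hpq hG hn hTI
      obtain ⟨Q⟩ : Nonempty (Sylow q G) := inferInstance
      exact hQcase Q (Sylow.normal_of_subsingleton Q)
    · -- nontrivial maximal intersection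
      set D : Subgroup G := (P₁ : Subgroup G) ⊓ P₂ with hDdef
      have hnp := normalizer_not_isPGroup P₁ P₂ hne hmax'
      rw [← hDdef] at hnp
      set N := Subgroup.normalizer (D : Set G) with hNdef
      have hqN : q ∣ Nat.card N := by
        have hd : Nat.card N ∣ p ^ m * q := hG ▸ Subgroup.card_subgroup_dvd_card N
        obtain ⟨k₁, k₂, h1, h2, h3⟩ := Nat.dvd_mul.mp hd
        obtain ⟨a, -, rfl⟩ := (Nat.dvd_prime_pow hp).mp h1
        rcases (Nat.dvd_prime hq).mp h2 with h | h
        · exfalso
          rw [h, mul_one] at h3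
          exact hnp (IsPGroup.of_card (n := a) h3.symm)
        · rw [← h3, h]; exact dvd_mul_left _ _
      obtain ⟨x, hx⟩ := exists_prime_orderOf_dvd_card' q hqN
      set Q : Subgroup G := Subgroup.zpowers (x : G) with hQdef
      have hQc : Nat.card Q = q := by
        rw [hQdef, Nat.card_zpowers, Subgroup.orderOf_coe, hx]
      have hQN : Q ≤ N := by
        rw [hQdef, Subgroup.zpowers_le]; exact x.2
      have hP₁c := card_sylow_pq_left hq hpq hG P₁
      have hcompl : Subgroup.IsComplement' Q (P₁ : Subgroup G) :=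
        Subgroup.isComplement'_of_coprime (by rw [hQc, hP₁c, hG, mul_comm])
          (by rw [hQc, hP₁c]
              exact Nat.Coprime.pow_right _ ((Nat.coprime_primes hq hp).mpr (Ne.symm hpq)))
      have hall := le_all_sylow_of_complement P₁ Q D hcompl inf_le_left hQN
      have hDcore : D ≤ (P : Subgroup G).normalCore := by
        intro d hd b
        have h1 := hall (b⁻¹ • P) hd
        rw [Sylow.coe_subgroup_smul, Subgroup.mem_pointwise_smul_iff_inv_smul_mem] at h1
        simpa using h1
      refine hred (P : Subgroup G).normalCore inferInstance ?_ ?_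
      · intro h
        apply hD
        rw [eq_bot_iff, ← h]
        exact hDcore
      · intro h
        apply hPtop
        rw [eq_top_iff, ← h]
        exact Subgroup.normalCore_le _

end Cfsg.Agent.Lib.Helper1
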