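import Mathlib
import Cfsg.Prelude.Def_OddOrderLocal
import Cfsg.Agent.S1466

set_option autoImplicit false

/-!
# The Puig series of a subgroup, viewed inside the ambient group

`stepIn H X` is `L_H(X)` as a subgroup of `G`, `seqIn H n` is `L_n(H)`; bridging lemmas to
`Cfsg.puigSeq ↥H`; transport along homomorphisms injective on `H`; and B&G Lemma B.1(g):
`L(S) ≤ H ≤ S` implies `L(H) = L(S)`.
-/

namespace Cfsg.Agent.Lib.Helper1.Puig

open Cfsg

variable {G : Type*} [Group G] {G' : Type*} [Group G']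

/-- `L_H(X)` inside `G`. -/
def stepIn (H X : Subgroup G) : Subgroup G :=
  sSup {A : Subgroup G | A ≤ H ∧ IsMulCommutative A ∧ X ≤ Subgroup.normalizer (A : Set G)}

/-- `L_n(H)` inside `G`. -/
def seqIn (H : Subgroup G) : ℕ → Subgroup G
  | 0 => ⊥
  | n + 1 => stepIn H (seqIn H n)

theorem seqIn_succ (H : Subgroup G) (n : ℕ) : seqIn H (n + 1) = stepIn H (seqIn H n) := rfl

theorem le_stepIn {H X A : Subgroup G} (hA : A ≤ H) (hc : IsMulCommutative A)
    (hn : X ≤ Subgroup.normalizer (A : Set G)) : A ≤ stepIn H X :=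
  le_sSup ⟨hA, hc, hn⟩

theorem stepIn_le (H X : Subgroup G) : stepIn H X ≤ H :=
  sSup_le (fun _ hA => hA.1)

theorem stepIn_antitone {H X Y : Subgroup G} (h : X ≤ Y) : stepIn H Y ≤ stepIn H X :=
  sSup_le_sSup (fun _ hA => ⟨hA.1, hA.2.1, h.trans hA.2.2⟩)

theorem stepIn_mono_left {H H' : Subgroup G} (X : Subgroup G) (h : H ≤ H') :
    stepIn H X ≤ stepIn H' X :=
  sSup_le_sSup (fun _ hA => ⟨hA.1.trans h, hA.2.1, hA.2.2⟩)

theorem seqIn_le (H : Subgroup G) (n : ℕ) : seqIn H n ≤ H := by
  cases n with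
  | zero => exact bot_le
  | succ n => exact stepIn_le H _

/-! ### Bridging to the type-level Puig series -/

theorem map_puigStep (H : Subgroup G) (X : Subgroup H) :
    (Cfsg.puigStep X).map H.subtype = stepIn H (X.map H.subtype) := by
  apply le_antisymm
  · rw [Subgroup.map_le_iff_le_comap]
    unfold Cfsg.puigStep
    apply sSup_le
    rintro A ⟨hAc, hAn⟩
    rw [← Subgroup.map_le_iff_le_comap]
    apply le_stepIn
    · exact Subgroup.map_subtype_le A
    · have := hAc
      exact Subgroup.map_isMulCommutative A H.subtype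
    · exact (Subgroup.map_mono hAn).trans (Subgroup.le_normalizer_map H.subtype)
  · unfold stepIn
    apply sSup_le
    rintro A ⟨hAH, hAc, hAn⟩
    have h1 : A = (A.subgroupOf H).map H.subtype := (Subgroup.map_subgroupOf_eq_of_le hAH).symm
    rw [h1]
    apply Subgroup.map_mono
    unfold Cfsg.puigStep
    apply le_sSup
    refine ⟨?_, ?_⟩
    · have := hAc
      exact Subgroup.subgroupOf_isMulCommutative H A
    · have h2 : X ≤ (X.map H.subtype).comap H.subtype := Subgroup.le_comap_map _ _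
      have h3 : (X.map H.subtype).comap H.subtype ≤
          (Subgroup.normalizer (A : Set G)).comap H.subtype := Subgroup.comap_mono hAn
      exact (h2.trans h3).trans (Subgroup.le_normalizer_comap H.subtype)

theorem map_puigSeq (H : Subgroup G) (n : ℕ) :
    (Cfsg.puigSeq H n).map H.subtype = seqIn H n := by
  induction n with
  | zero =>
    show (⊥ : Subgroup H).map H.subtype = ⊥
    exact Subgroup.map_bot _
  | succ n ih =>
    show (Cfsg.puigStep (Cfsg.puigSeq H n)).map H.subtype = stepIn H (seqIn H n)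
    rw [map_puigStep, ih]

/-! ### Transport along a homomorphism injective on `H` -/

theorem map_stepIn (f : G →* G') (H X : Subgroup G) (hXH : X ≤ H)
    (hinj : ∀ x ∈ H, f x = 1 → x = 1) :
    (stepIn H X).map f = stepIn (H.map f) (X.map f) := by
  apply le_antisymm
  · rw [Subgroup.map_le_iff_le_comap]
    unfold stepIn
    apply sSup_le
    rintro A ⟨hAH, hAc, hAn⟩
    rw [← Subgroup.map_le_iff_le_comap]
    apply le_sSup
    refine ⟨Subgroup.map_mono hAH, ?_, ?_⟩
    · have := hAc
      exact Subgroup.map_isMulCommutative A f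
    · exact (Subgroup.map_mono hAn).trans (Subgroup.le_normalizer_map f)
  · unfold stepIn
    apply sSup_le
    rintro A' ⟨hAH, hAc, hAn⟩
    set A : Subgroup G := A'.comap f ⊓ H with hA
    have hmap : A.map f = A' := by
      apply le_antisymm
      · rintro _ ⟨a, ha, rfl⟩
        exact ha.1
      · intro a' ha'
        obtain ⟨h, hh, rfl⟩ := hAH ha'
        exact ⟨h, ⟨ha', hh⟩, rfl⟩
    have hcomm : IsMulCommutative A := by
      refine ⟨⟨fun a b => ?_⟩⟩
      apply Subtype.ext
      have h1 : f (a : G) * f (b : G) = f (b : G) * f (a : G) := by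
        have := hAc.is_comm.comm ⟨f (a : G), a.2.1⟩ ⟨f (b : G), b.2.1⟩
        exact congrArg Subtype.val this
      have h2 : f ((a : G) * (b : G) * ((b : G) * (a : G))⁻¹) = 1 := by
        rw [map_mul, map_inv, map_mul, map_mul, h1, mul_inv_cancel]
      have h3 : (a : G) * (b : G) * ((b : G) * (a : G))⁻¹ ∈ H :=
        H.mul_mem (H.mul_mem a.2.2 b.2.2) (H.inv_mem (H.mul_mem b.2.2 a.2.2))
      have h4 := hinj _ h3 h2
      show (a : G) * (b : G) = (b : G) * (a : G)
      exact mul_inv_eq_one.mp h4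
    have hnorm : X ≤ Subgroup.normalizer (A : Set G) := by
      intro x hx
      have hfx : f x ∈ Subgroup.normalizer (A' : Set G') := hAn (Subgroup.mem_map_of_mem f hx)
      rw [Subgroup.mem_normalizer_iff] at hfx ⊢
      intro a
      constructor
      · rintro ⟨ha1, ha2⟩
        refine ⟨?_, H.mul_mem (H.mul_mem (hXH hx) ha2) (H.inv_mem (hXH hx))⟩
        show f (x * a * x⁻¹) ∈ A'
        rw [map_mul, map_mul, map_inv]
        exact (hfx (f a)).mp ha1
      · rintro ⟨ha1, ha2⟩
        have ha1' : f (x * a * x⁻¹) ∈ A' := ha1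
        rw [map_mul, map_mul, map_inv] at ha1'
        refine ⟨(hfx (f a)).mpr ha1', ?_⟩
        have h5 : a = x⁻¹ * (x * a * x⁻¹) * x := by group
        rw [h5]
        exact H.mul_mem (H.mul_mem (H.inv_mem (hXH hx)) ha2) (hXH hx)
    rw [← hmap]
    exact Subgroup.map_mono (le_sSup ⟨inf_le_right, hcomm, hnorm⟩)

theorem map_seqIn (f : G →* G') (H : Subgroup G) (hinj : ∀ x ∈ H, f x = 1 → x = 1) (n : ℕ) :
    (seqIn H n).map f = seqIn (H.map f) n := by
  induction n with
  | zero =>
    show (⊥ : Subgroup G).map f = ⊥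
    exact Subgroup.map_bot _
  | succ n ih =>
    rw [seqIn_succ, seqIn_succ, map_stepIn f H _ (seqIn_le H n) hinj, ih]

theorem map_conj_eq_of_mem_normalizer {g : G} {H : Subgroup G}
    (hg : g ∈ Subgroup.normalizer (H : Set G)) : H.map (MulAut.conj g).toMonoidHom = H := by
  ext x
  constructor
  · rintro ⟨h, hh, rfl⟩
    exact (Subgroup.mem_normalizer_iff.mp hg h).mp hh
  · intro hx
    refine ⟨g⁻¹ * x * g, ?_, ?_⟩
    · have := (Subgroup.mem_normalizer_iff.mp (inv_mem hg) x).mp hx
      simpa using this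
    · show g * (g⁻¹ * x * g) * g⁻¹ = x
      group

theorem mem_normalizer_of_map_conj_eq {g : G} {H : Subgroup G}
    (h : H.map (MulAut.conj g).toMonoidHom = H) : g ∈ Subgroup.normalizer (H : Set G) := by
  rw [Subgroup.mem_normalizer_iff]
  intro x
  constructor
  · intro hx
    rw [← h]
    exact ⟨x, hx, rfl⟩
  · intro hx
    rw [← h] at hx
    obtain ⟨y, hy, hyx⟩ := hx
    have h1 : g * y * g⁻¹ = g * x * g⁻¹ := hyx
    have h2 : y = x := by
      have := congrArg (fun t => g⁻¹ * t * g) h1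
      simpa [mul_assoc] using this
    rw [← h2]; exact hy

theorem normalizer_le_normalizer_seqIn (H : Subgroup G) (n : ℕ) :
    Subgroup.normalizer (H : Set G) ≤ Subgroup.normalizer (seqIn H n : Set G) := by
  intro g hg
  apply mem_normalizer_of_map_conj_eq
  rw [map_seqIn _ H (fun x _ hx => by
    have : (MulAut.conj g) x = 1 := hx
    exact (map_eq_one_iff (MulAut.conj g) (MulAut.conj g).injective).mp this) n,
    map_conj_eq_of_mem_normalizer hg]

theorem seqIn_normal (H : Subgroup G) [hH : H.Normal] (n : ℕ) : (seqIn H n).Normal := by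
  rw [← Subgroup.normalizer_eq_top_iff]
  rw [eq_top_iff]
  refine le_trans ?_ (normalizer_le_normalizer_seqIn H n)
  rw [Subgroup.normalizer_eq_top_iff.mpr hH]

/-! ### The limits `L_*(H)` and `L(H)` inside `G` -/

/-- `L(H)` inside `G` -/
def upperIn (H : Subgroup G) : Subgroup G := (Cfsg.puigSubgroup H).map H.subtype

/-- `L_*(H)` inside `G` -/
def lowerIn (H : Subgroup G) : Subgroup G := (Cfsg.puigLower H).map H.subtype

theorem upperIn_le (H : Subgroup G) : upperIn H ≤ H := Subgroup.map_subtype_le _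

theorem lowerIn_le (H : Subgroup G) : lowerIn H ≤ H := Subgroup.map_subtype_le _

theorem seqIn_even_le_lowerIn (H : Subgroup G) (n : ℕ) : seqIn H (2 * n) ≤ lowerIn H := by
  rw [← map_puigSeq]
  apply Subgroup.map_mono
  exact le_iSup (fun n : ℕ => Cfsg.puigSeq H (2 * n)) n

theorem upperIn_le_seqIn_odd (H : Subgroup G) (n : ℕ) : upperIn H ≤ seqIn H (2 * n + 1) := by
  rw [← map_puigSeq]
  apply Subgroup.map_mono
  exact iInf_le (fun n : ℕ => Cfsg.puigSeq H (2 * n + 1)) n

variable [Finite G]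

theorem exists_stable (H : Subgroup G) :
    ∃ k : ℕ, ∀ n : ℕ, k ≤ n → seqIn H (2 * n) = lowerIn H ∧ seqIn H (2 * n + 1) = upperIn H := by
  obtain ⟨_, _, _, ⟨k, hk⟩, _, _, _⟩ := Cfsg.Agent.S1467.result (G := H)
  refine ⟨k, fun n hn => ?_⟩
  obtain ⟨h1, h2⟩ := hk n hn
  refine ⟨?_, ?_⟩
  · rw [← map_puigSeq, h1]; rfl
  · rw [← map_puigSeq, h2]; rfl

theorem lowerIn_le_upperIn (H : Subgroup G) : lowerIn H ≤ upperIn H := by
  obtain ⟨_, _, _, _, h, _, _⟩ := Cfsg.Agent.S1467.result (G := H)
  exact Subgroup.map_mono h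

theorem stepIn_lowerIn (H : Subgroup G) : stepIn H (lowerIn H) = upperIn H := by
  obtain ⟨_, _, _, _, _, h, _⟩ := Cfsg.Agent.S1467.result (G := H)
  unfold lowerIn upperIn
  rw [← map_puigStep, h]

theorem stepIn_upperIn (H : Subgroup G) : stepIn H (upperIn H) = lowerIn H := by
  obtain ⟨_, _, _, _, _, _, h⟩ := Cfsg.Agent.S1467.result (G := H)
  unfold lowerIn upperIn
  rw [← map_puigStep, h]

theorem seqIn_one (H : Subgroup G) : seqIn H 1 = H := by
  obtain ⟨_, h, _⟩ := Cfsg.Agent.S1467.result (G := H)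
  rw [← map_puigSeq, h, ← MonoidHom.range_eq_map, Subgroup.range_subtype]

theorem normalizer_le_normalizer_upperIn (H : Subgroup G) :
    Subgroup.normalizer (H : Set G) ≤ Subgroup.normalizer (upperIn H : Set G) := by
  obtain ⟨k, hk⟩ := exists_stable H
  rw [← (hk k le_rfl).2]
  exact normalizer_le_normalizer_seqIn H _

theorem normalizer_le_normalizer_lowerIn (H : Subgroup G) :
    Subgroup.normalizer (H : Set G) ≤ Subgroup.normalizer (lowerIn H : Set G) := by
  obtain ⟨k, hk⟩ := exists_stable H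
  rw [← (hk k le_rfl).1]
  exact normalizer_le_normalizer_seqIn H _

/-- B&G Lemma B.1(g): if `L(S) ≤ H ≤ S` then `L(H) = L(S)` and `L_*(H) = L_*(S)`. -/
theorem upperIn_eq_of_le {H S : Subgroup G} (hHS : H ≤ S) (hL : upperIn S ≤ H) :
    upperIn H = upperIn S ∧ lowerIn H = lowerIn S := by
  -- (i) the sandwich
  have hi : ∀ n : ℕ, seqIn S (2 * n) ≤ seqIn H (2 * n) ∧
      seqIn H (2 * n + 1) ≤ seqIn S (2 * n + 1) := by
    intro n
    induction n with
    | zero =>
      refine ⟨bot_le, ?_⟩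
      exact stepIn_mono_left _ hHS
    | succ n ih =>
      have h1 : seqIn S (2 * (n + 1)) ≤ seqIn H (2 * (n + 1)) := by
        have e : 2 * (n + 1) = (2 * n + 1) + 1 := by ring
        rw [e, seqIn_succ S, seqIn_succ H]
        unfold stepIn
        apply sSup_le
        rintro A ⟨hAS, hAc, hAn⟩
        have hA1 : A ≤ seqIn S ((2 * n + 1) + 1) := le_sSup ⟨hAS, hAc, hAn⟩
        have hA2 : seqIn S ((2 * n + 1) + 1) ≤ lowerIn S := by
          have e' : (2 * n + 1) + 1 = 2 * (n + 1) := by ring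
          rw [e']
          exact seqIn_even_le_lowerIn S (n + 1)
        have hAH : A ≤ H := ((hA1.trans hA2).trans (lowerIn_le_upperIn S)).trans hL
        exact le_sSup ⟨hAH, hAc, ih.2.trans hAn⟩
      refine ⟨h1, ?_⟩
      have e : 2 * (n + 1) + 1 = (2 * (n + 1)) + 1 := rfl
      rw [seqIn_succ H, seqIn_succ S]
      exact (stepIn_antitone h1).trans (stepIn_mono_left _ hHS)
  -- (ii) the reverse bounds
  have hii : ∀ n : ℕ, seqIn H (2 * n) ≤ lowerIn S ∧ upperIn S ≤ seqIn H (2 * n + 1) := by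
    intro n
    induction n with
    | zero =>
      refine ⟨bot_le, ?_⟩
      show upperIn S ≤ seqIn H 1
      rw [seqIn_one]
      exact hL
    | succ n ih =>
      have h1 : seqIn H (2 * (n + 1)) ≤ lowerIn S := by
        have e : 2 * (n + 1) = (2 * n + 1) + 1 := by ring
        rw [e, seqIn_succ H, ← stepIn_upperIn S]
        exact (stepIn_antitone ih.2).trans (stepIn_mono_left _ hHS)
      refine ⟨h1, ?_⟩
      rw [seqIn_succ H]
      refine le_trans ?_ (stepIn_antitone h1)
      rw [← stepIn_lowerIn S]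
      unfold stepIn
      apply sSup_le
      rintro A ⟨hAS, hAc, hAn⟩
      have hA1 : A ≤ upperIn S := by
        rw [← stepIn_lowerIn S]
        exact le_sSup ⟨hAS, hAc, hAn⟩
      exact le_sSup ⟨hA1.trans hL, hAc, hAn⟩
  obtain ⟨k1, hk1⟩ := exists_stable H
  obtain ⟨k2, hk2⟩ := exists_stable S
  set k := max k1 k2 with hk
  have hkH := hk1 k (le_max_left _ _)
  have hkS := hk2 k (le_max_right _ _)
  refine ⟨le_antisymm ?_ ?_, le_antisymm ?_ ?_⟩
  · rw [← hkH.2, ← hkS.2]; exact (hi k).2
  · rw [← hkH.2]; exact (hii k).2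
  · rw [← hkH.1]; exact (hii k).1
  · rw [← hkH.1, ← hkS.1]; exact (hi k).1

end Cfsg.Agent.Lib.Helper1.Puig
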