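import Mathlib
import Cfsg.Agent.Lib.Helper1.Puig
import Cfsg.Agent.S1465
import Cfsg.Agent.Lib.Helper84.PCore

set_option autoImplicit false

/-!
# B&G Theorem B.2 (Puig): `L_*(S) ≤ L_*(T) ≤ L(T) ≤ L(S)` for `T = O_p(G)`, `O_{p'}(G) = 1`.
-/

namespace Cfsg.Agent.Lib.Helper1.Puig

open Cfsg Cfsg.Agent.Lib.Helper22

variable {G : Type*} [Group G] [Finite G]

/-- in a `p`-subgroup `T`, the terms `L_{j+1}(T)` contain their centralizers in `T` -/
theorem inf_centralizer_seqIn_le {p : ℕ} [Fact p.Prime] (T : Subgroup G) (hT : IsPGroup p T)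
    (j : ℕ) : T ⊓ Subgroup.centralizer (seqIn T (j + 1) : Set G) ≤ seqIn T (j + 1) := by
  rintro x ⟨hxT, hxC⟩
  have hn : (Cfsg.puigSeq T (j + 1)).Normal := Cfsg.Agent.S1466.puigSeq_normal (j + 1)
  have h1 : Subgroup.centralizer ((Cfsg.puigSeq T (j + 1) : Subgroup T) : Set T) ≤
      Cfsg.puigSeq T (j + 1) := by
    apply Cfsg.Agent.S1466.centralizer_le_of_contains_normal_abelian p hT
    intro A hA hAc
    exact Cfsg.Agent.S1466.normal_abelian_le_puigStep _ A hA hAc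
  have h2 : (⟨x, hxT⟩ : T) ∈ Subgroup.centralizer ((Cfsg.puigSeq T (j + 1) : Subgroup T) : Set T) := by
    rw [Subgroup.mem_centralizer_iff]
    intro y hy
    apply Subtype.ext
    have hy' : (y : G) ∈ seqIn T (j + 1) := by
      rw [← map_puigSeq]
      exact ⟨y, hy, rfl⟩
    exact (Subgroup.mem_centralizer_iff.mp hxC) (y : G) hy'
  have h3 := h1 h2
  rw [← map_puigSeq]
  exact ⟨⟨x, hxT⟩, h3, rfl⟩

variable [Group.IsSolvable G]

/-- the sandwich at finite levels -/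
theorem seqIn_sandwich (hodd : Odd (Nat.card G)) (p : ℕ) [Fact p.Prime] (hp : p ≠ 2)
    (hO : Cfsg.pPrimeCore p G = ⊥) (S : Sylow p G) (n : ℕ) :
    seqIn (S : Subgroup G) (2 * n) ≤ seqIn (Cfsg.pCore p G) (2 * n) ∧
      seqIn (Cfsg.pCore p G) (2 * n + 1) ≤ seqIn (S : Subgroup G) (2 * n + 1) := by
  set T := Cfsg.pCore p G with hT
  have hTn : T.Normal := pCore_normal' p G
  have hTp : IsPGroup p T := pCore_isPGroup' p G
  have hTS : T ≤ (S : Subgroup G) := Cfsg.Agent.Lib.Helper84.pCore_le_sylow S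
  -- odd from even
  have hodd_of_even : ∀ m : ℕ, seqIn (S : Subgroup G) (2 * m) ≤ seqIn T (2 * m) →
      seqIn T (2 * m + 1) ≤ seqIn (S : Subgroup G) (2 * m + 1) := by
    intro m hm
    rw [seqIn_succ T, seqIn_succ (S : Subgroup G)]
    exact (stepIn_antitone hm).trans (stepIn_mono_left _ hTS)
  induction n with
  | zero => exact ⟨bot_le, hodd_of_even 0 bot_le⟩
  | succ n ih =>
    have h1 : seqIn (S : Subgroup G) (2 * (n + 1)) ≤ seqIn T (2 * (n + 1)) := by
      have e : 2 * (n + 1) = (2 * n + 1) + 1 := by ring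
      rw [e, seqIn_succ (S : Subgroup G), seqIn_succ T]
      set P := seqIn T (2 * n + 1) with hP
      have hPn : P.Normal := seqIn_normal T (2 * n + 1)
      have hPp : IsPGroup p P := hTp.to_le (seqIn_le T _)
      set 𝒮 : Set (Subgroup G) := {A : Subgroup G | A ≤ (S : Subgroup G) ∧ IsMulCommutative A ∧
        seqIn (S : Subgroup G) (2 * n + 1) ≤ Subgroup.normalizer (A : Set G)} with h𝒮
      have hS : ∀ B ∈ 𝒮, IsMulCommutative B ∧ IsPGroup p B ∧
          P ≤ Subgroup.normalizer (B : Set G) := by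
        rintro B ⟨hBS, hBc, hBn⟩
        exact ⟨hBc, S.2.to_le hBS, ih.2.trans hBn⟩
      have hcent : Cfsg.pCore p G ⊓ Subgroup.centralizer (P : Set G) ≤ P :=
        inf_centralizer_seqIn_le T hTp (2 * n)
      have hmain := (Cfsg.Agent.S1465.result hodd p hp P hPp 𝒮 hS).2 hO hcent
      show sSup 𝒮 ≤ stepIn T P
      apply sSup_le
      rintro A hA
      have hAT : A ≤ T := (le_sSup hA).trans hmain
      exact le_stepIn hAT hA.2.1 (ih.2.trans hA.2.2)
    exact ⟨h1, hodd_of_even (n + 1) h1⟩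

/-- **B&G Theorem B.2** inside `G`. -/
theorem puig_sandwich (hodd : Odd (Nat.card G)) (p : ℕ) [Fact p.Prime] (hp : p ≠ 2)
    (hO : Cfsg.pPrimeCore p G = ⊥) (S : Sylow p G) :
    lowerIn (S : Subgroup G) ≤ lowerIn (Cfsg.pCore p G) ∧
      lowerIn (Cfsg.pCore p G) ≤ upperIn (Cfsg.pCore p G) ∧
      upperIn (Cfsg.pCore p G) ≤ upperIn (S : Subgroup G) := by
  obtain ⟨k1, hk1⟩ := exists_stable (S : Subgroup G)
  obtain ⟨k2, hk2⟩ := exists_stable (Cfsg.pCore p G)
  set k := max k1 k2 with hk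
  have hkS := hk1 k (le_max_left _ _)
  have hkT := hk2 k (le_max_right _ _)
  have h := seqIn_sandwich hodd p hp hO S k
  refine ⟨?_, lowerIn_le_upperIn _, ?_⟩
  · rw [← hkS.1, ← hkT.1]; exact h.1
  · rw [← hkS.2, ← hkT.2]; exact h.2

end Cfsg.Agent.Lib.Helper1.Puig
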