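import Mathlib
import Cfsg.Agent.Lib.Helper1.PuigB2
import Cfsg.Agent.Lib.Helper11.ZJ
import Cfsg.Agent.Lib.Helper54.PConstr3
import Cfsg.Agent.Lib.Helper55.Cores

set_option autoImplicit false

/-!
# B&G Theorem B.3 (Puig): `Z(L(S)) ⊴ G` when `O_{p'}(G) = 1`, and `G = O_{p'}(G) N_G(Z(L(S)))`.
-/

namespace Cfsg.Agent.Lib.Helper1.Puig

open Cfsg Cfsg.Agent.Lib.Helper22

variable {G : Type*} [Group G]

/-- `Z(L)` as `L ⊓ C_G(L)` -/
def centerIn (L : Subgroup G) : Subgroup G := L ⊓ Subgroup.centralizer (L : Set G)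

theorem centerIn_comm (L : Subgroup G) : IsMulCommutative (centerIn L) := by
  refine ⟨⟨fun a b => ?_⟩⟩
  apply Subtype.ext
  exact ((Subgroup.mem_centralizer_iff.mp a.2.2) (b : G) b.2.1).symm

theorem conj_mem_centerIn {L : Subgroup G} {g x : G}
    (hg : g ∈ Subgroup.normalizer (L : Set G)) (hx : x ∈ centerIn L) :
    g * x * g⁻¹ ∈ centerIn L := by
  have hg' := Subgroup.mem_normalizer_iff.mp hg
  have hgi := Subgroup.mem_normalizer_iff.mp (inv_mem hg)
  refine ⟨(hg' x).mp hx.1, ?_⟩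
  show g * x * g⁻¹ ∈ Subgroup.centralizer (L : Set G)
  rw [Subgroup.mem_centralizer_iff]
  intro u hu
  have hu' : g⁻¹ * u * g ∈ L := by
    have := (hgi u).mp hu
    simpa using this
  have h1 := (Subgroup.mem_centralizer_iff.mp hx.2) _ hu'
  calc u * (g * x * g⁻¹) = g * ((g⁻¹ * u * g) * x) * g⁻¹ := by group
    _ = g * (x * (g⁻¹ * u * g)) * g⁻¹ := by rw [h1]
    _ = g * x * g⁻¹ * u := by group

theorem normalizer_le_normalizer_centerIn (L : Subgroup G) :
    Subgroup.normalizer (L : Set G) ≤ Subgroup.normalizer (centerIn L : Set G) := by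
  intro g hg
  rw [Subgroup.mem_normalizer_iff]
  intro x
  constructor
  · exact conj_mem_centerIn hg
  · intro hx
    have := conj_mem_centerIn (inv_mem hg) hx
    have e : g⁻¹ * (g * x * g⁻¹) * g⁻¹⁻¹ = x := by group
    rwa [e] at this

/-- the statement's `Z(L(S))` is `centerIn (upperIn S)` -/
theorem map_center_eq (S : Subgroup G) :
    ((Subgroup.center ↥(Cfsg.puigSubgroup ↥S)).map (Cfsg.puigSubgroup ↥S).subtype).map S.subtype =
      centerIn (upperIn S) := by
  ext x
  constructor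
  · rintro ⟨_, ⟨z, hz, rfl⟩, rfl⟩
    refine ⟨⟨(z : S), z.2, rfl⟩, ?_⟩
    show ((z : S) : G) ∈ Subgroup.centralizer (upperIn S : Set G)
    rw [Subgroup.mem_centralizer_iff]
    rintro _ ⟨w, hw, rfl⟩
    have := Subgroup.mem_center_iff.mp hz ⟨w, hw⟩
    have h2 : (w : S) * (z : S) = (z : S) * (w : S) := congrArg Subtype.val this
    exact congrArg Subtype.val h2
  · rintro ⟨⟨w, hw, rfl⟩, hc⟩
    refine ⟨w, ⟨⟨w, hw⟩, ?_, rfl⟩, rfl⟩
    have hc' : (w : G) ∈ Subgroup.centralizer (upperIn S : Set G) := hc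
    show (⟨w, hw⟩ : Cfsg.puigSubgroup ↥S) ∈ Subgroup.center ↥(Cfsg.puigSubgroup ↥S)
    rw [Subgroup.mem_center_iff]
    intro v
    apply Subtype.ext
    apply Subtype.ext
    exact (Subgroup.mem_centralizer_iff.mp hc') ((v : S) : G) ⟨(v : S), v.2, rfl⟩

variable [Finite G] [Group.IsSolvable G]

/-- **B&G Theorem B.3**, main case. -/
theorem centerIn_upperIn_normal (hodd : Odd (Nat.card G)) (p : ℕ) [Fact p.Prime] (hp : p ≠ 2)
    (hO : Cfsg.pPrimeCore p G = ⊥) (S : Sylow p G) :
    (centerIn (upperIn (S : Subgroup G))).Normal := by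
  set T := Cfsg.pCore p G with hT
  have hTn : T.Normal := pCore_normal' p G
  have hTp : IsPGroup p T := pCore_isPGroup' p G
  have hTS : T ≤ (S : Subgroup G) := Cfsg.Agent.Lib.Helper84.pCore_le_sylow S
  obtain ⟨hMM, -, hLL⟩ := puig_sandwich hodd p hp hO S
  set LS := upperIn (S : Subgroup G) with hLS
  set MS := lowerIn (S : Subgroup G) with hMS
  set LT := upperIn T with hLT
  set ZS := centerIn LS with hZS
  have hLTn : LT.Normal := by
    rw [← Subgroup.normalizer_eq_top_iff, eq_top_iff]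
    refine le_trans ?_ (normalizer_le_normalizer_upperIn T)
    rw [Subgroup.normalizer_eq_top_iff.mpr hTn]
  -- the abelian normal subgroup `Z' = Z(L(T))`
  set Z' : Subgroup G := T ⊓ Subgroup.centralizer (LT : Set G) with hZ'
  have hZ'n : Z'.Normal := Subgroup.normal_inf_normal T _
  have hZ'LT : Z' ≤ LT := by
    obtain ⟨k, hk⟩ := exists_stable T
    have := inf_centralizer_seqIn_le T hTp (2 * k)
    rw [(hk k le_rfl).2] at this
    exact this
  have hZ'c : IsMulCommutative Z' := by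
    refine ⟨⟨fun a b => ?_⟩⟩
    apply Subtype.ext
    exact ((Subgroup.mem_centralizer_iff.mp a.2.2) (b : G) (hZ'LT b.2)).symm
  have hZ'p : IsPGroup p Z' := hTp.to_le inf_le_left
  have hSN : (S : Subgroup G) ≤ Subgroup.normalizer (LS : Set G) :=
    Subgroup.le_normalizer.trans (normalizer_le_normalizer_upperIn _)
  have hZSMS : ZS ≤ MS := by
    rw [hMS, ← stepIn_upperIn]
    apply le_stepIn (inf_le_left.trans (upperIn_le _)) (centerIn_comm _)
    exact Subgroup.le_normalizer.trans (normalizer_le_normalizer_centerIn _)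
  have hZSZ' : ZS ≤ Z' := by
    refine le_inf ((hZSMS.trans hMM).trans (lowerIn_le _)) ?_
    exact inf_le_right.trans (Subgroup.centralizer_le hLL)
  have hZ'MS : Z' ≤ MS := by
    rw [hMS, ← stepIn_upperIn]
    apply le_stepIn (inf_le_left.trans hTS) hZ'c
    rw [Subgroup.normalizer_eq_top_iff.mpr hZ'n]
    exact le_top
  set K := Subgroup.centralizer (Z' : Set G) with hK
  have hKn : K.Normal := Subgroup.normal_centralizer
  set 𝒮 : Set (Subgroup G) := {A : Subgroup G | A ≤ (S : Subgroup G) ∧ IsMulCommutative A ∧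
    MS ≤ Subgroup.normalizer (A : Set G)} with h𝒮
  have hS : ∀ B ∈ 𝒮, IsMulCommutative B ∧ IsPGroup p B ∧
      Z' ≤ Subgroup.normalizer (B : Set G) := by
    rintro B ⟨hBS, hBc, hBn⟩
    exact ⟨hBc, S.2.to_le hBS, hZ'MS.trans hBn⟩
  have hmain := (Cfsg.Agent.S1465.result hodd p hp Z' hZ'p 𝒮 hS).1
  have hsup : sSup 𝒮 = LS := stepIn_lowerIn (S : Subgroup G)
  rw [hsup] at hmain
  set Q := (Cfsg.pCore p (G ⧸ K)).comap (QuotientGroup.mk' K) with hQ
  have hQn : Q.Normal := Subgroup.Normal.comap (pCore_normal' p _) _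
  have hLSQ : LS ≤ Q := by
    rw [hQ, ← Subgroup.map_le_iff_le_comap]
    exact hmain
  set H := (S : Subgroup G) ⊓ Q with hH
  have hLH : upperIn H = LS := (upperIn_eq_of_le inf_le_left (le_inf (upperIn_le _) hLSQ)).1
  -- every element normalizes `ZS`
  have hNH : Subgroup.normalizer (H : Set G) ≤ Subgroup.normalizer (ZS : Set G) := by
    refine (normalizer_le_normalizer_upperIn H).trans ?_
    rw [hLH]
    exact normalizer_le_normalizer_centerIn _
  have hKZ : K ≤ Subgroup.normalizer (ZS : Set G) :=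
    (Subgroup.centralizer_le hZSZ').trans (Subgroup.centralizer_le_normalizer _)
  have hSZ : (S : Subgroup G) ≤ Subgroup.normalizer (ZS : Set G) :=
    hSN.trans (normalizer_le_normalizer_centerIn _)
  have hQZ : Q ≤ Subgroup.normalizer (ZS : Set G) := by
    intro q hq
    obtain ⟨s, hs, hsq⟩ :=
      Cfsg.Agent.Lib.Helper11.exists_sylow_mul_of_mem_pCore_quotient S K (l := q) hq
    have e : q = s * (s⁻¹ * q) := by group
    rw [e]
    exact mul_mem (hSZ hs) (hKZ hsq)
  have hfr := Cfsg.Agent.Lib.Helper11.frattini_inf S Q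
  rw [← Subgroup.normalizer_eq_top_iff, eq_top_iff, ← hfr]
  exact sup_le hNH hQZ

omit [Group.IsSolvable G] in
/-- transport of `L(S)` along a homomorphism injective on `S` -/
theorem map_upperIn {G' : Type*} [Group G'] [Finite G'] (f : G →* G') (S : Subgroup G)
    (hinj : ∀ x ∈ S, f x = 1 → x = 1) : (upperIn S).map f = upperIn (S.map f) := by
  obtain ⟨k1, hk1⟩ := exists_stable S
  obtain ⟨k2, hk2⟩ := exists_stable (S.map f)
  set k := max k1 k2 with hk
  rw [← (hk1 k (le_max_left _ _)).2, ← (hk2 k (le_max_right _ _)).2]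
  exact map_seqIn f S hinj _

omit [Finite G] [Group.IsSolvable G] in
theorem map_centerIn {G' : Type*} [Group G'] (f : G →* G') (S L : Subgroup G) (hLS : L ≤ S)
    (hinj : ∀ x ∈ S, f x = 1 → x = 1) : (centerIn L).map f = centerIn (L.map f) := by
  apply le_antisymm
  · rintro _ ⟨z, hz, rfl⟩
    refine ⟨Subgroup.mem_map_of_mem f hz.1, ?_⟩
    show f z ∈ Subgroup.centralizer ((L.map f : Subgroup G') : Set G')
    rw [Subgroup.mem_centralizer_iff]
    rintro _ ⟨u, hu, rfl⟩
    rw [← map_mul, ← map_mul, (Subgroup.mem_centralizer_iff.mp hz.2) u hu]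
  · rintro _ ⟨⟨z, hz, rfl⟩, hc⟩
    have hc' : f z ∈ Subgroup.centralizer ((L.map f : Subgroup G') : Set G') := hc
    refine ⟨z, ⟨hz, ?_⟩, rfl⟩
    show z ∈ Subgroup.centralizer (L : Set G)
    rw [Subgroup.mem_centralizer_iff]
    intro u hu
    have h1 : f u * f z = f z * f u :=
      (Subgroup.mem_centralizer_iff.mp hc') (f u) (Subgroup.mem_map_of_mem f hu)
    have h2 : f (u * z * (z * u)⁻¹) = 1 := by
      rw [map_mul, map_inv, map_mul, map_mul, h1, mul_inv_cancel]
    have h3 : u * z * (z * u)⁻¹ ∈ S :=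
      S.mul_mem (S.mul_mem (hLS hu) (hLS hz)) (S.inv_mem (S.mul_mem (hLS hz) (hLS hu)))
    exact mul_inv_eq_one.mp (hinj _ h3 h2)

/-- **B&G Theorem B.3**, factorization. -/
theorem pPrimeCore_sup_normalizer_centerIn (hodd : Odd (Nat.card G)) (p : ℕ) [Fact p.Prime]
    (hp : p ≠ 2) (S : Sylow p G) :
    Cfsg.pPrimeCore p G ⊔
      Subgroup.normalizer (centerIn (upperIn (S : Subgroup G)) : Set G) = ⊤ := by
  set O := Cfsg.pPrimeCore p G with hO
  have hOn : O.Normal := pPrimeCore_normal' p G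
  set π := QuotientGroup.mk' O with hπ
  have hπs : Function.Surjective π := QuotientGroup.mk'_surjective O
  have hkerO : π.ker = O := QuotientGroup.ker_mk' O
  have hOc : (Nat.card O).Coprime p := Cfsg.Agent.Lib.Helper55.pPrimeCore_card_coprime p
  have hker : (Nat.card π.ker).Coprime p := by rw [hkerO]; exact hOc
  have hObar : Cfsg.pPrimeCore p (G ⧸ O) = ⊥ :=
    Cfsg.Agent.Lib.Helper55.pPrimeCore_quotient_eq_bot p
  have hoddbar : Odd (Nat.card (G ⧸ O)) := by
    have hdvd : Nat.card (G ⧸ O) ∣ Nat.card G := by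
      rw [← Subgroup.index_eq_card]
      exact Subgroup.index_dvd_card O
    exact Odd.of_dvd_nat hodd hdvd
  -- `π` is injective on `S`
  have hinj : ∀ x ∈ (S : Subgroup G), π x = 1 → x = 1 := by
    intro x hx hx1
    have hxO : x ∈ O := by rw [← hkerO]; exact hx1
    obtain ⟨n, hn⟩ := IsPGroup.iff_card.mp S.2
    have hcop : (Nat.card (S : Subgroup G)).Coprime (Nat.card O) := by
      rw [hn]
      exact Nat.Coprime.pow_left n hOc.symm
    have hbot := (Subgroup.disjoint_of_coprime_natCard hcop).eq_bot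
    have : x ∈ (S : Subgroup G) ⊓ O := ⟨hx, hxO⟩
    rw [hbot, Subgroup.mem_bot] at this
    exact this
  set ZS := centerIn (upperIn (S : Subgroup G)) with hZS
  have hZSp : IsPGroup p ZS := S.2.to_le (inf_le_left.trans (upperIn_le _))
  have hbarn := centerIn_upperIn_normal hoddbar p hp hObar (S.mapSurjective hπs)
  rw [Sylow.coe_mapSurjective, ← map_upperIn π _ hinj,
    ← map_centerIn π (S : Subgroup G) _ (upperIn_le _) hinj] at hbarn
  rw [eq_top_iff]
  intro g _
  have hg : π g ∈ Subgroup.normalizer ((ZS.map π : Subgroup (G ⧸ O)) : Set (G ⧸ O)) := by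
    rw [Subgroup.normalizer_eq_top_iff.mpr hbarn]
    exact Subgroup.mem_top _
  obtain ⟨n, hn, hng⟩ :=
    Cfsg.Agent.Lib.Helper54.exists_mem_normalizer_map_eq p π hπs hker ZS hZSp (π g) hg
  have h1 : g * n⁻¹ ∈ O := by
    rw [← hkerO, MonoidHom.mem_ker, map_mul, map_inv, hng, mul_inv_cancel]
  have e : g = (g * n⁻¹) * n := by group
  rw [e]
  exact Subgroup.mul_mem_sup h1 hn

end Cfsg.Agent.Lib.Helper1.Puig
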