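import Mathlib

set_option autoImplicit false

namespace Cfsg.Agent.Lib.Helper1

open Subgroup QuaternionGroup

section Quat
variable {n : ℕ}

theorem zmod_two_mul_add_self_eq_zero [NeZero n] (j : ZMod (2 * n)) (h : j + j = 0) :
    j = 0 ∨ j = (n : ZMod (2 * n)) := by
  have hn : 0 < n := Nat.pos_of_ne_zero (NeZero.ne n)
  have h1 : ((j.val + j.val : ℕ) : ZMod (2 * n)) = 0 := by
    rw [Nat.cast_add, ZMod.natCast_zmod_val]; exact h
  rw [ZMod.natCast_eq_zero_iff] at h1
  have h2 : j.val < 2 * n := ZMod.val_lt j
  obtain ⟨c, hc⟩ := h1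
  have h3 : j.val = n * c := by nlinarith
  have hc2 : c < 2 := by nlinarith
  interval_cases c
  · left
    have : j.val = 0 := by simpa using h3
    exact (ZMod.val_eq_zero j).mp this
  · right
    have : j.val = n := by simpa using h3
    have e := ZMod.natCast_zmod_val j
    rw [this] at e
    exact e.symm

/-- centraliser of a non-central `a i` consists of rotations -/
theorem centralizer_a_le [NeZero n] (i : ZMod (2 * n)) (hi : i + i ≠ 0) :
    centralizer ({a i} : Set (QuaternionGroup n)) ≤ zpowers (a 1) := by
  intro g hg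
  rw [mem_centralizer_iff] at hg
  have hg' := hg (a i) (Set.mem_singleton _)
  cases g with
  | a j =>
    rw [mem_zpowers_iff]
    refine ⟨(j.val : ℤ), ?_⟩
    rw [zpow_natCast, a_one_pow, ZMod.natCast_zmod_val]
  | xa j =>
    exfalso
    rw [a_mul_xa, xa_mul_a] at hg'
    have h1 : j - i = j + i := by
      injection hg'
    apply hi
    have : i + i = (j + i) - (j - i) := by ring
    rw [this, h1, sub_self]

theorem centralizer_xa_le [NeZero n] (i : ZMod (2 * n)) :
    centralizer ({xa i} : Set (QuaternionGroup n)) ≤ zpowers (xa i) := by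
  intro g hg
  rw [mem_centralizer_iff] at hg
  have hg' := hg (xa i) (Set.mem_singleton _)
  have h2 : (xa i : QuaternionGroup n) ^ 2 = a n := xa_sq i
  have h3 : (xa i : QuaternionGroup n) ^ 3 = xa (i + (n : ZMod (2 * n))) := by
    rw [pow_succ, h2, a_mul_xa]
    congr 1
    have : ((n : ZMod (2 * n)) + n) = 0 := by
      have : ((2 * n : ℕ) : ZMod (2 * n)) = 0 := ZMod.natCast_self (2 * n)
      rw [← this]; push_cast; ring
    calc i - (n : ZMod (2 * n)) = i - n + 0 := by ring
      _ = i - n + ((n : ZMod (2 * n)) + n) := by rw [this]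
      _ = i + (n : ZMod (2 * n)) := by ring
  cases g with
  | a j =>
    rw [xa_mul_a, a_mul_xa] at hg'
    have h1 : i + j = i - j := by injection hg'
    have h4 : j + j = 0 := by
      have : j + j = (i + j) - (i - j) := by ring
      rw [this, h1, sub_self]
    rcases zmod_two_mul_add_self_eq_zero j h4 with rfl | rfl
    · rw [a_zero]; exact one_mem _
    · rw [← h2]; exact pow_mem (mem_zpowers _) 2
  | xa j =>
    rw [xa_mul_xa, xa_mul_xa] at hg'
    have h1 : (n : ZMod (2 * n)) + j - i = n + i - j := by injection hg'
    have h4 : (j - i) + (j - i) = 0 := by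
      have : (j - i) + (j - i) = ((n : ZMod (2 * n)) + j - i) - (n + i - j) := by ring
      rw [this, h1, sub_self]
    rcases zmod_two_mul_add_self_eq_zero (j - i) h4 with h | h
    · have : j = i := by rw [← sub_eq_zero]; exact h
      rw [this]; exact mem_zpowers _
    · have : j = i + (n : ZMod (2 * n)) := by rw [← h]; ring
      rw [this, ← h3]; exact pow_mem (mem_zpowers _) 3

theorem a_mem_center [NeZero n] (i : ZMod (2 * n)) (hi : i + i = 0) :
    (a i : QuaternionGroup n) ∈ center (QuaternionGroup n) := by
  rw [mem_center_iff]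
  intro g
  cases g with
  | a j => rw [a_mul_a, a_mul_a, add_comm]
  | xa j =>
    rw [a_mul_xa, xa_mul_a]
    congr 1
    have : j + i = j - i + (i + i) := by ring
    rw [this, hi, add_zero]

/-- In a generalised quaternion group every non-central element has cyclic centraliser. -/
theorem isCyclic_centralizer_quaternion [NeZero n] (q : QuaternionGroup n)
    (hq : q ∉ center (QuaternionGroup n)) :
    IsCyclic (centralizer ({q} : Set (QuaternionGroup n))) := by
  cases q with
  | a i =>
    have hi : i + i ≠ 0 := fun h => hq (a_mem_center i h)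
    exact Subgroup.isCyclic_of_le (centralizer_a_le i hi)
  | xa i => exact Subgroup.isCyclic_of_le (centralizer_xa_le i)

end Quat

end Cfsg.Agent.Lib.Helper1
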