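import Cfsg.Agent.Lib.Helper38.RhDefsB
import Cfsg.Agent.Lib.Helper18.RhPTS

/-!
# Rh hive (helper38), Part B: leaf RH-FIX2 `conj_h_of_two_le` (helper1)

An element of the small Ree group fixing two of the `q³ + 1` points is conjugate into the torus `H`.
`fix2_core` takes the statement of RH-PTS `points` as a hypothesis.
-/

set_option autoImplicit false

namespace Cfsg.Agent.Lib.Helper38.Rh

open Cfsg.Agent.Lib.Helper12.Rt

section partB
variable {K : Type*} [Field K] [Fintype K] {G : Type*} [Group G] {m : ℕ} (D : RtData K G m)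

include D

/-- `g` fixes the point `x B` iff `x⁻¹ g x ∈ B` -/
theorem fix2_smul_mk (g x : G) :
    g • ((x : G) : G ⧸ D.R.B) = ((x : G) : G ⧸ D.R.B) ↔ x⁻¹ * g * x ∈ D.R.B := by
  rw [MulAction.Quotient.smul_mk, QuotientGroup.eq, smul_eq_mul]
  constructor
  · intro h
    have := inv_mem h
    have e : ((g * x)⁻¹ * x)⁻¹ = x⁻¹ * g * x := by group
    rwa [e] at this
  · intro h
    have := inv_mem h
    have e : (x⁻¹ * g * x)⁻¹ = (g * x)⁻¹ * x := by group
    rwa [e] at this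

/-- RH-FIX2 with the statement of RH-PTS `points` as a hypothesis -/
theorem fix2_core
    (hpts : ∀ c : G ⧸ D.R.B,
      c = ((1 : G) : G ⧸ D.R.B) ∨ ∃ p : K × K × K, c = ((D.R.u p * D.R.n : G) : G ⧸ D.R.B))
    (g : G) (hg : 2 ≤ fixN D g) : ∃ (c : G) (s : Kˣ), c * g * c⁻¹ = D.R.h s := by
  unfold fixN at hg
  haveI : Finite {c : G ⧸ D.R.B // g • c = c} := Nat.finite_of_card_ne_zero (by omega)
  haveI : Nontrivial {c : G ⧸ D.R.B // g • c = c} := Finite.one_lt_card_iff_nontrivial.1 (by omega)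
  obtain ⟨⟨c1, h1⟩, ⟨c2, h2⟩, hne⟩ := exists_pair_ne {c : G ⧸ D.R.B // g • c = c}
  have hne' : c1 ≠ c2 := fun h => hne (Subtype.ext h)
  obtain ⟨x, rfl⟩ := QuotientGroup.mk_surjective c1
  obtain ⟨y, rfl⟩ := QuotientGroup.mk_surjective c2
  rw [fix2_smul_mk] at h1 h2
  have hxy : x⁻¹ * y ∉ D.R.B := by
    intro h
    apply hne'
    rw [QuotientGroup.eq]
    exact h
  have hc' : ((x⁻¹ * y : G) : G ⧸ D.R.B) ≠ ((1 : G) : G ⧸ D.R.B) := by
    intro h
    apply hxy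
    have := (QuotientGroup.eq (s := D.R.B)).1 h.symm
    simpa using this
  rcases hpts ((x⁻¹ * y : G) : G ⧸ D.R.B) with h | ⟨p, hp⟩
  · exact absurd h hc'
  · -- `x⁻¹ y = u p n b` with `b ∈ B`
    have hb : (D.R.u p * D.R.n)⁻¹ * (x⁻¹ * y) ∈ D.R.B := (QuotientGroup.eq (s := D.R.B)).1 hp.symm
    set b := (D.R.u p * D.R.n)⁻¹ * (x⁻¹ * y) with hbdef
    have hy : y = x * D.R.u p * D.R.n * b := by rw [hbdef]; group
    have hu : D.R.u p ∈ D.R.B := D.R.u_mem_B p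
    -- the conjugate `w = (x u)⁻¹ g (x u)`
    have hw1 : (x * D.R.u p)⁻¹ * g * (x * D.R.u p) ∈ D.R.B := by
      have e : (x * D.R.u p)⁻¹ * g * (x * D.R.u p) = (D.R.u p)⁻¹ * (x⁻¹ * g * x) * D.R.u p := by group
      rw [e]
      exact mul_mem (mul_mem (inv_mem hu) h1) hu
    have hw2 : D.R.n⁻¹ * ((x * D.R.u p)⁻¹ * g * (x * D.R.u p)) * D.R.n ∈ D.R.B := by
      have e : D.R.n⁻¹ * ((x * D.R.u p)⁻¹ * g * (x * D.R.u p)) * D.R.n = b * (y⁻¹ * g * y) * b⁻¹ := by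
        rw [hy]; group
      rw [e]
      exact mul_mem (mul_mem hb h2) (inv_mem hb)
    obtain ⟨s, hs⟩ := D.R.B_inter _ hw1 hw2
    refine ⟨(x * D.R.u p)⁻¹, s, ?_⟩
    rw [inv_inv]
    exact hs

/-- RH-FIX2.  An element fixing two points is conjugate into the torus `H`. -/
theorem conj_h_of_two_le (g : G) (hg : 2 ≤ fixN D g) : ∃ (c : G) (s : Kˣ), c * g * c⁻¹ = D.R.h s :=
  fix2_core D (points D) g hg

end partB

end Cfsg.Agent.Lib.Helper38.Rh
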