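import Mathlib
import Cfsg.Agent.Lib.Helper29.SmallTwoA

/-!
Leaf lemmas (chi) and (A2) for helper29's S4409: the centralizer of a normal subgroup of order 4
of a 2-group has index dividing 2; a 2-group of exponent 4 without noncyclic abelian subgroups of
order 8 has order at most 8.
-/

set_option autoImplicit false

namespace Cfsg.Agent.Lib.Helper29.SmallTwo

open scoped commutatorElement

/-- the centralizer of a normal subgroup of order `4` of a finite `2`-group has index dividing `2` -/
theorem chi {P : Type*} [Group P] [Finite P] (hP : IsPGroup 2 P) (C : Subgroup P) [C.Normal]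
    (hC : Nat.card C = 4) : (Subgroup.centralizer (C : Set P)).index ∣ 2 := by
  have : Fact (Nat.Prime 2) := ⟨Nat.prime_two⟩
  have hC1 : C ≠ ⊥ := by
    intro h
    rw [h, Subgroup.card_bot] at hC
    omega
  obtain ⟨M, hMn, hMC, hMi⟩ := Cfsg.Agent.Lib.Helper29.exists_normal_relIndex_prime hP C hC1
  have hM2 : Nat.card M = 2 := by
    have := card_mul_relIndex hMC.le
    rw [hMi, hC] at this
    omega
  -- the nonidentity element z of M
  have hMne : M ≠ ⊥ := by
    intro h
    rw [h, Subgroup.card_bot] at hM2
    omega
  obtain ⟨⟨z, hzM⟩, hz1'⟩ := (Subgroup.ne_bot_iff_exists_ne_one (H := M)).1 hMne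
  have hz1 : z ≠ 1 := fun h => hz1' (Subtype.ext h)
  have hzo : orderOf z = 2 := by
    have h1 : orderOf (⟨z, hzM⟩ : M) ∣ 2 := by
      rw [← hM2]; exact orderOf_dvd_natCard _
    have h2 : orderOf z ∣ 2 := by
      rwa [Subgroup.orderOf_mk] at h1
    rcases (Nat.dvd_prime Nat.prime_two).1 h2 with h | h
    · exact absurd (orderOf_eq_one_iff.1 h) hz1
    · exact h
  have hzz0 : z * z = 1 := by
    have := pow_orderOf_eq_one z
    rwa [hzo, pow_two] at this
  have hMz : Subgroup.zpowers z = M := by
    apply Subgroup.eq_of_le_of_card_ge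
    · rw [Subgroup.zpowers_le]; exact hzM
    · rw [Nat.card_zpowers, hzo, hM2]
  have hMelts : ∀ x ∈ M, x = 1 ∨ x = z := by
    intro x hx
    rw [← hMz] at hx
    exact Cfsg.Agent.Lib.Helper29.mem_zpowers_of_sq hzz0 x hx
  have hzz : z * z = 1 := by
    rcases hMelts (z * z) (M.mul_mem hzM hzM) with h | h
    · exact h
    · exfalso
      apply hz1
      have : z * z = z * 1 := by rw [h, mul_one]
      exact mul_left_cancel this
  have hzc : ∀ g : P, g * z * g⁻¹ = z := by
    intro g
    rcases hMelts _ (hMn.conj_mem z hzM g) with h | h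
    · exfalso
      apply hz1
      have : g * z = g := by
        have := congrArg (· * g) h
        simpa using this
      exact mul_left_cancel (a := g) (by rw [this, mul_one])
    · exact h
  have hzcomm : ∀ g : P, g * z = z * g := by
    intro g
    have := congrArg (· * g) (hzc g)
    simpa using this
  -- an element c of C outside M
  obtain ⟨c, hcC, hcM⟩ := SetLike.exists_of_lt hMC
  -- C = M ∪ cM
  have hCelts : ∀ x ∈ C, x ∈ M ∨ c⁻¹ * x ∈ M := by
    intro x hx
    by_contra hcon
    push Not at hcon
    -- relIndex 2
    have h2 : (M.subgroupOf C).index = 2 := hMi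
    rw [Subgroup.index_eq_two_iff] at h2
    obtain ⟨a, ha⟩ := h2
    have hx' := ha ⟨x, hx⟩
    have hc' := ha ⟨c, hcC⟩
    have h1' := ha 1
    simp only [Subgroup.mem_subgroupOf, Subgroup.coe_mul, Subgroup.coe_one, one_mul] at hx' hc' h1'
    have hone : (1 : P) ∈ M := M.one_mem
    have haM : (a : P) ∉ M := by
      intro h
      rcases h1' with ⟨h1, h2⟩ | ⟨h1, h2⟩
      · exact h2 hone
      · exact h2 h
    have hxa : x * (a : P) ∈ M := by
      rcases hx' with ⟨h1, _⟩ | ⟨h1, _⟩
      · exact h1
      · exact absurd h1 hcon.1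
    have hca : c * (a : P) ∈ M := by
      rcases hc' with ⟨h1, _⟩ | ⟨h1, _⟩
      · exact h1
      · exact absurd h1 hcM
    apply hcon.2
    have h5 : x * c⁻¹ ∈ M := by
      have : x * c⁻¹ = (x * (a : P)) * (c * (a : P))⁻¹ := by group
      rw [this]
      exact M.mul_mem hxa (M.inv_mem hca)
    have := hMn.conj_mem _ h5 c⁻¹
    simpa [mul_assoc] using this
  -- conjugates of c
  have hconj : ∀ g : P, g * c * g⁻¹ = c ∨ g * c * g⁻¹ = c * z := by
    intro g
    have hgc : g * c * g⁻¹ ∈ C := ‹C.Normal›.conj_mem c hcC g
    rcases hCelts _ hgc with h | h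
    · exfalso
      apply hcM
      have := hMn.conj_mem _ h g⁻¹
      simpa [mul_assoc] using this
    · rcases hMelts _ h with h1 | h1
      · left
        have := congrArg (c * ·) h1
        simpa [mul_assoc] using this
      · right
        have := congrArg (c * ·) h1
        simpa [mul_assoc] using this
  -- the centralizer of C is the centralizer of c
  have hcent : ∀ g : P, g ∈ Subgroup.centralizer (C : Set P) ↔ g * c * g⁻¹ = c := by
    intro g
    constructor
    · intro hg
      have := hg c hcC
      rw [← this]
      group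
    · intro hg x hx
      have hgc : g * c = c * g := by
        have := congrArg (· * g) hg
        simpa using this
      rcases hCelts x hx with h | h
      · rcases hMelts x h with rfl | rfl
        · simp
        · exact (hzcomm g).symm
      · rcases hMelts _ h with h1 | h1
        · have hxc : x = c := by
            have := congrArg (c * ·) h1
            simpa [mul_assoc] using this
          rw [hxc]
          exact hgc.symm
        · have hxc : x = c * z := by
            have := congrArg (c * ·) h1
            simpa [mul_assoc] using this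
          rw [hxc, mul_assoc, ← hzcomm g, ← mul_assoc, ← hgc, mul_assoc]
  set K := Subgroup.centralizer (C : Set P) with hK
  by_cases htop : K = ⊤
  · rw [htop, Subgroup.index_top]
    exact one_dvd 2
  · have hex : ∃ a : P, a ∉ K := by
      by_contra h
      push Not at h
      exact htop (eq_top_iff.2 fun x _ => h x)
    obtain ⟨a, ha⟩ := hex
    have haz : a * c * a⁻¹ = c * z := by
      rcases hconj a with h | h
      · exact absurd ((hcent a).2 h) ha
      · exact h
    have h2 : K.index = 2 := by
      rw [Subgroup.index_eq_two_iff]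
      refine ⟨a, fun b => ?_⟩
      by_cases hb : b ∈ K
      · right
        refine ⟨hb, fun hba => ha ?_⟩
        have := K.mul_mem (K.inv_mem hb) hba
        simpa using this
      · left
        refine ⟨?_, hb⟩
        rw [hcent]
        have hbz : b * c * b⁻¹ = c * z := by
          rcases hconj b with h | h
          · exact absurd ((hcent b).2 h) hb
          · exact h
        calc b * a * c * (b * a)⁻¹ = b * (a * c * a⁻¹) * b⁻¹ := by group
          _ = b * (c * z) * b⁻¹ := by rw [haz]
          _ = (b * c * b⁻¹) * (b * z * b⁻¹) := by group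
          _ = c * z * z := by rw [hbz, hzc]
          _ = c := by rw [mul_assoc, hzz, mul_one]
    rw [h2]

/-- a normal subgroup of order `2` is central -/
theorem chi_central_of_card_two {P : Type*} [Group P] [Finite P] (M : Subgroup P) [hMn : M.Normal]
    (hM2 : Nat.card M = 2) : ∀ x ∈ M, ∀ g : P, g * x = x * g := by
  have hMne : M ≠ ⊥ := by
    intro h
    rw [h, Subgroup.card_bot] at hM2
    omega
  obtain ⟨⟨z, hzM⟩, hz1'⟩ := (Subgroup.ne_bot_iff_exists_ne_one (H := M)).1 hMne
  have hz1 : z ≠ 1 := fun h => hz1' (Subtype.ext h)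
  have hzo : orderOf z = 2 := by
    have h1 : orderOf (⟨z, hzM⟩ : M) ∣ 2 := by
      rw [← hM2]; exact orderOf_dvd_natCard _
    have h2 : orderOf z ∣ 2 := by
      rwa [Subgroup.orderOf_mk] at h1
    rcases (Nat.dvd_prime Nat.prime_two).1 h2 with h | h
    · exact absurd (orderOf_eq_one_iff.1 h) hz1
    · exact h
  have hzz0 : z * z = 1 := by
    have := pow_orderOf_eq_one z
    rwa [hzo, pow_two] at this
  have hMz : Subgroup.zpowers z = M := by
    apply Subgroup.eq_of_le_of_card_ge
    · rw [Subgroup.zpowers_le]; exact hzM
    · rw [Nat.card_zpowers, hzo, hM2]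
  have hMelts : ∀ x ∈ M, x = 1 ∨ x = z := by
    intro x hx
    rw [← hMz] at hx
    exact Cfsg.Agent.Lib.Helper29.mem_zpowers_of_sq hzz0 x hx
  have hzc : ∀ g : P, g * z * g⁻¹ = z := by
    intro g
    rcases hMelts _ (hMn.conj_mem z hzM g) with h | h
    · exfalso
      apply hz1
      have : g * z = g := by
        have := congrArg (· * g) h
        simpa using this
      exact mul_left_cancel (a := g) (by rw [this, mul_one])
    · exact h
  intro x hx g
  rcases hMelts x hx with rfl | rfl
  · simp
  · have := congrArg (· * g) (hzc g)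
    simpa using this

/-- a `2`-group of exponent dividing `4` without noncyclic abelian subgroups of order `8` has order
at most `8` -/
theorem card_le_eight {P : Type*} [Group P] [Finite P] (hP : IsPGroup 2 P) (hs : NoAb8 P)
    (h4 : ∀ x : P, x ^ 4 = 1) : Nat.card P ≤ 8 := by
  have : Fact (Nat.Prime 2) := ⟨Nat.prime_two⟩
  obtain ⟨A, -, hAn, hAc, hAself⟩ :=
    Cfsg.Agent.Lib.Helper31.Crit.exists_max_normal_abelian hP (⊤ : Subgroup P)
  have hA4 : Nat.card A ≤ 4 := by
    rcases hs.abelian_sub hP A hAc with h | h
    · exact card_le_four_of_cyclic h (fun x => Subtype.ext (by simpa using h4 (x : P)))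
    · exact h
  have hcent : Subgroup.centralizer (A : Set P) = A := by
    apply le_antisymm
    · intro d hd
      exact hAself d (Subgroup.mem_top d) (fun a ha => (hd a ha).symm)
    · intro a ha b hb
      exact hAc b hb a ha
  obtain ⟨k, hk⟩ := (hP.to_subgroup A).exists_card_eq
  have hk2 : k ≤ 2 := by
    by_contra h
    push Not at h
    have : 2 ^ 3 ≤ 2 ^ k := Nat.pow_le_pow_right (by norm_num) h
    omega
  have hcentral : (∀ x ∈ A, ∀ g : P, g * x = x * g) → Nat.card P ≤ 8 := by
    intro hc
    have htop : Subgroup.centralizer (A : Set P) = ⊤ := by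
      rw [eq_top_iff]
      intro g _ x hx
      exact (hc x hx g).symm
    rw [hcent] at htop
    rw [← Subgroup.card_top (G := P), ← htop]
    omega
  interval_cases k
  · apply hcentral
    intro x hx g
    have hA1 : A = ⊥ := Subgroup.card_eq_one.1 (by rw [hk]; norm_num)
    rw [hA1, Subgroup.mem_bot] at hx
    rw [hx]; simp
  · apply hcentral
    exact chi_central_of_card_two A (by rw [hk]; norm_num)
  · have h1 := chi hP A (by rw [hk]; norm_num)
    rw [hcent] at h1
    have h2 := Subgroup.card_mul_index A
    have h3 : A.index ≤ 2 := Nat.le_of_dvd (by norm_num) h1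
    rw [hk] at h2
    nlinarith

end Cfsg.Agent.Lib.Helper29.SmallTwo
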