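import Mathlib
import Cfsg.Prelude.Def_GeometricClasses
import Cfsg.Agent.Lib.Helper8.SpOrthF

/-! # S5980 hive (owner helper31), leaf SPT-S5: arithmetic of the order of `Sp_{2d}(q)`. -/

set_option autoImplicit false
set_option linter.unusedSectionVars false
set_option linter.unusedVariables false

namespace Cfsg.Agent.Lib.Helper31.SpTns

universe v

variable {F : Type v} [Field F]

section S
variable [Fintype F]

/-- a prime `r` dividing `q ^ m - 1` (`m ≠ 0`) but not `q - 1`: the order of `q` mod `r` is at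
least `2` and divides `m`. -/
theorem s5_order_dvd (q r m : ℕ) [Fact r.Prime] (hq : 1 ≤ q) (hm : m ≠ 0)
    (hrq : ¬ r ∣ q - 1) (h : r ∣ q ^ m - 1) :
    2 ≤ orderOf ((q : ℕ) : ZMod r) ∧ orderOf ((q : ℕ) : ZMod r) ∣ m := by
  have hpow : 1 ≤ q ^ m := Nat.one_le_pow _ _ hq
  have h1 : ((q : ℕ) : ZMod r) ^ m = 1 := by
    have h2 : ((q ^ m - 1 : ℕ) : ZMod r) = 0 := (ZMod.natCast_eq_zero_iff _ _).mpr h
    rw [Nat.cast_sub hpow, Nat.cast_pow, Nat.cast_one, sub_eq_zero] at h2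
    exact h2
  have hdvd : orderOf ((q : ℕ) : ZMod r) ∣ m := orderOf_dvd_of_pow_eq_one h1
  refine ⟨?_, hdvd⟩
  have h0 : orderOf ((q : ℕ) : ZMod r) ≠ 0 := by
    intro h0
    rw [h0, zero_dvd_iff] at hdvd
    exact hm hdvd
  have h1' : orderOf ((q : ℕ) : ZMod r) ≠ 1 := by
    intro h1'
    rw [orderOf_eq_one_iff] at h1'
    apply hrq
    have h2 : ((q - 1 : ℕ) : ZMod r) = 0 := by
      rw [Nat.cast_sub hq, Nat.cast_one, h1', sub_self]
    exact (ZMod.natCast_eq_zero_iff _ _).mp h2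
  omega

/-- SPT-S5 : arithmetic of `|Sp_{2d}(q)| = q^(d²) ∏_{j=1}^d (q^(2j) - 1)`. -/
theorem sp_order_cases {p : ℕ} [Fact p.Prime] [CharP F p] (d : ℕ) (r : ℕ) [Fact r.Prime]
    (hr2 : r ≠ 2) (hrp : r ≠ p) (hrq : ¬ r ∣ Fintype.card F - 1)
    (h : r ∣ Nat.card (Cfsg.spGL d F)) :
    2 ≤ orderOf ((Fintype.card F : ℕ) : ZMod r) ∧
      ((Even (orderOf ((Fintype.card F : ℕ) : ZMod r)) ∧
          orderOf ((Fintype.card F : ℕ) : ZMod r) ≤ 2 * d) ∨
        (Odd (orderOf ((Fintype.card F : ℕ) : ZMod r)) ∧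
          orderOf ((Fintype.card F : ℕ) : ZMod r) ≤ d)) := by
  have hr : r.Prime := Fact.out
  have hp : p.Prime := Fact.out
  set q := Fintype.card F with hq
  have hq1 : 1 ≤ q := Fintype.card_pos
  rw [Cfsg.Agent.Lib.Helper8.card_spGL] at h
  -- `r` does not divide `q`
  have hrnq : ¬ r ∣ q ^ (d ^ 2) := by
    intro h1
    have h2 : r ∣ q := hr.dvd_of_dvd_pow h1
    obtain ⟨n, -, hn⟩ := FiniteField.card F p
    rw [hq, hn] at h2
    have h3 : r ∣ p := hr.dvd_of_dvd_pow h2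
    exact hrp ((Nat.prime_dvd_prime_iff_eq hr hp).mp h3)
  have h2 : r ∣ ∏ i ∈ Finset.range d, (q ^ (2 * (i + 1)) - 1) :=
    (hr.dvd_mul.mp h).resolve_left hrnq
  obtain ⟨j, hj, hjd⟩ := (hr.prime.dvd_finsetProd_iff _).mp h2
  rw [Finset.mem_range] at hj
  obtain ⟨hi2, hidvd⟩ := s5_order_dvd q r (2 * (j + 1)) hq1 (by omega) hrq hjd
  refine ⟨hi2, ?_⟩
  rcases Nat.even_or_odd (orderOf ((q : ℕ) : ZMod r)) with he | ho
  · left
    refine ⟨he, ?_⟩
    have := Nat.le_of_dvd (by omega) hidvd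
    omega
  · right
    refine ⟨ho, ?_⟩
    have hcop : Nat.Coprime (orderOf ((q : ℕ) : ZMod r)) 2 := ho.coprime_two_right
    have h3 : orderOf ((q : ℕ) : ZMod r) ∣ j + 1 := hcop.dvd_of_dvd_mul_left hidvd
    have := Nat.le_of_dvd (by omega) h3
    omega

end S

end Cfsg.Agent.Lib.Helper31.SpTns
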