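import Mathlib

/-!
# An anisotropic quadratic map `F_2^m → F_2^n` has `m ≤ 2 n` (Chevalley–Warning) (helper1)
-/

set_option autoImplicit false

namespace Cfsg.Agent.Lib.Helper1.SuzCW

open MvPolynomial

theorem quad_sum {V W ι : Type*} [AddCommGroup V] [AddCommGroup W] [LinearOrder ι]
    (Q : V → W) (β : V → V → W)
    (hQ : ∀ x y, Q (x + y) = Q x + Q y + β x y)
    (hβl : ∀ x y z, β (x + y) z = β x z + β y z)
    (hQ0 : Q 0 = 0) (hβ0 : ∀ z, β 0 z = 0)
    (v : ι → V) (s : Finset ι) :
    Q (∑ a ∈ s, v a) = ∑ a ∈ s, Q (v a) +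
      ∑ a ∈ s, ∑ b ∈ s, (if a < b then β (v a) (v b) else 0) := by
  classical
  induction s using Finset.induction_on_max with
  | empty => simp [hQ0]
  | insert c s hc ih =>
    have hcs : c ∉ s := fun h => lt_irrefl c (hc c h)
    have hβsum : ∀ (t : Finset ι) (z : V), β (∑ a ∈ t, v a) z = ∑ a ∈ t, β (v a) z := by
      intro t z
      induction t using Finset.induction_on with
      | empty => simp [hβ0]
      | insert a t ha iht => rw [Finset.sum_insert ha, Finset.sum_insert ha, hβl, iht]
    rw [Finset.sum_insert hcs, add_comm (v c), hQ, ih, hβsum, Finset.sum_insert hcs,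
      Finset.sum_insert hcs]
    have h1 : ∑ b ∈ insert c s, (if c < b then β (v c) (v b) else 0) = 0 := by
      apply Finset.sum_eq_zero
      intro b hb
      rw [Finset.mem_insert] at hb
      rcases hb with rfl | hb
      · simp
      · rw [if_neg (not_lt.mpr (hc b hb).le)]
    have h2 : ∑ a ∈ s, ∑ b ∈ insert c s, (if a < b then β (v a) (v b) else 0) =
        ∑ a ∈ s, β (v a) (v c) + ∑ a ∈ s, ∑ b ∈ s, (if a < b then β (v a) (v b) else 0) := by
      rw [← Finset.sum_add_distrib]
      apply Finset.sum_congr rfl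
      intro a ha
      rw [Finset.sum_insert hcs, if_pos (hc a ha)]
    rw [h1, h2]
    abel

theorem card_le_sq_additive {V W : Type*} [AddCommGroup V] [AddCommGroup W]
    [Module (ZMod 2) V] [Module (ZMod 2) W] [Finite V] [Finite W]
    (Q : V → W) (β : V → V → W)
    (hQ : ∀ x y, Q (x + y) = Q x + Q y + β x y)
    (hβl : ∀ x y z, β (x + y) z = β x z + β y z)
    (hβr : ∀ x y z, β x (y + z) = β x y + β x z)
    (hani : ∀ x, Q x = 0 → x = 0) : Nat.card V ≤ Nat.card W ^ 2 := by
  classical
  have hβ0l : ∀ z, β 0 z = 0 := by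
    intro z
    have := hβl 0 0 z
    rw [add_zero] at this
    exact left_eq_add.mp this
  have hβ0r : ∀ z, β z 0 = 0 := by
    intro z
    have := hβr z 0 0
    rw [add_zero] at this
    exact left_eq_add.mp this
  have hQ0 : Q 0 = 0 := by
    have := hQ 0 0
    rw [add_zero, hβ0l, add_zero] at this
    exact left_eq_add.mp this
  have h01 : ∀ c : ZMod 2, c = 0 ∨ c = 1 := by decide
  have hQs : ∀ (c : ZMod 2) (v : V), Q (c • v) = c • Q v := by
    intro c v
    rcases h01 c with rfl | rfl
    · simp [hQ0]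
    · simp
  have hβs : ∀ (c d : ZMod 2) (v w : V), β (c • v) (d • w) = (c * d) • β v w := by
    intro c d v w
    rcases h01 c with rfl | rfl <;> rcases h01 d with rfl | rfl <;> simp [hβ0l, hβ0r]
  obtain ⟨m, hm⟩ : ∃ m, m = Module.finrank (ZMod 2) V := ⟨_, rfl⟩
  obtain ⟨n, hn⟩ : ∃ n, n = Module.finrank (ZMod 2) W := ⟨_, rfl⟩
  have bV : Module.Basis (Fin m) (ZMod 2) V := hm ▸ Module.finBasis (ZMod 2) V
  have bW : Module.Basis (Fin n) (ZMod 2) W := hn ▸ Module.finBasis (ZMod 2) W
  have hcV : Nat.card V = 2 ^ m := by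
    rw [Module.natCard_eq_pow_finrank (K := ZMod 2), Nat.card_zmod, hm]
  have hcW : Nat.card W = 2 ^ n := by
    rw [Module.natCard_eq_pow_finrank (K := ZMod 2), Nat.card_zmod, hn]
  rw [hcV, hcW, ← pow_mul]
  apply Nat.pow_le_pow_right (by norm_num)
  by_contra hlt
  push Not at hlt
  have : Fact (Nat.Prime 2) := ⟨Nat.prime_two⟩
  -- the polynomials
  obtain ⟨f, hf⟩ : ∃ f : Fin n → MvPolynomial (Fin m) (ZMod 2), f = fun i =>
      ∑ a, C (bW.repr (Q (bV a)) i) * X a +
        ∑ a, ∑ b, (if a < b then C (bW.repr (β (bV a) (bV b)) i) * X a * X b else 0) := ⟨_, rfl⟩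
  have hdeg : ∀ i, (f i).totalDegree ≤ 2 := by
    intro i
    rw [hf]
    refine (totalDegree_add _ _).trans (max_le ?_ ?_)
    · refine totalDegree_finsetSum_le fun a _ => ?_
      refine (totalDegree_mul _ _).trans ?_
      rw [totalDegree_C, totalDegree_X]
      norm_num
    · refine totalDegree_finsetSum_le fun a _ => ?_
      refine totalDegree_finsetSum_le fun b _ => ?_
      split_ifs
      · refine (totalDegree_mul _ _).trans ?_
        refine (Nat.add_le_add_right (totalDegree_mul _ _) _).trans ?_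
        rw [totalDegree_C, totalDegree_X, totalDegree_X]
      · simp
  have hsum : (∑ i, (f i).totalDegree) < Fintype.card (Fin m) := by
    rw [Fintype.card_fin]
    calc (∑ i, (f i).totalDegree) ≤ ∑ _i : Fin n, 2 := Finset.sum_le_sum fun i _ => hdeg i
      _ = n * 2 := by simp
      _ < m := hlt
  have hCW := char_dvd_card_solutions_of_fintype_sum_lt 2 hsum
  -- evaluation
  have heval : ∀ (x : Fin m → ZMod 2) (i : Fin n),
      eval x (f i) = bW.repr (Q (∑ a, x a • bV a)) i := by
    intro x i
    rw [quad_sum Q β hQ hβl hQ0 hβ0l (fun a => x a • bV a) Finset.univ, hf]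
    simp only [hQs, hβs, map_add, map_sum, map_smul, Finsupp.coe_add, Finsupp.coe_finsetSum,
      Pi.add_apply, Finset.sum_apply, apply_ite, map_zero, Finsupp.coe_smul, Pi.smul_apply,
      smul_eq_mul, map_mul, eval_C, eval_X, Finsupp.coe_zero]
    congr 1
    · apply Finset.sum_congr rfl
      intro a _
      ring
    · apply Finset.sum_congr rfl
      intro a _
      apply Finset.sum_congr rfl
      intro b _
      split_ifs
      · rw [Pi.smul_apply, smul_eq_mul]
        ring
      · rfl
  -- the solutions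
  have hsol : ∀ x : {x : Fin m → ZMod 2 // ∀ i, eval x (f i) = 0}, x.1 = 0 := by
    intro x
    have h1 : bW.repr (Q (∑ a, x.1 a • bV a)) = 0 := by
      ext i
      rw [← heval, x.2 i]
      rfl
    have h2 : Q (∑ a, x.1 a • bV a) = 0 := by
      have := congrArg bW.repr.symm h1
      simpa using this
    have h3 := hani _ h2
    have h5 := bV.repr_sum_self x.1
    rw [h3, map_zero] at h5
    rw [← h5]
    rfl
  have hcard : Nat.card {x : Fin m → ZMod 2 // ∀ i, eval x (f i) = 0} = 1 := by
    rw [Nat.card_eq_one_iff_unique]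
    refine ⟨⟨fun y z => Subtype.ext ((hsol y).trans (hsol z).symm)⟩, ⟨⟨0, fun i => ?_⟩⟩⟩
    rw [heval]
    simp [hQ0]
  have h6 : Fintype.card {x : Fin m → ZMod 2 // ∀ i, eval x (f i) = 0} = 1 := by
    rw [Fintype.card_eq_nat_card]
    exact hcard
  have h7 : (2 : ℕ) ∣ 1 := by
    rw [← h6]
    convert hCW
  omega


theorem comm_of_sq_eq_one {G : Type*} [Group G] (h : ∀ x : G, x * x = 1) (a b : G) :
    a * b = b * a := by
  have hinv : ∀ x : G, x⁻¹ = x := fun x => inv_eq_of_mul_eq_one_right (h x)
  calc a * b = (a * b)⁻¹ := (hinv _).symm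
    _ = b⁻¹ * a⁻¹ := mul_inv_rev a b
    _ = b * a := by rw [hinv, hinv]

/-- If `U`, `W` are elementary abelian `2`-groups and `sq : U → W` is a quadratic map (with
polarisation `B`) which is anisotropic, then `|U| ≤ |W| ^ 2`. -/
theorem card_le_sq_of_anisotropic {U W : Type*} [Group U] [Group W] [Finite U] [Finite W]
    (hU : ∀ x : U, x * x = 1) (hW : ∀ w : W, w * w = 1) (sq : U → W) (B : U → U → W)
    (hsq : ∀ x y, sq (x * y) = sq x * sq y * B x y)
    (hBl : ∀ x y z, B (x * y) z = B x z * B y z)
    (hBr : ∀ x y z, B x (y * z) = B x y * B x z)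
    (hani : ∀ x, sq x = 1 → x = 1) : Nat.card U ≤ Nat.card W ^ 2 := by
  classical
  let iU : CommGroup U := { (inferInstance : Group U) with mul_comm := comm_of_sq_eq_one hU }
  let iW : CommGroup W := { (inferInstance : Group W) with mul_comm := comm_of_sq_eq_one hW }
  let mU : Module (ZMod 2) (Additive U) := AddCommGroup.zmodModule (n := 2) (by
    intro x
    rw [two_nsmul]
    exact hU (Additive.toMul x))
  let mW : Module (ZMod 2) (Additive W) := AddCommGroup.zmodModule (n := 2) (by
    intro x
    rw [two_nsmul]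
    exact hW (Additive.toMul x))
  have h := card_le_sq_additive (V := Additive U) (W := Additive W)
    (fun x => Additive.ofMul (sq (Additive.toMul x)))
    (fun x y => Additive.ofMul (B (Additive.toMul x) (Additive.toMul y)))
    (fun x y => hsq (Additive.toMul x) (Additive.toMul y))
    (fun x y z => hBl (Additive.toMul x) (Additive.toMul y) (Additive.toMul z))
    (fun x y z => hBr (Additive.toMul x) (Additive.toMul y) (Additive.toMul z))
    (fun x hx => hani (Additive.toMul x) hx)
  exact h

end Cfsg.Agent.Lib.Helper1.SuzCW
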