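import Mathlib
import Cfsg.Agent.Lib.Helper1.HallDom

set_option autoImplicit false

namespace Cfsg.Agent.Lib.Helper1

universe u

open scoped Pointwise

variable {G : Type u} [Group G]

theorem index_inf_of_coprime' [Finite G] (H K : Subgroup G) (h : H.index.Coprime K.index) :
    (H ⊓ K).index = H.index * K.index := by
  apply le_antisymm (Subgroup.index_inf_le)
  apply Nat.le_of_dvd
  · exact Nat.pos_of_ne_zero Subgroup.index_ne_zero_of_finite
  · exact Nat.Coprime.mul_dvd_of_dvd_of_dvd h (Subgroup.index_dvd_of_le inf_le_left)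
      (Subgroup.index_dvd_of_le inf_le_right)

theorem exists_hall_compl [Finite G] (hs : Group.IsSolvable G) (p : ℕ) (hp : p.Prime) :
    ∃ K : Subgroup G, K.index = p ^ (Nat.card G).factorization p := by
  have hn : Nat.card G ≠ 0 := Nat.card_pos.ne'
  have h1 : Nat.card G = (Nat.card G / p ^ (Nat.card G).factorization p) *
      p ^ (Nat.card G).factorization p := by
    rw [mul_comm, Nat.ordProj_mul_ordCompl_eq_self]
  have h2 : (Nat.card G / p ^ (Nat.card G).factorization p).Coprime
      (p ^ (Nat.card G).factorization p) :=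
    ((Nat.coprime_ordCompl hp hn).pow_left _).symm
  obtain ⟨K, hK, -⟩ := hallDom_all G hs _ _ h1 h2 ⊥
    (by rw [Subgroup.card_bot]; exact Nat.coprime_one_left _)
  refine ⟨K, ?_⟩
  have h3 := K.card_mul_index
  rw [hK] at h3
  have h4 : Nat.card G / p ^ (Nat.card G).factorization p * K.index =
      Nat.card G / p ^ (Nat.card G).factorization p * p ^ (Nat.card G).factorization p := by
    rw [h3]; exact h1
  refine Nat.eq_of_mul_eq_mul_left ?_ h4
  exact Nat.div_pos (Nat.le_of_dvd Nat.card_pos (Nat.ordProj_dvd _ _)) (pow_pos hp.pos _)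

theorem index_biInf [Finite G] (K : ℕ → Subgroup G) (f : ℕ → ℕ) (T : Finset ℕ)
    (hK : ∀ q ∈ T, (K q).index = f q)
    (hcop : ∀ q ∈ T, ∀ r ∈ T, q ≠ r → (f q).Coprime (f r)) :
    (⨅ q ∈ T, K q).index = ∏ q ∈ T, f q := by
  induction T using Finset.induction_on with
  | empty => simp
  | insert a T ha ih =>
    have ih' := ih (fun q hq => hK q (Finset.mem_insert_of_mem hq))
      (fun q hq r hr => hcop q (Finset.mem_insert_of_mem hq) r (Finset.mem_insert_of_mem hr))
    have hc : (K a).index.Coprime (⨅ q ∈ T, K q).index := by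
      rw [hK a (Finset.mem_insert_self a T), ih']
      apply Nat.Coprime.prod_right
      intro r hr
      exact hcop a (Finset.mem_insert_self a T) r (Finset.mem_insert_of_mem hr)
        (by rintro rfl; exact ha hr)
    rw [Finset.iInf_insert, Finset.prod_insert ha, index_inf_of_coprime' _ _ hc,
      hK a (Finset.mem_insert_self a T), ih']

theorem prod_erase_mul' (T : Finset ℕ) (f : ℕ → ℕ) (p : ℕ) (h : p ∉ T → f p = 1) :
    (∏ q ∈ T.erase p, f q) * f p = ∏ q ∈ T, f q := by
  by_cases hp : p ∈ T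
  · exact Finset.prod_erase_mul T f hp
  · rw [Finset.erase_eq_of_notMem hp, h hp, mul_one]

theorem mul_eq_of_card [Finite G] (A B D : Subgroup G) (hA : A ≤ D) (hB : B ≤ D)
    (hc : Nat.card A * Nat.card B = Nat.card D) (hcop : (Nat.card A).Coprime (Nat.card B)) :
    (A : Set G) * (B : Set G) = D := by
  apply Set.Subset.antisymm
  · rintro _ ⟨a, ha, b, hb, rfl⟩
    exact D.mul_mem (hA ha) (hB hb)
  · intro x hx
    have hcomp : Subgroup.IsComplement' (A.subgroupOf D) (B.subgroupOf D) :=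
      Subgroup.isComplement'_of_coprime
        (by rw [card_subgroupOf_of_le hA, card_subgroupOf_of_le hB, hc])
        (by rw [card_subgroupOf_of_le hA, card_subgroupOf_of_le hB]; exact hcop)
    obtain ⟨⟨a, b⟩, hab⟩ := hcomp.2 ⟨x, hx⟩
    refine ⟨(a : D), Subgroup.mem_subgroupOf.mp a.2, (b : D), Subgroup.mem_subgroupOf.mp b.2, ?_⟩
    exact congrArg Subtype.val hab

theorem exists_sylow_system [Finite G] (hs : Group.IsSolvable G) :
    ∃ S : (p : Nat.Primes) → Sylow (p : ℕ) G,
      ∀ p q : Nat.Primes, (S p : Set G) * (S q : Set G) = (S q : Set G) * (S p : Set G) := by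
  classical
  set n := Nat.card G with hn
  have hn0 : n ≠ 0 := Nat.card_pos.ne'
  set f : ℕ → ℕ := fun q => q ^ n.factorization q with hf
  set P := n.primeFactors with hP
  have hex : ∀ q : ℕ, ∃ K : Subgroup G, q.Prime → K.index = f q := by
    intro q
    by_cases hq : q.Prime
    · obtain ⟨K, hK⟩ := exists_hall_compl hs q hq
      exact ⟨K, fun _ => hK⟩
    · exact ⟨⊤, fun h => absurd h hq⟩
  choose K hK using hex
  have hD : ∀ T : Finset ℕ, T ⊆ P → (⨅ q ∈ T, K q).index = ∏ q ∈ T, f q := by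
    intro T hT
    apply index_biInf
    · intro q hq
      exact hK q (Nat.prime_of_mem_primeFactors (hT hq))
    · intro q hq r hr hqr
      exact Nat.Coprime.pow _ _ ((Nat.coprime_primes (Nat.prime_of_mem_primeFactors (hT hq))
        (Nat.prime_of_mem_primeFactors (hT hr))).mpr hqr)
  have hprod : ∏ q ∈ P, f q = n := Nat.prod_factorization_pow_eq_self hn0
  have hf1 : ∀ p : ℕ, p.Prime → p ∉ P → f p = 1 := by
    intro p hp hpP
    have : n.factorization p = 0 := by
      apply Nat.factorization_eq_zero_of_not_dvd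
      intro hd
      exact hpP (Nat.mem_primeFactors.mpr ⟨hp, hd, hn0⟩)
    simp only [hf, this, pow_zero]
  have hcard1 : ∀ p : ℕ, p.Prime → Nat.card (⨅ q ∈ P.erase p, K q : Subgroup G) = f p := by
    intro p hp
    have h1 := hD (P.erase p) (Finset.erase_subset _ _)
    have h2 := prod_erase_mul' P f p (hf1 p hp)
    rw [hprod, ← h1] at h2
    have h3 := (⨅ q ∈ P.erase p, K q : Subgroup G).index_mul_card
    rw [← hn, ← h2] at h3
    exact Nat.eq_of_mul_eq_mul_left (Nat.pos_of_ne_zero Subgroup.index_ne_zero_of_finite) h3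
  refine ⟨fun p => haveI : Fact ((p : ℕ).Prime) := ⟨p.2⟩
    Sylow.ofCard (⨅ q ∈ P.erase (p : ℕ), K q) (hcard1 p p.2), ?_⟩
  intro p q
  by_cases hpq : p = q
  · rw [hpq]
  have hpq' : (p : ℕ) ≠ q := fun h => hpq (Subtype.ext h)
  change ((⨅ r ∈ P.erase (p : ℕ), K r : Subgroup G) : Set G) *
    ((⨅ r ∈ P.erase (q : ℕ), K r : Subgroup G) : Set G) =
    ((⨅ r ∈ P.erase (q : ℕ), K r : Subgroup G) : Set G) *
    ((⨅ r ∈ P.erase (p : ℕ), K r : Subgroup G) : Set G)
  set D' : Subgroup G := ⨅ r ∈ (P.erase (p : ℕ)).erase (q : ℕ), K r with hD'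
  have hA : (⨅ r ∈ P.erase (p : ℕ), K r : Subgroup G) ≤ D' :=
    biInf_mono (fun r hr => Finset.mem_of_mem_erase hr)
  have hB : (⨅ r ∈ P.erase (q : ℕ), K r : Subgroup G) ≤ D' := by
    apply biInf_mono
    intro r hr
    rw [Finset.mem_erase] at hr ⊢
    exact ⟨hr.1, (Finset.mem_erase.mp hr.2).2⟩
  have hD'c : Nat.card D' = f p * f q := by
    have h1 := hD ((P.erase (p : ℕ)).erase (q : ℕ))
      ((Finset.erase_subset _ _).trans (Finset.erase_subset _ _))
    have h2 := prod_erase_mul' (P.erase (p : ℕ)) f q (by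
      intro hq
      apply hf1 q q.2
      intro hqP
      exact hq (Finset.mem_erase.mpr ⟨hpq'.symm, hqP⟩))
    have h3 := prod_erase_mul' P f p (hf1 p p.2)
    rw [hprod, ← h2, ← h1] at h3
    have h4 := D'.index_mul_card
    rw [← hn, ← h3, mul_assoc] at h4
    rw [Nat.eq_of_mul_eq_mul_left (Nat.pos_of_ne_zero Subgroup.index_ne_zero_of_finite) h4,
      mul_comm]
  have hcop : (f p).Coprime (f q) := Nat.Coprime.pow _ _ ((Nat.coprime_primes p.2 q.2).mpr hpq')
  rw [mul_eq_of_card _ _ D' hA hB (by rw [hcard1 p p.2, hcard1 q q.2, hD'c])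
      (by rw [hcard1 p p.2, hcard1 q q.2]; exact hcop),
    mul_eq_of_card _ _ D' hB hA (by rw [hcard1 p p.2, hcard1 q q.2, hD'c, mul_comm])
      (by rw [hcard1 p p.2, hcard1 q q.2]; exact hcop.symm)]

end Cfsg.Agent.Lib.Helper1
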