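import Mathlib
import Cfsg.Agent.Lib.Helper3.SzB0
import Cfsg.Agent.Lib.Helper25.Ind
import Cfsg.Agent.Lib.Helper25.IndNormal
import Cfsg.Agent.Lib.Helper81.FixedIrr

set_option autoImplicit false
set_option linter.style.haveILetI false
set_option linter.unusedSectionVars false

/-! # S0347 part B, leaves B1a, B1b, B1c, B1d, B1e: induction from the TI subgroup `Q`. -/

namespace Cfsg.Agent.Lib.Helper3.Sz

open Cfsg MulAction
open Cfsg.Agent.Lib.Helper97.Zass
open Cfsg.Agent.Lib.Helper3.ZassOdd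
open Cfsg.Agent.Lib.Helper3.ZassFeit
open scoped ComplexConjugate

variable {G Ω : Type*} [Group G] [MulAction G Ω] [Fintype Ω] {a b : Ω} {Q : Subgroup G} {q : ℕ}
variable [Fintype G] [Fintype Q] [Fintype (twoStab G a b)] [IsSimpleGroup G]

/-- `Q ∩ E = 1`. -/
theorem b1_inter (c : Ctx G a b Q q) {x : G} (hxQ : x ∈ Q) (hxE : x ∈ twoStab G a b) : x = 1 := by
  by_contra hx1
  exact c.hab (c.ker.fix x hxQ hx1 b (mem_twoStab.mp hxE).2).symm

/-- the point stabiliser normalises `Q`. -/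
theorem b1_conj_mem (c : Ctx G a b Q q) {k : G} (hk : k • a = a) {u : G} (hu : u ∈ Q) :
    k * u * k⁻¹ ∈ Q :=
  c.ker.conj_mem c.hy hk hu

/-- conjugation by an element of the point stabiliser, as an automorphism of `Q`. -/
def b1_cj (c : Ctx G a b Q q) (k : G) (hk : k • a = a) : Q ≃* Q where
  toFun u := ⟨k * u * k⁻¹, b1_conj_mem c hk u.2⟩
  invFun u := ⟨k⁻¹ * u * k, by
    have hk' : k⁻¹ • a = a := by rw [inv_smul_eq_iff, hk]
    have := b1_conj_mem c hk' u.2
    simpa using this⟩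
  left_inv u := by
    apply Subtype.ext
    show k⁻¹ * (k * (u : G) * k⁻¹) * k = u
    group
  right_inv u := by
    apply Subtype.ext
    show k * (k⁻¹ * (u : G) * k) * k⁻¹ = u
    group
  map_mul' u v := by
    apply Subtype.ext
    show k * ((u : G) * v) * k⁻¹ = (k * u * k⁻¹) * (k * v * k⁻¹)
    group

theorem b1_cj_coe (c : Ctx G a b Q q) (k : G) (hk : k • a = a) (u : Q) :
    ((b1_cj c k hk u : Q) : G) = k * u * k⁻¹ := rfl

theorem b1_conjQ_eq (c : Ctx G a b Q q) (k : G) (hk : k • a = a) (θ : Q → ℂ) :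
    conjQ Q k θ = fun u => θ (b1_cj c k hk u) := by
  funext u
  rw [conjQ_apply Q k θ u (b1_conj_mem c hk u.2)]
  rfl

theorem b1_stab (_c : Ctx G a b Q q) {k : G} (hk : k ∈ twoStab G a b) : k • a = a :=
  (mem_twoStab.mp hk).1

/-- B1a. `x⁻¹ u x ∈ Q` forces `x ∈ N(Q) = G_a = Q E` (TI); sum over `x = v k`. -/
theorem indFun_apply_mem (c : Ctx G a b Q q) {θ : Q → ℂ} (hθ : IsClassFunction Q θ) (u : Q)
    (hu : u ≠ 1) : indFun Q θ (u : G) = ∑ k : twoStab G a b, conjQ Q (k : G) θ u := by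
  classical
  have hy := c.hy
  have hu1 : (u : G) ≠ 1 := fun h => hu (Subtype.ext h)
  rw [Cfsg.Agent.Lib.Helper25.indFun_apply]
  have h1 : ∑ x : G, extendByZero Q θ (x⁻¹ * (u : G) * x) =
      ∑ p : Q × twoStab G a b, conjQ Q (p.2 : G) θ u := by
    symm
    apply Finset.sum_of_injOn (fun p : Q × twoStab G a b => ((p.1 : G) * (p.2 : G))⁻¹)
    · rintro ⟨v, s⟩ _ ⟨v', s'⟩ _ h
      have h2 : (v : G) * (s : G) = (v' : G) * (s' : G) := inv_injective h
      have h3 : (v' : G)⁻¹ * (v : G) = (s' : G) * (s : G)⁻¹ := by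
        calc (v' : G)⁻¹ * (v : G) = (v' : G)⁻¹ * ((v : G) * (s : G)) * (s : G)⁻¹ := by group
          _ = (s' : G) * (s : G)⁻¹ := by rw [h2]; group
      have h4 : (v' : G)⁻¹ * (v : G) = 1 := by
        apply b1_inter c (Q.mul_mem (Q.inv_mem v'.2) v.2)
        rw [h3]
        exact (twoStab G a b).mul_mem s'.2 ((twoStab G a b).inv_mem s.2)
      have h5 : (v : G) = v' := by
        calc (v : G) = v' * ((v' : G)⁻¹ * v) := by group
          _ = v' := by rw [h4, mul_one]
      have h6 : (s : G) = s' := by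
        rw [h5] at h2
        exact mul_left_cancel h2
      exact Prod.ext (Subtype.ext h5) (Subtype.ext h6)
    · intro _ _
      exact Finset.mem_coe.mpr (Finset.mem_univ _)
    · intro x _ hx
      apply Cfsg.Agent.Lib.Helper25.extendByZero_of_not_mem
      intro hmem
      apply hx
      have hxn : x⁻¹ ∈ Subgroup.normalizer (Q : Set G) := by
        by_contra hn
        apply hu1
        apply c.ker.ti hy x⁻¹ hn (u : G) u.2
        simpa using hmem
      rw [c.ker.normalizer_eq hy, MulAction.mem_stabilizer_iff] at hxn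
      obtain ⟨v, hv, s, hs, hvs⟩ := c.ker.exists_decomp c.hab hxn
      refine ⟨(⟨v, hv⟩, ⟨s, hs⟩), Finset.mem_coe.mpr (Finset.mem_univ _), ?_⟩
      show ((v : G) * s)⁻¹ = x
      rw [← hvs, inv_inv]
    · rintro ⟨v, s⟩ _
      have hs : (s : G) • a = a := b1_stab c s.2
      have hmem : (s : G) * (u : G) * (s : G)⁻¹ ∈ Q := b1_conj_mem c hs u.2
      show conjQ Q (s : G) θ u = extendByZero Q θ ((((v : G) * s)⁻¹)⁻¹ * (u : G) * ((v : G) * s)⁻¹)
      rw [conjQ_apply Q (s : G) θ u hmem]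
      have e : (((v : G) * s)⁻¹)⁻¹ * (u : G) * ((v : G) * s)⁻¹ =
          ((v * ⟨(s : G) * (u : G) * (s : G)⁻¹, hmem⟩ * v⁻¹ : Q) : G) := by
        simp only [Subgroup.coe_mul, Subgroup.coe_inv]
        group
      rw [e, Cfsg.Agent.Lib.Helper25.extendByZero_coe, hθ]
  rw [h1, Fintype.sum_prod_type]
  simp only [Finset.sum_const, Finset.card_univ, nsmul_eq_mul]
  rw [Nat.card_eq_fintype_card]
  have hne : (Fintype.card Q : ℂ) ≠ 0 := by
    exact_mod_cast Fintype.card_ne_zero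
  field_simp

/-- B1b. `|G : Q| = |Ω| e`. -/
theorem indFun_apply_one (c : Ctx G a b Q q) (θ : Q → ℂ) :
    indFun Q θ 1 = (Fintype.card Ω : ℂ) * ((q : ℂ) - 1) * θ 1 := by
  classical
  rw [Cfsg.Agent.Lib.Helper25.indFun_apply]
  have h1 : ∀ x : G, extendByZero Q θ (x⁻¹ * 1 * x) = θ 1 := by
    intro x
    have e : x⁻¹ * 1 * x = ((1 : Q) : G) := by simp
    rw [e, Cfsg.Agent.Lib.Helper25.extendByZero_coe]
  simp only [h1, Finset.sum_const, Finset.card_univ, nsmul_eq_mul]
  have hG := c.card_G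
  have hQ := c.card_Q
  have h4 := c.four_le
  rw [Nat.card_eq_fintype_card] at hG
  rw [hG, ← hQ]
  have hne : (Nat.card Q : ℂ) ≠ 0 := by
    exact_mod_cast Nat.card_pos.ne'
  have hq1 : ((q - 1 : ℕ) : ℂ) = (q : ℂ) - 1 := by
    rw [Nat.cast_sub (by omega), Nat.cast_one]
  push_cast
  rw [hq1]
  field_simp

/-- extension by zero commutes with conjugation by the point stabiliser. -/
theorem b1_extend_conjQ (c : Ctx G a b Q q) (θ : Q → ℂ) {k : G} (hk : k • a = a) (y : G) :
    extendByZero Q (conjQ Q k θ) y = extendByZero Q θ (k * y * k⁻¹) := by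
  by_cases hy : y ∈ Q
  · have hmem : k * y * k⁻¹ ∈ Q := b1_conj_mem c hk hy
    rw [Cfsg.Agent.Lib.Helper25.extendByZero_of_mem Q _ hy,
      Cfsg.Agent.Lib.Helper25.extendByZero_of_mem Q _ hmem]
    exact conjQ_apply Q k θ ⟨y, hy⟩ hmem
  · have hk' : k⁻¹ • a = a := by rw [inv_smul_eq_iff, hk]
    have hmem : k * y * k⁻¹ ∉ Q := by
      intro h
      apply hy
      have := b1_conj_mem c hk' h
      have e : k⁻¹ * (k * y * k⁻¹) * k⁻¹⁻¹ = y := by group
      rwa [e] at this
    rw [Cfsg.Agent.Lib.Helper25.extendByZero_of_not_mem Q _ hy,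
      Cfsg.Agent.Lib.Helper25.extendByZero_of_not_mem Q _ hmem]

/-- B1e. conjugate functions induce the same function. -/
theorem indFun_conjQ (c : Ctx G a b Q q) (θ : Q → ℂ) {k : G} (hk : k ∈ twoStab G a b) :
    indFun Q (conjQ Q k θ) = indFun Q θ := by
  classical
  funext g
  rw [Cfsg.Agent.Lib.Helper25.indFun_apply, Cfsg.Agent.Lib.Helper25.indFun_apply]
  congr 1
  have hka := b1_stab c hk
  simp only [b1_extend_conjQ c θ hka]
  apply Fintype.sum_equiv (Equiv.mulRight k⁻¹)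
  intro x
  show extendByZero Q θ (k * (x⁻¹ * g * x) * k⁻¹) =
    extendByZero Q θ ((x * k⁻¹)⁻¹ * g * (x * k⁻¹))
  congr 1
  group

/-- B1c. conjugation by `k ∈ E` is an automorphism of `Q`. -/
theorem conjQ_irr (c : Ctx G a b Q q) {θ : Q → ℂ} (hθ : IsIrrCharacter Q θ) {k : G}
    (hk : k ∈ twoStab G a b) : IsIrrCharacter Q (conjQ Q k θ) := by
  have hka := b1_stab c hk
  rw [b1_conjQ_eq c k hka θ]
  exact Cfsg.Agent.Lib.Helper25.IsIrrCharacter.comp_surj (b1_cj c k hka).toMonoidHom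
    (b1_cj c k hka).surjective hθ

/-- B1d. `E` acts freely on the nonprincipal irreducible characters of `Q`. -/
theorem conjQ_free (c : Ctx G a b Q q) {θ : Q → ℂ} (hθ : IsIrrCharacter Q θ)
    (hθ1 : θ ≠ fun _ => 1) {k : G} (hk : k ∈ twoStab G a b) (h : conjQ Q k θ = θ) : k = 1 := by
  classical
  by_contra hk1
  apply hθ1
  have hka := b1_stab c hk
  have hy := c.hy
  refine Cfsg.Agent.Lib.Helper81.irr_eq_one_of_comp_eq (b1_cj c k hka) ?_ ⟨θ, hθ⟩ ?_
  · intro g hg
    by_contra hg1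
    apply hk1
    rw [isConj_iff] at hg
    obtain ⟨v, hv⟩ := hg
    have hv' : (v : G) * (k * (g : G) * k⁻¹) * (v : G)⁻¹ = g := by
      have := congrArg Subtype.val hv
      simpa [b1_cj_coe] using this
    have hg1' : (g : G) ≠ 1 := fun h => hg1 (Subtype.ext h)
    have hcent : (v : G) * k ∈ Subgroup.centralizer ({(g : G)} : Set G) := by
      rw [Subgroup.mem_centralizer_singleton_iff]
      calc (v : G) * k * g = ((v : G) * (k * (g : G) * k⁻¹) * (v : G)⁻¹) * ((v : G) * k) := by group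
        _ = g * ((v : G) * k) := by rw [hv']
    have hvk : (v : G) * k ∈ Q := c.ker.cent_le hy (g : G) g.2 hg1' hcent
    have hkQ : k ∈ Q := by
      have := Q.mul_mem (Q.inv_mem v.2) hvk
      have e : (v : G)⁻¹ * ((v : G) * k) = k := by group
      rwa [e] at this
    exact b1_inter c hkQ hk
  · rw [b1_conjQ_eq c k hka θ] at h
    exact h

end Cfsg.Agent.Lib.Helper3.Sz
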