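import Mathlib
import Cfsg.Agent.Lib.Helper1.SzB1a
import Cfsg.Agent.Lib.Helper25.CharUtil
import Cfsg.Agent.Lib.Helper81.OneIrr
import Cfsg.Agent.S0157

set_option autoImplicit false
set_option linter.style.haveILetI false
set_option linter.unusedSectionVars false

/-! # S0347 part B, leaves B1f, B1g, B1h, B1i: the Gram matrix of the induced characters. -/

namespace Cfsg.Agent.Lib.Helper3.Sz

open Cfsg MulAction
open Cfsg.Agent.Lib.Helper97.Zass
open Cfsg.Agent.Lib.Helper3.ZassOdd
open Cfsg.Agent.Lib.Helper3.ZassFeit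
open scoped ComplexConjugate

variable {G Ω : Type*} [Group G] [MulAction G Ω] [Fintype Ω] {a b : Ω} {Q : Subgroup G} {q : ℕ}
variable [Fintype G] [Fintype Q] [Fintype (twoStab G a b)] [IsSimpleGroup G]

/-- B1i. `G` is `2`-transitive (`S0157`). -/
theorem chi_irr (c : Ctx G a b Q q) : IsIrrCharacter G (chi G Ω) := by
  haveI : MulAction.IsMultiplyPretransitive G Ω 2 := c.zass.2.1
  haveI : MulAction.IsPretransitive G Ω := MulAction.isPretransitive_of_is_two_pretransitive
  have h3 := three_le_card c.hy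
  have hX : 2 ≤ Nat.card Ω := by
    rw [Nat.card_eq_fintype_card]; omega
  exact (Cfsg.Agent.S0157.result Ω hX).mpr inferInstance

theorem b1_chi_class (c : Ctx G a b Q q) : IsClassFunction G (chi G Ω) :=
  IsCharacter.isClassFunction (IsIrrCharacter.isCharacter (chi_irr c))

theorem b1_chi_one (c : Ctx G a b Q q) : chi G Ω 1 = (Nat.card Q : ℂ) := by
  unfold chi
  rw [MulAction.fixedBy_one_eq_univ, Nat.card_coe_set_eq, Set.ncard_univ,
    Nat.card_eq_fintype_card (α := Ω), ← c.card_Q]
  push_cast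
  ring

theorem b1_chi_mem (c : Ctx G a b Q q) {u : G} (hu : u ∈ Q) (hu1 : u ≠ 1) : chi G Ω u = 0 := by
  unfold chi
  have h1 : MulAction.fixedBy Ω u = {a} := by
    ext x
    rw [MulAction.mem_fixedBy, Set.mem_singleton_iff]
    constructor
    · intro hx
      exact c.ker.fix u hu hu1 x hx
    · intro hx
      rw [hx]
      exact c.ker.le hu
  rw [h1, Nat.card_coe_set_eq, Set.ncard_singleton]
  simp

/-- B1g. `χ|_Q` is the regular character of `Q` (`u ≠ 1` in `Q` fixes exactly one point). -/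
theorem inner_chi (c : Ctx G a b Q q) (θ : Q → ℂ) :
    classInner (indFun Q θ) (chi G Ω) = θ 1 := by
  classical
  rw [Cfsg.Agent.Lib.Helper25.frobenius_reciprocity Q θ (chi G Ω) (b1_chi_class c)]
  rw [Cfsg.Agent.Lib.Helper25.classInner_def]
  rw [Finset.sum_eq_single (1 : Q)]
  · rw [Subgroup.coe_one, b1_chi_one c]
    have hne : (Nat.card Q : ℂ) ≠ 0 := by
      exact_mod_cast Nat.card_pos.ne'
    rw [Complex.conj_natCast]
    field_simp
  · intro u _ hu
    have hu1 : (u : G) ≠ 1 := fun h => hu (Subtype.ext h)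
    rw [b1_chi_mem c u.2 hu1]
    simp
  · intro h
    exact absurd (Finset.mem_univ _) h

/-- B1h. -/
theorem inner_one (c : Ctx G a b Q q) {θ : Q → ℂ} (hθ : IsIrrCharacter Q θ)
    (h1 : θ ≠ fun _ => 1) : classInner (indFun Q θ) (fun _ : G => (1 : ℂ)) = 0 := by
  classical
  rw [Cfsg.Agent.Lib.Helper25.frobenius_reciprocity Q θ (fun _ : G => (1 : ℂ)) (fun _ _ => rfl)]
  rw [classInner_irr hθ Cfsg.Agent.Lib.Helper81.isIrrCharacter_one, if_neg h1]

/-- the restriction to `Q` of an induced function. -/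
theorem b1_restrict (c : Ctx G a b Q q) {θ : Q → ℂ} (hθ : IsClassFunction Q θ) :
    (fun h : Q => indFun Q θ (h : G)) =
      (∑ k : twoStab G a b, conjQ Q (k : G) θ) +
        ((Nat.card Q : ℂ) * ((q : ℂ) - 1) * θ 1) •
          (fun u : Q => (open Classical in if u = 1 then (1 : ℂ) else 0)) := by
  classical
  funext u
  rw [Pi.add_apply, Finset.sum_apply, Pi.smul_apply, smul_eq_mul]
  by_cases hu : u = 1
  · subst hu
    rw [if_pos rfl, Subgroup.coe_one, indFun_apply_one c θ]
    have h1 : ∀ k : twoStab G a b, conjQ Q (k : G) θ 1 = θ 1 := by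
      intro k
      have hmem : (k : G) * ((1 : Q) : G) * (k : G)⁻¹ ∈ Q := by
        simp
      rw [conjQ_apply Q (k : G) θ 1 hmem]
      congr 1
      apply Subtype.ext
      simp
    simp only [h1, Finset.sum_const, Finset.card_univ, nsmul_eq_mul]
    have hq := c.hq
    have hQ := c.card_Q
    rw [Nat.card_eq_fintype_card] at hq
    have hE : (Fintype.card (twoStab G a b) : ℂ) = (q : ℂ) - 1 := by
      rw [← hq]; push_cast; ring
    rw [hE, ← hQ]
    push_cast
    ring
  · rw [if_neg hu, mul_zero, add_zero]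
    exact indFun_apply_mem c hθ u hu

theorem b1_inner_delta (θ : Q → ℂ) :
    classInner θ (fun u : Q => (open Classical in if u = 1 then (1 : ℂ) else 0)) =
      (Nat.card Q : ℂ)⁻¹ * θ 1 := by
  classical
  rw [Cfsg.Agent.Lib.Helper25.classInner_def, Finset.sum_eq_single (1 : Q)]
  · rw [if_pos rfl]; simp
  · intro u _ hu
    rw [if_neg hu]; simp
  · intro h
    exact absurd (Finset.mem_univ _) h

/-- B1f. the Gram matrix (Frobenius reciprocity, B1a, B1b, B1c). -/
theorem gram (c : Ctx G a b Q q) {θ θ' : Q → ℂ} (hθ : IsIrrCharacter Q θ)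
    (hθ' : IsIrrCharacter Q θ') (h1 : θ ≠ fun _ => 1) (h1' : θ' ≠ fun _ => 1) :
    classInner (indFun Q θ) (indFun Q θ') =
      ((q : ℂ) - 1) * θ 1 * θ' 1 +
        (Nat.card {k : twoStab G a b // conjQ Q (k : G) θ' = θ} : ℂ) := by
  classical
  have hcl' : IsClassFunction Q θ' := IsCharacter.isClassFunction (IsIrrCharacter.isCharacter hθ')
  rw [Cfsg.Agent.Lib.Helper25.frobenius_reciprocity Q θ (indFun Q θ')
    (Cfsg.Agent.Lib.Helper25.indFun_isClassFunction Q θ')]
  rw [b1_restrict c hcl', Cfsg.Agent.Lib.Helper25.classInner_add_right,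
    Cfsg.Agent.Lib.Helper25.classInner_sum_right, Cfsg.Agent.Lib.Helper25.classInner_smul_right,
    b1_inner_delta]
  obtain ⟨n', -, hn'⟩ := Cfsg.Agent.Lib.Helper25.irr_degree hθ'
  have h2 : ∀ k : twoStab G a b, classInner θ (conjQ Q (k : G) θ') =
      if conjQ Q (k : G) θ' = θ then 1 else 0 := by
    intro k
    rw [classInner_irr hθ (conjQ_irr c hθ' k.2)]
    by_cases h : conjQ Q (k : G) θ' = θ
    · rw [if_pos h, if_pos h.symm]
    · rw [if_neg h, if_neg (fun h' => h h'.symm)]
  simp only [h2]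
  rw [Finset.sum_boole, Nat.card_eq_fintype_card (α := {k : twoStab G a b // conjQ Q (k : G) θ' = θ}),
    Fintype.card_subtype]
  have hne : (Nat.card Q : ℂ) ≠ 0 := by
    exact_mod_cast Nat.card_pos.ne'
  rw [hn']
  simp only [map_mul, map_sub, map_one, Complex.conj_natCast]
  field_simp
  ring

end Cfsg.Agent.Lib.Helper3.Sz
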