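import Cfsg.Agent.Lib.Helper1.TitsGenFam
import Cfsg.Agent.Lib.Helper89.CosetCert

/-! # The Tits group: evaluating words in generators given as root words, by bit matrices (helper1)

glue between helper89's `ev` (words in abstract generators) and helper36's `gW` (words in the root elements of
`²F₄(2)`), for the Schur multiplier of the Tits group (S2115, helper92). -/

set_option autoImplicit false

namespace Cfsg.Agent.Lib.Helper1.TitsGen

open Cfsg Cfsg.Lie Cfsg.Agent.Lib.Helper18 Cfsg.Agent.Lib.Helper36 Cfsg.Agent.Lib.Helper89.CosetCert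

local notation "𝔾" => twistedF4 (ZMod 2) 1

/-- the underlying matrix of an element of the Tits group, as a homomorphism -/
def titsVal : TitsGroup →* GL chevF4.Idx (ZMod 2) :=
  (twistedF4 (ZMod 2) 1).subtype.comp (commutator ↥(twistedF4 (ZMod 2) 1)).subtype

theorem titsVal_apply (x : TitsGroup) :
    titsVal x = ((x : ↥(twistedF4 (ZMod 2) 1)) : GL chevF4.Idx (ZMod 2)) := rfl

theorem titsVal_injective : Function.Injective titsVal := by
  intro x y h
  apply Subtype.ext
  apply Subtype.ext
  exact h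

/-- an element of the Tits group from a matrix with the two membership proofs -/
noncomputable def titsOf (x : GL chevF4.Idx (ZMod 2))
    (h : ∃ hx : x ∈ twistedF4 (ZMod 2) 1, (⟨x, hx⟩ : ↥(twistedF4 (ZMod 2) 1)) ∈ commutator ↥(twistedF4 (ZMod 2) 1)) :
    TitsGroup :=
  ⟨⟨x, h.choose⟩, h.choose_spec⟩

theorem titsVal_titsOf (x : GL chevF4.Idx (ZMod 2))
    (h : ∃ hx : x ∈ twistedF4 (ZMod 2) 1, (⟨x, hx⟩ : ↥(twistedF4 (ZMod 2) 1)) ∈ commutator ↥(twistedF4 (ZMod 2) 1)) :
    titsVal (titsOf x h) = x := rfl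

/-- a family of `k` elements of the Tits group from root words -/
noncomputable def titsFam (k : ℕ) (w : ℕ → List ℕ)
    (h : ∀ i < k, ∃ hx : gW (w i) ∈ twistedF4 (ZMod 2) 1,
      (⟨gW (w i), hx⟩ : ↥(twistedF4 (ZMod 2) 1)) ∈ commutator ↥(twistedF4 (ZMod 2) 1)) : ℕ → TitsGroup :=
  fun i => if hi : i < k then titsOf (gW (w i)) (h i hi) else 1

theorem titsVal_titsFam_lt (k : ℕ) (w : ℕ → List ℕ)
    (h : ∀ i < k, ∃ hx : gW (w i) ∈ twistedF4 (ZMod 2) 1,
      (⟨gW (w i), hx⟩ : ↥(twistedF4 (ZMod 2) 1)) ∈ commutator ↥(twistedF4 (ZMod 2) 1)) (i : ℕ) (hi : i < k) :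
    titsVal (titsFam k w h i) = gW (w i) := by
  unfold titsFam
  rw [dif_pos hi, titsVal_titsOf]

theorem titsVal_titsFam (k : ℕ) (w : ℕ → List ℕ)
    (h : ∀ i < k, ∃ hx : gW (w i) ∈ twistedF4 (ZMod 2) 1,
      (⟨gW (w i), hx⟩ : ↥(twistedF4 (ZMod 2) 1)) ∈ commutator ↥(twistedF4 (ZMod 2) 1))
    (hk : ∀ i, k ≤ i → w i = []) (i : ℕ) :
    titsVal (titsFam k w h i) = gW (w i) := by
  by_cases hi : i < k
  · exact titsVal_titsFam_lt k w h i hi
  · unfold titsFam
    rw [dif_neg hi, map_one, hk i (not_lt.1 hi), gW_nil]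

/-! ## words -/

/-- the root word spelled by a word in the generators (`2 i ↦ w i`, `2 i + 1 ↦ (w i).reverse`) -/
def expand (w : ℕ → List ℕ) (word : Word) : List ℕ :=
  word.flatMap fun l => if l % 2 = 0 then w (l / 2) else (w (l / 2)).reverse

theorem expand_nil (w : ℕ → List ℕ) : expand w [] = [] := rfl

theorem expand_cons (w : ℕ → List ℕ) (l : ℕ) (word : Word) :
    expand w (l :: word) = (if l % 2 = 0 then w (l / 2) else (w (l / 2)).reverse) ++ expand w word := by
  unfold expand
  rw [List.flatMap_cons]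

theorem titsVal_ev (g : ℕ → TitsGroup) (w : ℕ → List ℕ) (hg : ∀ i, titsVal (g i) = gW (w i)) (word : Word) :
    titsVal (ev g word) = gW (expand w word) := by
  induction word with
  | nil => rw [ev_nil, map_one, expand_nil, gW_nil]
  | cons l word ih =>
    rw [ev_cons, map_mul, ih, expand_cons, gW_append]
    congr 1
    unfold lv
    by_cases h : l % 2 = 0
    · rw [if_pos h, if_pos h, hg]
    · rw [if_neg h, if_neg h, map_inv, hg, gW_inv]

/-- a relator holds in the Tits group as soon as the bit matrices multiply to the identity -/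
theorem ev_eq_one_of_bits (g : ℕ → TitsGroup) (w : ℕ → List ℕ) (hg : ∀ i, titsVal (g i) = gW (w i)) (word : Word)
    (hal : ∀ r ∈ expand w word, r ∈ f4Allowed)
    (h : prodBits ((expand w word).map f4Tab2) = idBits) : ev g word = 1 := by
  apply titsVal_injective
  rw [titsVal_ev g w hg, map_one]
  exact gW_eq_one _ hal h

/-- Boolean form, for lists of relators -/
def relOK (w : ℕ → List ℕ) (word : Word) : Bool :=
  (expand w word).all (fun r => f4Allowed.contains r) && decide (prodBits ((expand w word).map f4Tab2) = idBits)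

theorem ev_eq_one_of_relOK (g : ℕ → TitsGroup) (w : ℕ → List ℕ) (hg : ∀ i, titsVal (g i) = gW (w i)) (word : Word)
    (h : relOK w word = true) : ev g word = 1 := by
  unfold relOK at h
  rw [Bool.and_eq_true, List.all_eq_true, decide_eq_true_eq] at h
  refine ev_eq_one_of_bits g w hg word (fun r hr => ?_) h.2
  have := h.1 r hr
  exact List.contains_iff_mem.1 this

theorem ev_eq_one_of_all (g : ℕ → TitsGroup) (w : ℕ → List ℕ) (hg : ∀ i, titsVal (g i) = gW (w i))
    (words : List Word) (h : words.all (relOK w) = true) : ∀ r ∈ words, ev g r = 1 := by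
  intro r hr
  rw [List.all_eq_true] at h
  exact ev_eq_one_of_relOK g w hg r (h r hr)

/-! ## powers and orders -/

theorem titsVal_pow_eq (x : TitsGroup) (w : List ℕ) (hx : titsVal x = gW w) (n : ℕ) :
    titsVal (x ^ n) = gW (List.replicate n w).flatten := by
  rw [map_pow, hx, gW_flatten, List.map_replicate, List.prod_replicate]

theorem pow_eq_one_of_bits (x : TitsGroup) (w : List ℕ) (hx : titsVal x = gW w) (n : ℕ)
    (hal : ∀ r ∈ w, r ∈ f4Allowed)
    (h : prodBits ((List.replicate n w).flatten.map f4Tab2) = idBits) : x ^ n = 1 := by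
  apply titsVal_injective
  rw [titsVal_pow_eq x w hx, map_one]
  refine gW_eq_one _ (fun r hr => ?_) h
  rw [List.mem_flatten] at hr
  obtain ⟨l, hl, hrl⟩ := hr
  rw [List.eq_of_mem_replicate hl] at hrl
  exact hal r hrl

/-- a word is not the identity as soon as some row vector is moved -/
theorem gW_ne_one_of_bits (w : List ℕ) (hal : ∀ r ∈ w, r ∈ f4Allowed) (v : ℕ)
    (hlen : (prodBits (w.map f4Tab2)).length = 52)
    (hd : diff52 (vecMulF v (prodBits (w.map f4Tab2))) v = true) : gW w ≠ 1 := by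
  intro h
  apply diff52_sound _ _ hd
  rw [vecMulF_spec _ _ hlen, ← gW_coe w hal, h, Units.val_one, Matrix.vecMul_one]

/-- the order of an element given by a root word, for a prime `p` -/
theorem orderOf_eq_prime_of_bits (p : ℕ) [Fact p.Prime] (x : TitsGroup) (w : List ℕ) (hx : titsVal x = gW w)
    (hal : ∀ r ∈ w, r ∈ f4Allowed)
    (h : prodBits ((List.replicate p w).flatten.map f4Tab2) = idBits) (v : ℕ)
    (hlen : (prodBits (w.map f4Tab2)).length = 52)
    (hd : diff52 (vecMulF v (prodBits (w.map f4Tab2))) v = true) : orderOf x = p := by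
  apply orderOf_eq_prime (pow_eq_one_of_bits x w hx p hal h)
  intro h1
  apply gW_ne_one_of_bits w hal v hlen hd
  rw [← hx, h1, map_one]

/-- the same, searching the moved basis vector -/
theorem gW_ne_one_of_any (w : List ℕ) (hal : ∀ r ∈ w, r ∈ f4Allowed)
    (hlen : (prodBits (w.map f4Tab2)).length = 52)
    (hd : (List.range 52).any (fun k => diff52 (vecMulF (2 ^ k) (prodBits (w.map f4Tab2))) (2 ^ k)) = true) :
    gW w ≠ 1 := by
  rw [List.any_eq_true] at hd
  obtain ⟨k, _, hk⟩ := hd
  exact gW_ne_one_of_bits w hal (2 ^ k) hlen hk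

theorem orderOf_eq_prime_of_any (p : ℕ) [Fact p.Prime] (x : TitsGroup) (w : List ℕ) (hx : titsVal x = gW w)
    (hal : ∀ r ∈ w, r ∈ f4Allowed)
    (h : prodBits ((List.replicate p w).flatten.map f4Tab2) = idBits)
    (hlen : (prodBits (w.map f4Tab2)).length = 52)
    (hd : (List.range 52).any (fun k => diff52 (vecMulF (2 ^ k) (prodBits (w.map f4Tab2))) (2 ^ k)) = true) :
    orderOf x = p := by
  apply orderOf_eq_prime (pow_eq_one_of_bits x w hx p hal h)
  intro h1
  apply gW_ne_one_of_any w hal hlen hd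
  rw [← hx, h1, map_one]

end Cfsg.Agent.Lib.Helper1.TitsGen
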