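import Cfsg.Agent.Lib.Helper1.TitsOrd13
import Cfsg.Agent.Lib.Helper89.SafePres
import Cfsg.Agent.S1074

/-! # The Schur multiplier of the Tits group: the final assembly over the primes 2, 3, 5, 13 (helper1; S2115) -/

set_option autoImplicit false

namespace Cfsg.Agent.Lib.Helper1.TitsGen

open Cfsg Cfsg.Lie Cfsg.Agent.Lib.Helper89.StemSafe

theorem tits_card : Nat.card TitsGroup = 17971200 := by
  rw [Cfsg.Agent.S1074.result.2.2.2]; norm_num

instance titsmain_finite : Finite TitsGroup := Nat.finite_of_card_ne_zero (by rw [tits_card]; norm_num)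

/-- the primes dividing the order of the Tits group -/
theorem titsmain_primes (p : ℕ) (hp : p.Prime) (hpd : p ∣ 17971200) : p = 2 ∨ p = 3 ∨ p = 5 ∨ p = 13 := by
  have hfac : (17971200 : ℕ) = 2 ^ 11 * 3 ^ 3 * 5 ^ 2 * 13 := by norm_num
  rw [hfac] at hpd
  rcases (Nat.Prime.dvd_mul hp).1 hpd with h | h
  · rcases (Nat.Prime.dvd_mul hp).1 h with h | h
    · rcases (Nat.Prime.dvd_mul hp).1 h with h | h
      · left
        exact (Nat.prime_dvd_prime_iff_eq hp (by norm_num)).1 (hp.dvd_of_dvd_pow h)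
      · right; left
        exact (Nat.prime_dvd_prime_iff_eq hp (by norm_num)).1 (hp.dvd_of_dvd_pow h)
    · right; right; left
      exact (Nat.prime_dvd_prime_iff_eq hp (by norm_num)).1 (hp.dvd_of_dvd_pow h)
  · right; right; right
    exact (Nat.prime_dvd_prime_iff_eq hp (by norm_num)).1 h

/-- **Final assembly**: the Schur multiplier of the Tits group is trivial, given the three statements on kernels
at the primes 2, 3, 5 (the prime 13 is handled by the cyclic Sylow subgroup). -/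
theorem tits_multiplier_of
    (h2 : ∀ (Γ : Type) [Group Γ] [Finite Γ] (σ : Γ →* TitsGroup), Cfsg.IsStemExtension σ →
      ∀ z ∈ σ.ker, ¬ 2 ∣ orderOf z)
    (h3 : ∀ (Γ : Type) [Group Γ] [Finite Γ] (σ : Γ →* TitsGroup), Cfsg.IsStemExtension σ →
      ∀ z ∈ σ.ker, ¬ 3 ∣ orderOf z)
    (h5 : ∀ (Γ : Type) [Group Γ] [Finite Γ] (σ : Γ →* TitsGroup), Cfsg.IsStemExtension σ →
      ∀ z ∈ σ.ker, ¬ 5 ∣ orderOf z) :
    Cfsg.HasCyclicSchurMultiplier TitsGroup 1 := by
  apply hasCyclic_one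
  intro Γ _ _ σ hσ
  apply ker_eq_bot_of_forall_prime σ hσ
  intro p hp hpd z hz
  rw [tits_card] at hpd
  rcases titsmain_primes p hp hpd with rfl | rfl | rfl | rfl
  · exact h2 Γ σ hσ z hz
  · exact h3 Γ σ hσ z hz
  · exact h5 Γ σ hσ z hz
  · obtain ⟨g, a, m, hg, hm, hpm⟩ := tits_cyclic_sylow_13 tits_card
    exact not_dvd_of_cyclic_sylow σ hσ 13 hp g a m hg hm hpm hz

/-- the `p = 2` clause from the triviality of kernels that are `2`-groups -/
theorem tits_h2_of (h : ∀ (Γ' : Type) [Group Γ'] [Finite Γ'] (σ' : Γ' →* TitsGroup), Cfsg.IsStemExtension σ' →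
      (∀ z ∈ σ'.ker, ∃ n : ℕ, z ^ (2 ^ n) = 1) → σ'.ker = ⊥)
    (Γ : Type) [Group Γ] [Finite Γ] (σ : Γ →* TitsGroup) (hσ : Cfsg.IsStemExtension σ) :
    ∀ z ∈ σ.ker, ¬ 2 ∣ orderOf z := by
  have : Fact (Nat.Prime 2) := ⟨Nat.prime_two⟩
  exact not_dvd_orderOf_of_pgroup_case 2 h σ hσ

end Cfsg.Agent.Lib.Helper1.TitsGen
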