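import Cfsg.Agent.Lib.Helper1.TitsEvenA
import Cfsg.Agent.Lib.Helper1.TitsMain
import Cfsg.Agent.Lib.Helper89.Mult.T2Bound

/-! # The Tits group: a stem extension whose kernel is a `2`-group is trivial (helper1; S2115)

the `p = 2` half: helper89's presentation of the Tits group on five elements of order `3` (coset enumeration certificates
`Helper89.Mult.T2L0 / T2L1 / T2L2`, indices `3 · 1872 · 3200 = 17971200`, bound `T2Bound.boundT2`) through helper89's criterion
`SafePres.ker_eq_bot_of_safe`; the relators are checked on packed matrices (`TitsEvenA.gE_ev_eq_one_of_all`). -/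

set_option autoImplicit false
set_option maxRecDepth 100000

namespace Cfsg.Agent.Lib.Helper1.TitsGen

open Cfsg Cfsg.Lie Cfsg.Agent.Lib.Helper89.CosetCert Cfsg.Agent.Lib.Helper89.SafePres
open Cfsg.Agent.Lib.Helper89.Mult.T2Bound (srelsT2 boundT2)

/-- the relators of helper89's presentation hold for the five `3`-elements `gE` (on packed matrices) -/
theorem titseven_words_ok : (srelsT2.map SRel.word).all relOKE = true := by decide +kernel

theorem titseven_valid : ∀ r ∈ srelsT2, ev gE r.word = 1 := fun _ hr =>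
  gE_ev_eq_one_of_all _ titseven_words_ok _ (List.mem_map_of_mem hr)

/-- **the prime 2**: a stem extension of the Tits group whose kernel is a `2`-group is trivial -/
theorem tits_ker_eq_bot_two (Γ : Type) [Group Γ] [Finite Γ] (σ : Γ →* TitsGroup) (hσ : Cfsg.IsStemExtension σ)
    (hpk : ∀ z ∈ σ.ker, ∃ n : ℕ, z ^ (2 ^ n) = 1) : σ.ker = ⊥ := by
  have : Fact (Nat.Prime 2) := ⟨Nat.prime_two⟩
  refine ker_eq_bot_of_safe 2 5 gE (fun _ => 3) gE_pow_three (fun _ => by norm_num) gE_closure srelsT2
    titseven_valid ?_ σ hσ hpk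
  intro L _ _ t ht hs
  rw [tits_card]
  exact boundT2 L t ht hs

/-- no element of even order in the kernel of a stem extension of the Tits group -/
theorem tits_not_dvd_two (Γ : Type) [Group Γ] [Finite Γ] (σ : Γ →* TitsGroup) (hσ : Cfsg.IsStemExtension σ) :
    ∀ z ∈ σ.ker, ¬ 2 ∣ orderOf z :=
  tits_h2_of (fun Γ' _ _ σ' hσ' hpk => tits_ker_eq_bot_two Γ' σ' hσ' hpk) Γ σ hσ

end Cfsg.Agent.Lib.Helper1.TitsGen
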