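import Cfsg.Agent.Lib.Helper1.TitsGen
import Cfsg.Agent.Lib.Helper36.TitsIdx

/-! # `²F₄(2)`: involutions and elements of order three lie in the derived subgroup (helper1) -/

set_option autoImplicit false

namespace Cfsg.Agent.Lib.Helper1.TitsGen

open Cfsg Cfsg.Lie Cfsg.Agent.Lib.Helper18 Cfsg.Agent.Lib.Helper36

local notation "𝔾" => twistedF4 (ZMod 2) 1

/-! ## membership in the derived subgroup: involutions and elements of order three -/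

/-- squares lie in the derived subgroup (index at most two) -/
theorem titsgen_sq_mem (y : ↥𝔾) : y * y ∈ commutator ↥𝔾 := by
  rw [← Abelianization.ker_of, MonoidHom.mem_ker, map_mul, ← pow_two]
  have h : Nat.card (Abelianization ↥𝔾) ∣ 2 := titsidx_card_ab
  exact orderOf_dvd_iff_pow_eq_one.1 ((orderOf_dvd_natCard _).trans h)

/-- an element of `²F₄(2)` with `x³ = 1` lies in the derived subgroup -/
theorem mem_comm_of_cube (x : GL chevF4.Idx (ZMod 2)) (hx : x ∈ twistedF4 (ZMod 2) 1) (h3 : x * x * x = 1) :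
    (⟨x, hx⟩ : ↥(twistedF4 (ZMod 2) 1)) ∈ commutator ↥(twistedF4 (ZMod 2) 1) := by
  have hy3 : (⟨x, hx⟩ : ↥𝔾) * ⟨x, hx⟩ * ⟨x, hx⟩ = 1 := Subtype.ext h3
  have e : (⟨x, hx⟩ : ↥𝔾) = (⟨x, hx⟩ * ⟨x, hx⟩) * (⟨x, hx⟩ * ⟨x, hx⟩) := by
    calc (⟨x, hx⟩ : ↥𝔾) = ⟨x, hx⟩ * (⟨x, hx⟩ * ⟨x, hx⟩ * ⟨x, hx⟩) := by rw [hy3, mul_one]
      _ = (⟨x, hx⟩ * ⟨x, hx⟩) * (⟨x, hx⟩ * ⟨x, hx⟩) := by group
  rw [e]
  exact mul_mem (titsgen_sq_mem _) (titsgen_sq_mem _)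

/-- an element of `²F₄(2)` with `x² = 1` lies in the derived subgroup (helper36's `f4_tits_invol`) -/
theorem mem_comm_of_sq (x : GL chevF4.Idx (ZMod 2)) (hx : x ∈ twistedF4 (ZMod 2) 1) (h2 : x * x = 1) :
    (⟨x, hx⟩ : ↥(twistedF4 (ZMod 2) 1)) ∈ commutator ↥(twistedF4 (ZMod 2) 1) := by
  by_cases h1 : (⟨x, hx⟩ : ↥𝔾) = 1
  · rw [h1]; exact one_mem _
  · have : Fact (Nat.Prime 2) := ⟨Nat.prime_two⟩
    have hy2 : (⟨x, hx⟩ : ↥𝔾) ^ 2 = 1 := by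
      rw [pow_two]; exact Subtype.ext h2
    exact f4_tits_invol _ (orderOf_eq_prime hy2 h1)

end Cfsg.Agent.Lib.Helper1.TitsGen
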