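import Cfsg.Agent.Lib.Helper1.TitsEv
import Cfsg.Agent.Lib.Helper1.TitsGenMem

/-! # The Tits group: an element of order 13, and the cyclic-Sylow clause at `p = 13` (helper1; for S2115) -/

set_option autoImplicit false

namespace Cfsg.Agent.Lib.Helper1.TitsGen

open Cfsg Cfsg.Lie Cfsg.Agent.Lib.Helper18 Cfsg.Agent.Lib.Helper36

local notation "𝔾" => twistedF4 (ZMod 2) 1

/-- an element of `²F₄(2)` of odd order lies in the derived subgroup (index at most two) -/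
theorem mem_comm_of_pow_odd (n : ℕ) (hn : Odd n) (x : GL chevF4.Idx (ZMod 2)) (hx : x ∈ twistedF4 (ZMod 2) 1)
    (h : x ^ n = 1) : (⟨x, hx⟩ : ↥(twistedF4 (ZMod 2) 1)) ∈ commutator ↥(twistedF4 (ZMod 2) 1) := by
  obtain ⟨k, rfl⟩ := hn
  have hy : (⟨x, hx⟩ : ↥𝔾) ^ (2 * k + 1) = 1 := Subtype.ext (by rw [Subgroup.coe_pow]; exact h)
  have e : (⟨x, hx⟩ : ↥𝔾) = ((⟨x, hx⟩ : ↥𝔾) * ⟨x, hx⟩) ^ (k + 1) := by
    have h1 : ((⟨x, hx⟩ : ↥𝔾) * ⟨x, hx⟩) ^ (k + 1) = (⟨x, hx⟩ : ↥𝔾) ^ (2 * k + 1) * ⟨x, hx⟩ := by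
      rw [← pow_two, ← pow_mul, ← pow_succ]
      congr 1
    rw [h1, hy, one_mul]
  rw [e]
  exact pow_mem (titsgen_sq_mem _) _

/-- the root word of `P · P' · C01 · C'01`, an element of order 13 -/
def w13 : List ℕ := [33, 24, 14, 23, 28, 30, 22, 20, 22, 20]

theorem w13_mem : gW w13 ∈ twistedF4 (ZMod 2) 1 :=
  gW_flatten_mem [[33, 24], [14, 23], [28, 30], [22, 20, 22, 20]] (by decide)

theorem w13_pow : gW w13 ^ 13 = 1 := by
  have e : gW w13 ^ 13 = gW (List.replicate 13 w13).flatten := by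
    rw [gW_flatten, List.map_replicate, List.prod_replicate]
  rw [e]
  refine gW_eq_one _ (fun r hr => ?_) (by decide +kernel)
  rw [List.mem_flatten] at hr
  obtain ⟨l, hl, hrl⟩ := hr
  rw [List.eq_of_mem_replicate hl] at hrl
  revert r
  decide

/-- the element of order 13 of the Tits group -/
noncomputable def x13 : TitsGroup :=
  titsOf (gW w13) ⟨w13_mem, mem_comm_of_pow_odd 13 (by decide) _ w13_mem w13_pow⟩

theorem titsVal_x13 : titsVal x13 = gW w13 := rfl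

theorem orderOf_x13 : orderOf x13 = 13 := by
  have : Fact (Nat.Prime 13) := ⟨by norm_num⟩
  exact orderOf_eq_prime_of_any 13 x13 w13 titsVal_x13 (by decide) (by decide +kernel) (by decide +kernel)
    (by decide +kernel)

/-- the cyclic-Sylow clause of `Helper89.SafePres.hasCyclic_one_of_primes` at `p = 13` -/
theorem tits_cyclic_sylow_13 (hcard : Nat.card TitsGroup = 17971200) :
    ∃ (g : TitsGroup) (a m : ℕ), orderOf g = 13 ^ a ∧ m * 13 ^ a = Nat.card TitsGroup ∧ ¬ 13 ∣ m :=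
  ⟨x13, 1, 1382400, by rw [pow_one]; exact orderOf_x13, by rw [hcard]; norm_num, by norm_num⟩

end Cfsg.Agent.Lib.Helper1.TitsGen
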