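import Cfsg.Agent.Lib.Helper1.TitsEvenGen
import Cfsg.Agent.Lib.Helper1.TitsOrd13

/-! # The Tits group: helper89's five elements of order three as elements of the group (helper1; S2115, `p = 2` half)

the family `gE`, the orders, the generation (`gE_closure`) and the validity check of relators on packed matrices. -/

set_option autoImplicit false
set_option maxRecDepth 100000

namespace Cfsg.Agent.Lib.Helper1.TitsGen

open Cfsg Cfsg.Lie Cfsg.Agent.Lib.Helper18 Cfsg.Agent.Lib.Helper36 Cfsg.Agent.Lib.Helper89.CosetCert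
open Cfsg.Agent.Lib.Helper31.F4P

/-- the decomposition of `wE i` into generator words of `²F₄(2)` and reversed generator words (`gens16` of `p2.json`) -/
def wEgen (i : ℕ) : List (List ℕ) :=
  if i = 0 then [[27, 25, 30], [20, 22, 17], [33, 24], [22, 20, 22, 20], [14, 23], [22, 20, 22, 20], [17, 22, 20], [30, 25, 27]] else
  if i = 1 then [[17, 20, 22], [14, 23], [33, 24], [17, 20, 22], [14, 23], [22, 20, 17], [23, 14], [22, 20, 17]] else
  if i = 2 then [[17, 20, 22], [14, 23], [22, 20, 17], [33, 24], [14, 23], [22, 20, 17], [28, 25, 27], [33, 24], [17, 20, 22], [14, 23], [17, 20, 22], [23, 14], [22, 20, 17], [24, 33], [23, 14], [22, 20, 17], [27, 25, 30], [20, 22, 17], [20, 22, 20, 22], [23, 14], [20, 22, 20, 22], [24, 33], [17, 22, 20], [30, 25, 27], [17, 20, 22], [14, 23], [17, 20, 22], [23, 14], [22, 20, 17], [24, 33], [23, 14], [22, 20, 17], [27, 25, 30], [20, 22, 17], [33, 24], [22, 20, 22, 20], [14, 23], [22, 20, 22, 20], [17, 22, 20], [30, 25, 27], [17, 20, 22], [14,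 23], [17, 20, 22], [23, 14], [22, 20, 17], [24, 33], [23, 14], [22, 20, 17], [27, 25, 30], [20, 22, 17], [20, 22, 20, 22], [23, 14], [20, 22, 20, 22], [24, 33], [17, 22, 20], [30, 25, 27], [17, 20, 22], [14, 23], [33, 24], [17, 20, 22], [14, 23], [22, 20, 17], [23, 14], [22, 20, 17], [27, 25, 30], [20, 22, 17], [33, 24], [22, 20, 22, 20], [14, 23], [22, 20, 22, 20], [17, 22, 20], [30, 25, 27], [17, 20, 22], [14, 23], [17, 20, 22], [23, 14], [22, 20, 17], [24, 33], [23, 14], [22, 20, 17], [27, 25, 30], [20, 22, 17], [33, 24], [22, 20, 22, 20], [14, 23], [22, 20, 22, 20], [17, 22, 20], [30, 25, 27], [17, 20, 22], [14, 23], [17, 20, 22], [23, 14], [22, 20, 17], [24, 33], [23, 14], [22, 20, 17], [27, 25, 30], [20, 22, 17], [20, 22, 20, 22], [23, 14], [20, 22, 20, 22], [24, 33], [17, 22, 20], [30, 25, 27], [17, 20, 22], [14, 23], [17, 20, 22], [23, 14], [22, 20, 17], [24, 33], [23, 14], [22, 20, 17], [24, 33], [27, 25, 28], [17, 20, 22], [23, 14], [24, 33], [17, 20, 22], [23, 14], [22,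 20, 17]] else
  if i = 3 then [[17, 20, 22], [14, 23], [22, 20, 17], [33, 24], [14, 23], [22, 20, 17], [28, 25, 27], [33, 24], [17, 20, 22], [14, 23], [17, 20, 22], [23, 14], [22, 20, 17], [24, 33], [23, 14], [22, 20, 17], [27, 25, 30], [20, 22, 17], [20, 22, 20, 22], [23, 14], [20, 22, 20, 22], [24, 33], [17, 22, 20], [30, 25, 27], [17, 20, 22], [14, 23], [17, 20, 22], [23, 14], [22, 20, 17], [24, 33], [23, 14], [22, 20, 17], [27, 25, 30], [20, 22, 17], [33, 24], [22, 20, 22, 20], [14, 23], [22, 20, 22, 20], [17, 22, 20], [30, 25, 27], [17, 20, 22], [14, 23], [33, 24], [17, 20, 22], [14, 23], [22, 20, 17], [23, 14], [22, 20, 17], [27, 25, 30], [20, 22, 17], [20, 22, 20, 22], [23, 14], [20, 22, 20, 22], [24, 33], [17, 22, 20], [30, 25, 27], [17, 20, 22], [14, 23], [33, 24], [17, 20, 22], [14, 23], [22, 20, 17], [23, 14], [22, 20, 17], [27, 25, 30], [20, 22, 17], [20, 22, 20, 22], [23, 14], [20, 22, 20, 22], [24, 33], [17, 22, 20], [30, 25, 27], [17, 20, 22], [14, 23], [17, 20,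 22], [23, 14], [22, 20, 17], [24, 33], [23, 14], [22, 20, 17], [27, 25, 30], [20, 22, 17], [33, 24], [22, 20, 22, 20], [14, 23], [22, 20, 22, 20], [17, 22, 20], [30, 25, 27], [17, 20, 22], [14, 23], [17, 20, 22], [23, 14], [22, 20, 17], [24, 33], [23, 14], [22, 20, 17], [24, 33], [27, 25, 28], [17, 20, 22], [23, 14], [24, 33], [17, 20, 22], [23, 14], [22, 20, 17]] else
  if i = 4 then [[17, 20, 22], [14, 23], [22, 20, 17], [33, 24], [14, 23], [22, 20, 17], [28, 25, 27], [33, 24], [17, 20, 22], [14, 23], [33, 24], [17, 20, 22], [14, 23], [22, 20, 17], [23, 14], [22, 20, 17], [27, 25, 30], [20, 22, 17], [20, 22, 20, 22], [23, 14], [20, 22, 20, 22], [24, 33], [17, 22, 20], [30, 25, 27], [17, 20, 22], [14, 23], [33, 24], [17, 20, 22], [14, 23], [22, 20, 17], [23, 14], [22, 20, 17], [27, 25, 30], [20, 22, 17], [33, 24], [22, 20, 22, 20], [14, 23], [22, 20, 22, 20], [17, 22, 20], [30, 25, 27], [17, 20, 22], [14, 23], [33, 24], [17, 20, 22], [14, 23], [22, 20, 17], [23, 14], [22, 20,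 17], [27, 25, 30], [20, 22, 17], [20, 22, 20, 22], [23, 14], [20, 22, 20, 22], [24, 33], [17, 22, 20], [30, 25, 27], [17, 20, 22], [14, 23], [17, 20, 22], [23, 14], [22, 20, 17], [24, 33], [23, 14], [22, 20, 17], [27, 25, 30], [20, 22, 17], [20, 22, 20, 22], [23, 14], [20, 22, 20, 22], [24, 33], [17, 22, 20], [30, 25, 27], [17, 20, 22], [14, 23], [17, 20, 22], [23, 14], [22, 20, 17], [24, 33], [23, 14], [22, 20, 17], [27, 25, 30], [20, 22, 17], [33, 24], [22, 20, 22, 20], [14, 23], [22, 20, 22, 20], [17, 22, 20], [30, 25, 27], [17, 20, 22], [14, 23], [17, 20, 22], [23, 14], [22, 20, 17], [24, 33], [23, 14], [22, 20, 17], [24, 33], [27, 25, 28], [17, 20, 22], [23, 14], [24, 33], [17, 20, 22], [23, 14], [22, 20, 17]] else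
  []

theorem evena_wE_ge (i : ℕ) (h : 5 ≤ i) : wE i = [] := by
  unfold wE
  rw [if_neg (by omega), if_neg (by omega), if_neg (by omega), if_neg (by omega), if_neg (by omega)]

theorem evena_flat : ∀ i < 5, (wEgen i).flatten = wE i := by decide +kernel

theorem evena_pieces : ∀ i < 5, ∀ w ∈ wEgen i, w ∈ genWords ∨ w.reverse ∈ genWords := by decide +kernel

theorem evena_mem (i : ℕ) (hi : i < 5) : gW (wE i) ∈ twistedF4 (ZMod 2) 1 := by
  rw [← evena_flat i hi]
  exact gW_flatten_mem _ (evena_pieces i hi)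

theorem evena_repW (i : ℕ) (hi : i < 5) : RepP (gW (wE i)) (PE i) :=
  repP_cast (repP_gW _ (evengen_allowed i hi)) (evengen_PE i hi)

theorem evena_cube_bits : ∀ i < 5, mulP (mulP (PE i) (PE i)) (PE i) = idP := by decide +kernel

theorem evena_cube (i : ℕ) (hi : i < 5) : gW (wE i) ^ 3 = 1 := by
  have e : gW (wE i) ^ 3 = gW (wE i) * gW (wE i) * gW (wE i) := by
    rw [pow_succ, pow_two]
  rw [e]
  exact repP_ext (repP_cast (repP_mul (repP_mul (evena_repW i hi) (evena_repW i hi)) (evena_repW i hi))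
    (evena_cube_bits i hi)) repP_one

theorem evena_hT : ∀ i < 5, ∃ hx : gW (wE i) ∈ twistedF4 (ZMod 2) 1,
    (⟨gW (wE i), hx⟩ : ↥(twistedF4 (ZMod 2) 1)) ∈ commutator ↥(twistedF4 (ZMod 2) 1) :=
  fun i hi => ⟨evena_mem i hi, mem_comm_of_pow_odd 3 (by decide) _ (evena_mem i hi) (evena_cube i hi)⟩

/-- helper89's five elements of order three, as elements of the Tits group -/
noncomputable def gE : ℕ → TitsGroup := titsFam 5 wE evena_hT

theorem titsVal_gE (i : ℕ) : titsVal (gE i) = gW (wE i) :=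
  titsVal_titsFam 5 wE evena_hT evena_wE_ge i

theorem gE_pow_three (i : ℕ) : gE i ^ 3 = 1 := by
  apply titsVal_injective
  rw [map_pow, titsVal_gE, map_one]
  by_cases hi : i < 5
  · exact evena_cube i hi
  · rw [evena_wE_ge i (not_lt.1 hi), gW_nil, one_pow]

/-- **the five elements of order three generate the Tits group** -/
theorem gE_closure : Subgroup.closure {y : TitsGroup | ∃ i < 5, y = gE i} = ⊤ :=
  gE_closure_of gE (fun i _ => titsVal_gE i)

/-- relators hold as soon as the packed matrices multiply to the identity -/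
def relOKE (word : Word) : Bool := word.all (fun l => decide (l < 2 * 5)) && decide (prodP (word.map PL) = idP)

theorem gE_ev_eq_one (word : Word) (h : relOKE word = true) : ev gE word = 1 := by
  unfold relOKE at h
  rw [Bool.and_eq_true, List.all_eq_true, decide_eq_true_eq] at h
  apply titsVal_injective
  rw [map_one]
  refine repP_ext (repP_cast (repP_ev_letters gE PL 5
    (evengen_rep_letter gE (fun i _ => titsVal_gE i)) word (fun l hl => ?_)) h.2) repP_one
  exact of_decide_eq_true (h.1 l hl)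

theorem gE_ev_eq_one_of_all (words : List Word) (h : words.all relOKE = true) : ∀ r ∈ words, ev gE r = 1 := by
  intro r hr
  rw [List.all_eq_true] at h
  exact gE_ev_eq_one r (h r hr)

end Cfsg.Agent.Lib.Helper1.TitsGen
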