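import Mathlib

/-! # An abstract generation criterion for the derived subgroup (helper1)

`T = closure S` inside the derived subgroup of a finite group `G = ⟨gens⟩`, stable under conjugation by the generators,
and with every generator in `T ∪ T a`, is the whole derived subgroup. -/

set_option autoImplicit false

namespace Cfsg.Agent.Lib.Helper1.TitsGen

open Subgroup
open scoped commutatorElement

/-- conjugation by `s` maps `closure S` into itself as soon as it maps `S` into `closure S` -/
theorem titsgen_conj_closure {G : Type*} [Group G] (S : Set G) (s : G)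
    (h : ∀ x ∈ S, s * x * s⁻¹ ∈ closure S) : ∀ y ∈ closure S, s * y * s⁻¹ ∈ closure S := by
  intro y hy
  induction hy using Subgroup.closure_induction with
  | mem x hx => exact h x hx
  | one => simp
  | mul x y _ _ hx hy =>
    have e : s * (x * y) * s⁻¹ = (s * x * s⁻¹) * (s * y * s⁻¹) := by group
    rw [e]; exact mul_mem hx hy
  | inv x _ hx =>
    have e : s * x⁻¹ * s⁻¹ = (s * x * s⁻¹)⁻¹ := by group
    rw [e]; exact inv_mem hx

/-- in a finite group, a subgroup mapped into itself by conjugation with `s` is normalised by `s` -/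
theorem titsgen_mem_normalizer {G : Type*} [Group G] [Finite G] (T : Subgroup G) (s : G)
    (h : ∀ y ∈ T, s * y * s⁻¹ ∈ T) : s ∈ normalizer (T : Set G) := by
  have hle : T.map (MulAut.conj s).toMonoidHom ≤ T := by
    rintro _ ⟨y, hy, rfl⟩
    exact h y hy
  have hcard : Nat.card T ≤ Nat.card (T.map (MulAut.conj s).toMonoidHom) := by
    have e : T ≃ T.map (MulAut.conj s).toMonoidHom :=
      (T.equivMapOfInjective (MulAut.conj s).toMonoidHom (MulAut.conj s).injective).toEquiv
    exact le_of_eq (Nat.card_congr e)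
  have heq : T.map (MulAut.conj s).toMonoidHom = T := Subgroup.eq_of_le_of_card_ge hle hcard
  rw [Subgroup.mem_normalizer_iff]
  intro y
  constructor
  · exact h y
  · intro hy
    rw [← heq] at hy
    obtain ⟨z, hz, hzy⟩ := hy
    have : z = y := by
      have h1 : s * z * s⁻¹ = s * y * s⁻¹ := hzy
      have h2 : s * z = s * y := mul_right_cancel h1
      exact mul_left_cancel h2
    rw [← this]; exact hz

/-- **The abstract generation criterion.** -/
theorem titsgen_abs {G : Type*} [Group G] [Finite G] (gens : Set G) (hgen : closure gens = ⊤) (S : Set G) (a : G)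
    (hS : ∀ x ∈ S, x ∈ commutator G)
    (hconj : ∀ s ∈ gens, ∀ x ∈ S, s * x * s⁻¹ ∈ closure S)
    (hcos : ∀ s ∈ gens, s ∈ closure S ∨ s * a⁻¹ ∈ closure S) :
    closure S = commutator G := by
  apply le_antisymm
  · exact (closure_le _).2 hS
  · have hnorm : (closure S).Normal := by
      have htop : normalizer ((closure S : Subgroup G) : Set G) = ⊤ := by
        rw [eq_top_iff, ← hgen, closure_le]
        intro s hs
        exact titsgen_mem_normalizer _ s (titsgen_conj_closure S s (hconj s hs))
      exact Subgroup.normalizer_eq_top_iff.1 htop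
    -- every element is a power of `a` modulo `closure S`
    have hpow : ∀ g : G, ∃ i : ℤ, g * (a ^ i)⁻¹ ∈ closure S := by
      intro g
      have hg : g ∈ closure gens := by rw [hgen]; trivial
      induction hg using Subgroup.closure_induction with
      | mem s hs =>
        rcases hcos s hs with h | h
        · exact ⟨0, by simpa using h⟩
        · exact ⟨1, by simpa using h⟩
      | one => exact ⟨0, by simp⟩
      | mul x y _ _ hx hy =>
        obtain ⟨i, hi⟩ := hx
        obtain ⟨j, hj⟩ := hy
        refine ⟨i + j, ?_⟩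
        have e : x * y * (a ^ (i + j))⁻¹ = (x * (a ^ i)⁻¹) * (a ^ i * (y * (a ^ j)⁻¹) * (a ^ i)⁻¹) := by
          rw [zpow_add]; group
        rw [e]
        exact mul_mem hi (hnorm.conj_mem _ hj _)
      | inv x _ hx =>
        obtain ⟨i, hi⟩ := hx
        refine ⟨-i, ?_⟩
        have e : x⁻¹ * (a ^ (-i))⁻¹ = (a ^ i)⁻¹ * (x * (a ^ i)⁻¹)⁻¹ * ((a ^ i)⁻¹)⁻¹ := by
          rw [zpow_neg]; group
        rw [e]
        exact hnorm.conj_mem _ (inv_mem hi) _
    rw [commutator_def, Subgroup.commutator_le]
    intro g _ h _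
    obtain ⟨i, hi⟩ := hpow g
    obtain ⟨j, hj⟩ := hpow h
    -- pass to the quotient
    let π := QuotientGroup.mk' (closure S)
    have hg : π g = π (a ^ i) := by
      rw [QuotientGroup.mk'_apply, QuotientGroup.mk'_apply, QuotientGroup.eq]
      have h1 : g⁻¹ * a ^ i = g⁻¹ * (g * (a ^ i)⁻¹)⁻¹ * g⁻¹⁻¹ := by group
      rw [h1]
      exact hnorm.conj_mem _ (inv_mem hi) _
    have hh : π h = π (a ^ j) := by
      rw [QuotientGroup.mk'_apply, QuotientGroup.mk'_apply, QuotientGroup.eq]
      have h1 : h⁻¹ * a ^ j = h⁻¹ * (h * (a ^ j)⁻¹)⁻¹ * h⁻¹⁻¹ := by group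
      rw [h1]
      exact hnorm.conj_mem _ (inv_mem hj) _
    have hker : π ⁅g, h⁆ = 1 := by
      rw [map_commutatorElement, hg, hh, map_zpow, map_zpow, commutatorElement_eq_one_iff_commute]
      exact (Commute.refl (π a)).zpow_zpow i j
    have := (QuotientGroup.eq_one_iff _).1 hker
    exact this

/-- the closure of a subset of a subgroup `H`, computed inside `H` -/
theorem titsgen_map_closure_preimage {G : Type*} [Group G] (H : Subgroup G) (S : Set G) (hS : ∀ x ∈ S, x ∈ H) :
    (closure (H.subtype ⁻¹' S)).map H.subtype = closure S := by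
  rw [MonoidHom.map_closure]
  congr 1
  ext g
  constructor
  · rintro ⟨y, hy, rfl⟩; exact hy
  · intro hg; exact ⟨⟨g, hS g hg⟩, hg, rfl⟩

theorem titsgen_mem_closure_preimage {G : Type*} [Group G] (H : Subgroup G) (S : Set G) (hS : ∀ x ∈ S, x ∈ H)
    (z : H) : z ∈ closure (H.subtype ⁻¹' S) ↔ (z : G) ∈ closure S := by
  rw [← titsgen_map_closure_preimage H S hS]
  constructor
  · intro h; exact ⟨z, h, rfl⟩
  · rintro ⟨y, hy, hyz⟩
    have : y = z := Subtype.ext hyz
    rw [← this]; exact hy

theorem titsgen_closure_preimage_top {G : Type*} [Group G] (H : Subgroup G) (S : Set G) (hS : ∀ x ∈ S, x ∈ H)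
    (h : closure S = H) : closure (H.subtype ⁻¹' S) = ⊤ := by
  apply Subgroup.map_injective H.subtype_injective
  rw [titsgen_map_closure_preimage H S hS, h, ← MonoidHom.range_eq_map, Subgroup.range_subtype]

end Cfsg.Agent.Lib.Helper1.TitsGen
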