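import Cfsg.Agent.Lib.Helper36.F4TitsA
import Cfsg.Agent.Lib.Helper1.TitsGenAbs

/-! # `²F₄(2)`: eight explicit generating words, and a generation criterion for the Tits group (helper1) -/

set_option autoImplicit false

namespace Cfsg.Agent.Lib.Helper1.TitsGen

open Cfsg Cfsg.Lie Cfsg.Agent.Lib.Helper18 Cfsg.Agent.Lib.Helper36

local notation "𝔾" => twistedF4 (ZMod 2) 1

/-- the eight generating words (all parameters `1`) -/
def genWords : List (List ℕ) :=
  [[33, 24], [14, 23], [27, 25, 28], [28, 30], [27, 25, 30], [22, 20, 17], [22, 20, 22, 20], [20, 22, 17]]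

/-- the eight generators of `²F₄(2)` -/
def genSet : Set (GL chevF4.Idx (ZMod 2)) := {g | ∃ w ∈ genWords, g = gW w}

theorem titsgen_mem_genSet (w : List ℕ) (hw : w ∈ genWords) : gW w ∈ genSet := ⟨w, hw, rfl⟩

/-! ## words with parameters versus words with all parameters `1` (as in helper36's `F4TitsB`) -/

theorem titsgen_wordGL_eq_gW (w : List (ℕ × ZMod 2)) (w' : List ℕ) (hw : ∀ p ∈ w, p.1 ∈ f4Allowed)
    (hw' : ∀ r ∈ w', r ∈ f4Allowed) (h : prodBits (w.map f4TabP) = prodBits (w'.map f4Tab2)) :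
    wordGL chevF4 hF4 (ZMod 2) w = gW w' :=
  Units.ext (by rw [wordGL_coe, f4_wordMat_bitsP w hw, gW_coe w' hw', h])

theorem titsgen_wordGL_eq_one (w : List (ℕ × ZMod 2)) (hw : ∀ p ∈ w, p.1 ∈ f4Allowed)
    (h : prodBits (w.map f4TabP) = idBits) :
    wordGL chevF4 hF4 (ZMod 2) w = 1 :=
  Units.ext (by rw [wordGL_coe, f4_wordMat_bitsP w hw, h, ← bitMat_one]; rfl)

/-! ## the positive words and the pair words: bit computations -/

theorem titsgen_pair0 : wordGL chevF4 hF4 (ZMod 2) (f4PairWord 1 f4p1 f4p4 (0 : ZMod 2)) = 1 :=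
  titsgen_wordGL_eq_one _ (by decide) (by decide +kernel)

theorem titsgen_pair1 : wordGL chevF4 hF4 (ZMod 2) (f4PairWord 1 f4p1 f4p4 (1 : ZMod 2)) = gW [33, 24] :=
  titsgen_wordGL_eq_gW _ _ (by decide) (by decide) (by decide +kernel)

theorem titsgen_npair0 : wordGL chevF4 hF4 (ZMod 2) (f4PairWord 1 f4m1 f4m4 (0 : ZMod 2)) = 1 :=
  titsgen_wordGL_eq_one _ (by decide) (by decide +kernel)

theorem titsgen_npair1 : wordGL chevF4 hF4 (ZMod 2) (f4PairWord 1 f4m1 f4m4 (1 : ZMod 2)) = gW [14, 23] :=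
  titsgen_wordGL_eq_gW _ _ (by decide) (by decide) (by decide +kernel)

theorem titsgen_class00 :
    wordGL chevF4 hF4 (ZMod 2) (b2ClassWord 1 f4a f4b f4ab f4aab (0 : ZMod 2) 0) = 1 :=
  titsgen_wordGL_eq_one _ (by decide) (by decide +kernel)

theorem titsgen_class10 :
    wordGL chevF4 hF4 (ZMod 2) (b2ClassWord 1 f4a f4b f4ab f4aab (1 : ZMod 2) 0) = gW [27, 25, 28] :=
  titsgen_wordGL_eq_gW _ _ (by decide) (by decide) (by decide +kernel)

theorem titsgen_class01 :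
    wordGL chevF4 hF4 (ZMod 2) (b2ClassWord 1 f4a f4b f4ab f4aab (0 : ZMod 2) 1) = gW [28, 30] :=
  titsgen_wordGL_eq_gW _ _ (by decide) (by decide) (by decide +kernel)

theorem titsgen_class11 :
    wordGL chevF4 hF4 (ZMod 2) (b2ClassWord 1 f4a f4b f4ab f4aab (1 : ZMod 2) 1) = gW [27, 25, 30] :=
  titsgen_wordGL_eq_gW _ _ (by decide) (by decide) (by decide +kernel)

/-! ## the negative class words: `x₁₉` is eliminated with the commutator relation -/

theorem titsgen_abs1 {G : Type*} [Group G] (a b c d : G) (R : b * a = a * b * (c * d)) (hd : d * d = 1) :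
    a * b * c = b * a * d := by
  rw [R]
  calc a * b * c = a * b * c * (d * d) := by rw [hd, mul_one]
    _ = a * b * (c * d) * d := by group

theorem titsgen_abs2 {G : Type*} [Group G] (a b c d : G) (R : b * a = a * b * (c * d)) (ha : a * a = 1)
    (hb : b * b = 1) : c * d = b * a * b * a := by
  have ha' : a⁻¹ = a := inv_eq_of_mul_eq_one_right ha
  have hb' : b⁻¹ = b := inv_eq_of_mul_eq_one_right hb
  calc c * d = (a * b)⁻¹ * (a * b * (c * d)) := by group
    _ = (a * b)⁻¹ * (b * a) := by rw [R]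
    _ = b⁻¹ * a⁻¹ * b * a := by group
    _ = b * a * b * a := by rw [ha', hb']

theorem titsgen_sq (r : ℕ) : xGL chevF4 hF4 (ZMod 2) r 1 * xGL chevF4 hF4 (ZMod 2) r 1 = 1 := by
  rw [← Cfsg.Agent.Lib.Helper36.xGL_add]
  have : (1 : ZMod 2) + 1 = 0 := by decide
  rw [this, Cfsg.Agent.Lib.Helper36.xGL_zero]

theorem titsgen_rel : xGL chevF4 hF4 (ZMod 2) 22 1 * xGL chevF4 hF4 (ZMod 2) 20 1 =
    xGL chevF4 hF4 (ZMod 2) 20 1 * xGL chevF4 hF4 (ZMod 2) 22 1 *
      (xGL chevF4 hF4 (ZMod 2) 19 1 * xGL chevF4 hF4 (ZMod 2) 17 1) := by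
  have h := f4_comm_ab_neg (K := ZMod 2) 1 1
  have e1 : (1 : ZMod 2) * 1 = 1 := by decide
  have e2 : (1 : ZMod 2) ^ 2 * 1 = 1 := by decide
  rw [e1, e2] at h
  exact h

theorem titsgen_gW3 (r s t : ℕ) : gW [r, s, t] =
    xGL chevF4 hF4 (ZMod 2) r 1 * xGL chevF4 hF4 (ZMod 2) s 1 * xGL chevF4 hF4 (ZMod 2) t 1 := by
  unfold gW f4W1
  simp only [List.map_cons, List.map_nil, f4_wordGL_cons, f4_wordGL_nil, mul_one, mul_assoc]

theorem titsgen_gW4 (r s t u : ℕ) : gW [r, s, t, u] =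
    xGL chevF4 hF4 (ZMod 2) r 1 * xGL chevF4 hF4 (ZMod 2) s 1 * xGL chevF4 hF4 (ZMod 2) t 1 *
      xGL chevF4 hF4 (ZMod 2) u 1 := by
  unfold gW f4W1
  simp only [List.map_cons, List.map_nil, f4_wordGL_cons, f4_wordGL_nil, mul_one, mul_assoc]

theorem titsgen_negword (t u : ZMod 2) :
    wordGL chevF4 hF4 (ZMod 2) (b2ClassWord 1 f4ma f4mb f4mab f4maab t u) =
      xGL chevF4 hF4 (ZMod 2) 20 (t ^ 1) * xGL chevF4 hF4 (ZMod 2) 22 t *
        xGL chevF4 hF4 (ZMod 2) 19 (t ^ (1 + 1) + u) * xGL chevF4 hF4 (ZMod 2) 17 (u ^ (2 * 1)) := by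
  unfold b2ClassWord f4ma f4mb f4mab f4maab
  simp only [f4_wordGL_cons, f4_wordGL_nil, mul_one, mul_assoc]

theorem titsgen_n10 : xGL chevF4 hF4 (ZMod 2) 20 1 * xGL chevF4 hF4 (ZMod 2) 22 1 * xGL chevF4 hF4 (ZMod 2) 19 1 =
    xGL chevF4 hF4 (ZMod 2) 22 1 * xGL chevF4 hF4 (ZMod 2) 20 1 * xGL chevF4 hF4 (ZMod 2) 17 1 :=
  titsgen_abs1 (xGL chevF4 hF4 (ZMod 2) 20 1) (xGL chevF4 hF4 (ZMod 2) 22 1) (xGL chevF4 hF4 (ZMod 2) 19 1)
    (xGL chevF4 hF4 (ZMod 2) 17 1) titsgen_rel (titsgen_sq 17)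

theorem titsgen_n01 : xGL chevF4 hF4 (ZMod 2) 19 1 * xGL chevF4 hF4 (ZMod 2) 17 1 =
    xGL chevF4 hF4 (ZMod 2) 22 1 * xGL chevF4 hF4 (ZMod 2) 20 1 * xGL chevF4 hF4 (ZMod 2) 22 1 *
      xGL chevF4 hF4 (ZMod 2) 20 1 :=
  titsgen_abs2 (xGL chevF4 hF4 (ZMod 2) 20 1) (xGL chevF4 hF4 (ZMod 2) 22 1) (xGL chevF4 hF4 (ZMod 2) 19 1)
    (xGL chevF4 hF4 (ZMod 2) 17 1) titsgen_rel (titsgen_sq 20) (titsgen_sq 22)

theorem titsgen_nclass00 :
    wordGL chevF4 hF4 (ZMod 2) (b2ClassWord 1 f4ma f4mb f4mab f4maab (0 : ZMod 2) 0) = 1 := by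
  rw [titsgen_negword]
  have e1 : (0 : ZMod 2) ^ 1 = 0 := by decide
  have e2 : (0 : ZMod 2) ^ (1 + 1) + 0 = 0 := by decide
  have e3 : (0 : ZMod 2) ^ (2 * 1) = 0 := by decide
  rw [e1, e2, e3]
  simp only [Cfsg.Agent.Lib.Helper36.xGL_zero, mul_one]

theorem titsgen_nclass10 :
    wordGL chevF4 hF4 (ZMod 2) (b2ClassWord 1 f4ma f4mb f4mab f4maab (1 : ZMod 2) 0) = gW [22, 20, 17] := by
  rw [titsgen_negword, titsgen_gW3]
  have e1 : (1 : ZMod 2) ^ 1 = 1 := by decide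
  have e2 : (1 : ZMod 2) ^ (1 + 1) + 0 = 1 := by decide
  have e3 : (0 : ZMod 2) ^ (2 * 1) = 0 := by decide
  rw [e1, e2, e3, Cfsg.Agent.Lib.Helper36.xGL_zero, mul_one]
  exact titsgen_n10

theorem titsgen_nclass01 :
    wordGL chevF4 hF4 (ZMod 2) (b2ClassWord 1 f4ma f4mb f4mab f4maab (0 : ZMod 2) 1) = gW [22, 20, 22, 20] := by
  rw [titsgen_negword, titsgen_gW4]
  have e1 : (0 : ZMod 2) ^ 1 = 0 := by decide
  have e2 : (0 : ZMod 2) ^ (1 + 1) + 1 = 1 := by decide
  have e3 : (1 : ZMod 2) ^ (2 * 1) = 1 := by decide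
  rw [e1, e2, e3]
  simp only [Cfsg.Agent.Lib.Helper36.xGL_zero, one_mul]
  exact titsgen_n01

theorem titsgen_nclass11 :
    wordGL chevF4 hF4 (ZMod 2) (b2ClassWord 1 f4ma f4mb f4mab f4maab (1 : ZMod 2) 1) = gW [20, 22, 17] := by
  rw [titsgen_negword, titsgen_gW3]
  have e1 : (1 : ZMod 2) ^ 1 = 1 := by decide
  have e2 : (1 : ZMod 2) ^ (1 + 1) + 1 = 0 := by decide
  have e3 : (1 : ZMod 2) ^ (2 * 1) = 1 := by decide
  rw [e1, e2, e3, Cfsg.Agent.Lib.Helper36.xGL_zero, mul_one]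

/-! ## the generators -/

theorem titsgen_word_cases (w : List (ℕ × ZMod 2)) (hw : w ∈ f4Words (ZMod 2) 1) :
    wordGL chevF4 hF4 (ZMod 2) w = 1 ∨ wordGL chevF4 hF4 (ZMod 2) w ∈ genSet := by
  rcases hw with ⟨t, rfl | rfl⟩ | ⟨t, u, rfl | rfl⟩
  · rcases zmod2_cases t with rfl | rfl
    · left; exact titsgen_pair0
    · right; rw [titsgen_pair1]; exact titsgen_mem_genSet _ (by decide)
  · rcases zmod2_cases t with rfl | rfl
    · left; exact titsgen_npair0
    · right; rw [titsgen_npair1]; exact titsgen_mem_genSet _ (by decide)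
  · rcases zmod2_cases t with rfl | rfl <;> rcases zmod2_cases u with rfl | rfl
    · left; exact titsgen_class00
    · right; rw [titsgen_class01]; exact titsgen_mem_genSet _ (by decide)
    · right; rw [titsgen_class10]; exact titsgen_mem_genSet _ (by decide)
    · right; rw [titsgen_class11]; exact titsgen_mem_genSet _ (by decide)
  · rcases zmod2_cases t with rfl | rfl <;> rcases zmod2_cases u with rfl | rfl
    · left; exact titsgen_nclass00
    · right; rw [titsgen_nclass01]; exact titsgen_mem_genSet _ (by decide)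
    · right; rw [titsgen_nclass10]; exact titsgen_mem_genSet _ (by decide)
    · right; rw [titsgen_nclass11]; exact titsgen_mem_genSet _ (by decide)

/-- the eight generators lie in `²F₄(2)` -/
theorem gen_mem (w : List ℕ) (hw : w ∈ genWords) : gW w ∈ 𝔾 := by
  simp only [genWords, List.mem_cons, List.not_mem_nil, or_false] at hw
  rcases hw with rfl | rfl | rfl | rfl | rfl | rfl | rfl | rfl
  · rw [← titsgen_pair1]; exact f4_pair_mem 1 1
  · rw [← titsgen_npair1]; exact f4_pair_neg_mem 1 1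
  · rw [← titsgen_class10]; exact f4_class_mem 1 1 0
  · rw [← titsgen_class01]; exact f4_class_mem 1 0 1
  · rw [← titsgen_class11]; exact f4_class_mem 1 1 1
  · rw [← titsgen_nclass10]; exact f4_class_neg_mem 1 1 0
  · rw [← titsgen_nclass01]; exact f4_class_neg_mem 1 0 1
  · rw [← titsgen_nclass11]; exact f4_class_neg_mem 1 1 1

/-- **(A)** `²F₄(2)` is generated by the eight explicit words. -/
theorem tits_gens : twistedF4 (ZMod 2) 1 = Subgroup.closure genSet := by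
  apply le_antisymm
  · unfold twistedF4 ChevalleyDatum.genSubgroup
    rw [Subgroup.closure_le]
    rintro g ⟨w, hw, hgw⟩
    have hg : g = wordGL chevF4 hF4 (ZMod 2) w := Units.ext (by rw [hgw, wordGL_coe])
    rw [hg]
    rcases titsgen_word_cases w hw with h | h
    · rw [h]; exact one_mem _
    · exact Subgroup.subset_closure h
  · rw [Subgroup.closure_le]
    rintro g ⟨w, hw, rfl⟩
    exact gen_mem w hw

/-! ## the generation criterion -/

theorem titsgen_genSet_le : ∀ x ∈ genSet, x ∈ 𝔾 := by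
  rintro x ⟨w, hw, rfl⟩
  exact gen_mem w hw

/-- `genSet`, pulled back to `²F₄(2)`, generates it -/
theorem titsgen_closure_top : Subgroup.closure ((𝔾).subtype ⁻¹' genSet) = ⊤ :=
  titsgen_closure_preimage_top 𝔾 genSet titsgen_genSet_le tits_gens.symm

theorem titsgen_gA_mem : gW wA ∈ 𝔾 := gen_mem _ (by decide)

instance titsgen_finite : Finite ↥𝔾 := Finite.of_injective (fun y : ↥𝔾 => (y : GL chevF4.Idx (ZMod 2))) Subtype.val_injective

/-- **(B)** the generation criterion, inside `²F₄(2)`: if `S` consists of elements of the derived subgroup, `closure S`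
is mapped into itself by conjugation with the eight generators `gW w` (`w ∈ genWords`), and every generator lies in
`closure S` or in `closure S * gW wA`, then the elements of `S` generate the derived subgroup. -/
theorem tits_closure_eq (S : Set (GL chevF4.Idx (ZMod 2)))
    (hS : ∀ x ∈ S, ∃ hx : x ∈ twistedF4 (ZMod 2) 1, (⟨x, hx⟩ : ↥(twistedF4 (ZMod 2) 1)) ∈ commutator ↥(twistedF4 (ZMod 2) 1))
    (hconj : ∀ w ∈ genWords, ∀ x ∈ S, gW w * x * (gW w)⁻¹ ∈ Subgroup.closure S)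
    (hcos : ∀ w ∈ genWords, gW w ∈ Subgroup.closure S ∨ gW w * (gW wA)⁻¹ ∈ Subgroup.closure S) :
    Subgroup.closure ((twistedF4 (ZMod 2) 1).subtype ⁻¹' S) = commutator ↥(twistedF4 (ZMod 2) 1) := by
  have hSG : ∀ x ∈ S, x ∈ 𝔾 := fun x hx => (hS x hx).1
  refine titsgen_abs ((𝔾).subtype ⁻¹' genSet) titsgen_closure_top ((𝔾).subtype ⁻¹' S) ⟨gW wA, titsgen_gA_mem⟩ ?_ ?_ ?_
  · intro y hy
    obtain ⟨hx, hc⟩ := hS (y : GL chevF4.Idx (ZMod 2)) hy
    exact hc
  · rintro ⟨s, hs⟩ ⟨w, hw, rfl⟩ ⟨x, hx⟩ hxS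
    rw [titsgen_mem_closure_preimage 𝔾 S hSG]
    exact hconj w hw x hxS
  · rintro ⟨s, hs⟩ ⟨w, hw, rfl⟩
    rcases hcos w hw with h | h
    · left
      rw [titsgen_mem_closure_preimage 𝔾 S hSG]
      exact h
    · right
      rw [titsgen_mem_closure_preimage 𝔾 S hSG]
      exact h

/-- **(B′)** the same, as subgroups of `GL`. -/
theorem tits_closure_eq_map (S : Set (GL chevF4.Idx (ZMod 2)))
    (hS : ∀ x ∈ S, ∃ hx : x ∈ twistedF4 (ZMod 2) 1, (⟨x, hx⟩ : ↥(twistedF4 (ZMod 2) 1)) ∈ commutator ↥(twistedF4 (ZMod 2) 1))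
    (hconj : ∀ w ∈ genWords, ∀ x ∈ S, gW w * x * (gW w)⁻¹ ∈ Subgroup.closure S)
    (hcos : ∀ w ∈ genWords, gW w ∈ Subgroup.closure S ∨ gW w * (gW wA)⁻¹ ∈ Subgroup.closure S) :
    Subgroup.closure S = (commutator ↥(twistedF4 (ZMod 2) 1)).map (twistedF4 (ZMod 2) 1).subtype := by
  rw [← tits_closure_eq S hS hconj hcos, titsgen_map_closure_preimage 𝔾 S (fun x hx => (hS x hx).1)]

/-- **(B″)** the same, inside the Tits group: the lifted elements generate it. -/
theorem tits_closure_top (S : Set (GL chevF4.Idx (ZMod 2)))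
    (hS : ∀ x ∈ S, ∃ hx : x ∈ twistedF4 (ZMod 2) 1, (⟨x, hx⟩ : ↥(twistedF4 (ZMod 2) 1)) ∈ commutator ↥(twistedF4 (ZMod 2) 1))
    (hconj : ∀ w ∈ genWords, ∀ x ∈ S, gW w * x * (gW w)⁻¹ ∈ Subgroup.closure S)
    (hcos : ∀ w ∈ genWords, gW w ∈ Subgroup.closure S ∨ gW w * (gW wA)⁻¹ ∈ Subgroup.closure S) :
    Subgroup.closure {y : TitsGroup | ((y : ↥(twistedF4 (ZMod 2) 1)) : GL chevF4.Idx (ZMod 2)) ∈ S} = ⊤ := by
  have h := tits_closure_eq S hS hconj hcos
  have hle : ∀ x ∈ ((𝔾).subtype ⁻¹' S), x ∈ commutator ↥𝔾 := by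
    intro y hy
    exact (hS (y : GL chevF4.Idx (ZMod 2)) hy).2
  exact titsgen_closure_preimage_top (commutator ↥𝔾) ((𝔾).subtype ⁻¹' S) hle h

/-! ## convenience: inverses and concatenations of words -/

theorem gW_nil : gW [] = 1 := by
  unfold gW f4W1
  simp only [List.map_nil, f4_wordGL_nil]

theorem gW_cons (r : ℕ) (w : List ℕ) : gW (r :: w) = xGL chevF4 hF4 (ZMod 2) r 1 * gW w := by
  unfold gW f4W1
  simp only [List.map_cons, f4_wordGL_cons]

theorem gW_singleton (r : ℕ) : gW [r] = xGL chevF4 hF4 (ZMod 2) r 1 := by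
  rw [gW_cons, gW_nil, mul_one]

/-- over `𝔽₂` the inverse of a word is the reversed word -/
theorem gW_inv (w : List ℕ) : (gW w)⁻¹ = gW w.reverse := by
  induction w with
  | nil => simp [gW_nil]
  | cons r w ih =>
    have hneg : (-1 : ZMod 2) = 1 := by decide
    have hinv : (xGL chevF4 hF4 (ZMod 2) r 1)⁻¹ = xGL chevF4 hF4 (ZMod 2) r 1 := by
      rw [Cfsg.Agent.Lib.Helper36.xGL_inv, hneg]
    rw [gW_cons, mul_inv_rev, ih, List.reverse_cons, gW_append, gW_singleton, hinv]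

theorem gW_flatten (ws : List (List ℕ)) : gW ws.flatten = (ws.map gW).prod := by
  induction ws with
  | nil => simp [gW_nil]
  | cons w ws ih => rw [List.flatten_cons, gW_append, ih, List.map_cons, List.prod_cons]

/-- a concatenation of generating words and reversed generating words lies in `²F₄(2)` -/
theorem gW_flatten_mem (ws : List (List ℕ)) (h : ∀ w ∈ ws, w ∈ genWords ∨ w.reverse ∈ genWords) :
    gW ws.flatten ∈ twistedF4 (ZMod 2) 1 := by
  rw [gW_flatten]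
  apply Subgroup.list_prod_mem
  intro x hx
  obtain ⟨w, hw, rfl⟩ := List.mem_map.1 hx
  rcases h w hw with h1 | h1
  · exact gen_mem w h1
  · have := inv_mem (gen_mem _ h1)
    rwa [gW_inv, List.reverse_reverse] at this

/-- a concatenation of words of `S` and reversed words of `S` lies in `closure S` -/
theorem gW_flatten_mem_closure (S : Set (GL chevF4.Idx (ZMod 2))) (ws : List (List ℕ))
    (h : ∀ w ∈ ws, gW w ∈ S ∨ gW w.reverse ∈ S) : gW ws.flatten ∈ Subgroup.closure S := by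
  rw [gW_flatten]
  apply Subgroup.list_prod_mem
  intro x hx
  obtain ⟨w, hw, rfl⟩ := List.mem_map.1 hx
  rcases h w hw with h1 | h1
  · exact Subgroup.subset_closure h1
  · have := inv_mem (Subgroup.subset_closure h1 : gW w.reverse ∈ Subgroup.closure S)
    rwa [gW_inv, List.reverse_reverse] at this

/-- the conjugate `gW w * gW v * (gW w)⁻¹` as a single word -/
theorem gW_conj (w v : List ℕ) : gW w * gW v * (gW w)⁻¹ = gW (w ++ v ++ w.reverse) := by
  rw [gW_inv, gW_append, gW_append]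

end Cfsg.Agent.Lib.Helper1.TitsGen
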