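import Cfsg.Agent.Lib.Helper1.TitsGen

/-! # The generation criterion for the Tits group, for an indexed family of generators (helper1)

the shape needed by `Helper89.SafePres.ker_eq_bot_of_safe` (`hgen`). -/

set_option autoImplicit false

namespace Cfsg.Agent.Lib.Helper1.TitsGen

open Cfsg Cfsg.Lie Cfsg.Agent.Lib.Helper18 Cfsg.Agent.Lib.Helper36

/-- **(B‴)** indexed version: `g i : TitsGroup` with underlying matrices `gW (w i)`, `i < k`. -/
theorem tits_closure_top_fam (k : ℕ) (w : ℕ → List ℕ) (g : ℕ → TitsGroup)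
    (hg : ∀ i < k, ((g i : ↥(twistedF4 (ZMod 2) 1)) : GL chevF4.Idx (ZMod 2)) = gW (w i))
    (hconj : ∀ v ∈ genWords, ∀ i < k,
      gW v * gW (w i) * (gW v)⁻¹ ∈ Subgroup.closure {x : GL chevF4.Idx (ZMod 2) | ∃ j < k, x = gW (w j)})
    (hcos : ∀ v ∈ genWords, gW v ∈ Subgroup.closure {x : GL chevF4.Idx (ZMod 2) | ∃ j < k, x = gW (w j)} ∨
      gW v * (gW wA)⁻¹ ∈ Subgroup.closure {x : GL chevF4.Idx (ZMod 2) | ∃ j < k, x = gW (w j)}) :
    Subgroup.closure {y : TitsGroup | ∃ i < k, y = g i} = ⊤ := by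
  have h := tits_closure_top {x : GL chevF4.Idx (ZMod 2) | ∃ j < k, x = gW (w j)} ?_ ?_ hcos
  · rw [← h]
    congr 1
    ext y
    constructor
    · rintro ⟨i, hi, rfl⟩
      exact ⟨i, hi, hg i hi⟩
    · rintro ⟨i, hi, hy⟩
      refine ⟨i, hi, ?_⟩
      apply Subtype.ext
      apply Subtype.ext
      rw [hy, hg i hi]
  · rintro x ⟨i, hi, rfl⟩
    rw [← hg i hi]
    exact ⟨(g i : ↥(twistedF4 (ZMod 2) 1)).2, (g i).2⟩
  · rintro v hv x ⟨i, hi, rfl⟩
    exact hconj v hv i hi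

end Cfsg.Agent.Lib.Helper1.TitsGen
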