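import Cfsg.Agent.Lib.Helper1.TitsOddV
import Cfsg.Agent.Lib.Helper1.TitsMain
import Cfsg.Agent.Lib.Helper92.Tits.ABound
import Cfsg.Agent.Lib.Helper93.SafeX

/-! # The Tits group: no odd prime divides the order of a kernel element of a stem extension (helper1; S2115)

the involution half of the proof (primes 3 and 5), from helper92's presentation on six `2A`-involutions (coset
enumeration certificates `Helper92.Tits.ABound.boundA`) through helper93's criterion `not_dvd_of_safe_x`. -/

set_option autoImplicit false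

namespace Cfsg.Agent.Lib.Helper1.TitsGen

open Cfsg Cfsg.Lie Cfsg.Agent.Lib.Helper89.CosetCert Cfsg.Agent.Lib.Helper89.SafePres
open Cfsg.Agent.Lib.Helper92.Tits (srelsA xrelA boundA)

/-- **the odd primes** -/
theorem tits_not_dvd_odd (p : ℕ) [hp : Fact p.Prime] (a m : ℕ) (hcard : 17971200 = p ^ a * m) (hm : ¬ p ∣ m)
    (hp2 : p ≠ 2) (Γ : Type) [Group Γ] [Finite Γ] (σ : Γ →* TitsGroup) (hσ : Cfsg.IsStemExtension σ) :
    ∀ z ∈ σ.ker, ¬ p ∣ orderOf z := by
  have hodd : Odd p := hp.out.odd_of_ne_two hp2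
  refine Cfsg.Agent.Lib.Helper93.StemCyc.not_dvd_of_safe_x p a m (by rw [tits_card]; exact hcard) hm 6 gA
    (fun _ => 2) gA_pow_two ?_ gA_closure srelsA odd_valid [xrelA] odd_xvalid ?_ σ hσ
  · intro i
    exact (Nat.coprime_primes Nat.prime_two hp.out).2 (Ne.symm hp2)
  · intro L _ _ t ht hs hx
    rw [tits_card]
    exact boundA L t ht hs (p ^ a) hodd.pow (hx xrelA (List.mem_singleton.2 rfl))

end Cfsg.Agent.Lib.Helper1.TitsGen
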