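import Cfsg.Agent.Lib.Helper1.TitsPack
import Cfsg.Agent.Lib.Helper1.TitsGenMem
import Cfsg.Agent.Lib.Helper92.Tits.AWords

/-! # The Tits group: the six `2A`-involutions of helper92's presentation as elements of the group (helper1; S2115)

F4-side glue for the involution half (`p = 3, 5`): the elements `gA i : TitsGroup`, their orders, their packed
matrices, and the fact that they generate the Tits group (from helper92's conjugation and generation words, checked
on packed bit matrices). -/

set_option autoImplicit false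

namespace Cfsg.Agent.Lib.Helper1.TitsGen

open Cfsg Cfsg.Lie Cfsg.Agent.Lib.Helper18 Cfsg.Agent.Lib.Helper36 Cfsg.Agent.Lib.Helper89.CosetCert
open Cfsg.Agent.Lib.Helper31.F4P
open Cfsg.Agent.Lib.Helper92 (Tits.wA Tits.wAgen Tits.GA Tits.gsW Tits.conjW Tits.cosB Tits.cosW)

local notation "𝔾" => twistedF4 (ZMod 2) 1

/-- the packed matrices of the six involutions -/
def PA (i : ℕ) : ℕ := packRows (Tits.GA i)

theorem odda_wA_ge (i : ℕ) (h : 6 ≤ i) : Tits.wA i = [] := by
  unfold Tits.wA
  rw [if_neg (by omega), if_neg (by omega), if_neg (by omega), if_neg (by omega), if_neg (by omega),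
    if_neg (by omega)]

theorem odda_PA_ge (i : ℕ) (h : 6 ≤ i) : PA i = idP := by
  unfold PA Tits.GA
  rw [if_neg (by omega), if_neg (by omega), if_neg (by omega), if_neg (by omega), if_neg (by omega),
    if_neg (by omega)]
  rfl

theorem odda_allowed_lt : ∀ i < 6, ∀ r ∈ Tits.wA i, r ∈ f4Allowed := by decide

theorem odda_allowed (i : ℕ) : ∀ r ∈ Tits.wA i, r ∈ f4Allowed := by
  by_cases h : i < 6
  · exact odda_allowed_lt i h
  · rw [odda_wA_ge i (not_lt.1 h)]
    intro r hr
    exact absurd hr List.not_mem_nil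

/-- the packed matrices of the six involutions are those of their root words -/
theorem odda_rows_lt : ∀ i < 6, prodP ((Tits.wA i).map PT1) = PA i := by decide +kernel

theorem odda_rep (i : ℕ) : RepP (gW (Tits.wA i)) (PA i) := by
  by_cases h : i < 6
  · exact repP_cast (repP_gW _ (odda_allowed i)) (odda_rows_lt i h)
  · rw [odda_wA_ge i (not_lt.1 h), odda_PA_ge i (not_lt.1 h), gW_nil]
    exact repP_one

theorem odda_sq_bits : ∀ i < 6, mulP (PA i) (PA i) = idP := by decide +kernel

theorem odda_sq (i : ℕ) : gW (Tits.wA i) * gW (Tits.wA i) = 1 := by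
  by_cases h : i < 6
  · exact repP_ext (repP_cast (repP_mul (odda_rep i) (odda_rep i)) (odda_sq_bits i h)) repP_one
  · rw [odda_wA_ge i (not_lt.1 h), gW_nil, one_mul]

theorem odda_flat : ∀ i < 6, (Tits.wAgen i).flatten = Tits.wA i := by decide

theorem odda_pieces : ∀ i < 6, ∀ w ∈ Tits.wAgen i, w ∈ genWords ∨ w.reverse ∈ genWords := by decide

theorem odda_mem (i : ℕ) (hi : i < 6) : gW (Tits.wA i) ∈ twistedF4 (ZMod 2) 1 := by
  rw [← odda_flat i hi]
  exact gW_flatten_mem _ (odda_pieces i hi)

theorem odda_hT : ∀ i < 6, ∃ hx : gW (Tits.wA i) ∈ twistedF4 (ZMod 2) 1,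
    (⟨gW (Tits.wA i), hx⟩ : ↥(twistedF4 (ZMod 2) 1)) ∈ commutator ↥(twistedF4 (ZMod 2) 1) :=
  fun i hi => ⟨odda_mem i hi, mem_comm_of_sq _ (odda_mem i hi) (odda_sq i)⟩

/-- the six involutions `t₀, …, t₅` of helper92's presentation, as elements of the Tits group -/
noncomputable def gA : ℕ → TitsGroup := titsFam 6 Tits.wA odda_hT

theorem titsVal_gA (i : ℕ) : titsVal (gA i) = gW (Tits.wA i) :=
  titsVal_titsFam 6 Tits.wA odda_hT odda_wA_ge i

theorem repP_gA (i : ℕ) : RepP (titsVal (gA i)) (PA i) := by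
  rw [titsVal_gA]
  exact odda_rep i

theorem gA_mul_self (i : ℕ) : gA i * gA i = 1 := by
  apply titsVal_injective
  rw [map_mul, titsVal_gA, odda_sq, map_one]

theorem gA_pow_two (i : ℕ) : gA i ^ 2 = 1 := by
  rw [pow_two, gA_mul_self]

/-- relators of the presentation hold as soon as the packed matrices multiply to the identity -/
theorem gA_ev_eq_one (word : Word) (h : prodP (word.map fun l => PA (l / 2)) = idP) : ev gA word = 1 :=
  ev_eq_one_of_prodP gA PA repP_gA gA_mul_self word h

/-- Boolean form for lists of relators -/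
def relOKA (word : Word) : Bool := decide (prodP (word.map fun l => PA (l / 2)) = idP)

theorem gA_ev_eq_one_of_all (words : List Word) (h : words.all relOKA = true) : ∀ r ∈ words, ev gA r = 1 := by
  intro r hr
  rw [List.all_eq_true] at h
  have := h r hr
  unfold relOKA at this
  exact gA_ev_eq_one r (of_decide_eq_true this)

/-! ## generation -/

/-- the subgroup of `GL` generated by the six involutions -/
def TA : Subgroup (GL chevF4.Idx (ZMod 2)) :=
  Subgroup.closure {x : GL chevF4.Idx (ZMod 2) | ∃ j < 6, x = gW (Tits.wA j)}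

theorem odda_mem_TA (j : ℕ) : gW (Tits.wA j) ∈ TA := by
  by_cases h : j < 6
  · exact Subgroup.subset_closure ⟨j, h, rfl⟩
  · rw [odda_wA_ge j (not_lt.1 h), gW_nil]
    exact one_mem _

/-- conjugation: identities of packed matrices for the eight generators and the six involutions -/
theorem odda_conj_bits : ∀ v < 8, ∀ i < 6,
    mulP (mulP (prodP ((Tits.gsW.getD v []).map PT1)) (PA i)) (prodP ((Tits.gsW.getD v []).reverse.map PT1)) =
      prodP ((Tits.conjW v i).map fun l => PA (l / 2)) := by decide +kernel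

theorem odda_genWords_idx (w : List ℕ) (hw : w ∈ genWords) : ∃ v < 8, Tits.gsW.getD v [] = w := by
  simp only [genWords, List.mem_cons, List.not_mem_nil, or_false] at hw
  rcases hw with rfl | rfl | rfl | rfl | rfl | rfl | rfl | rfl
  · exact ⟨0, by norm_num, rfl⟩
  · exact ⟨1, by norm_num, rfl⟩
  · exact ⟨2, by norm_num, rfl⟩
  · exact ⟨3, by norm_num, rfl⟩
  · exact ⟨4, by norm_num, rfl⟩
  · exact ⟨5, by norm_num, rfl⟩
  · exact ⟨6, by norm_num, rfl⟩
  · exact ⟨7, by norm_num, rfl⟩

theorem odda_gen_allowed : ∀ w ∈ genWords, ∀ r ∈ w, r ∈ f4Allowed := by decide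

theorem odda_gen_rev_allowed : ∀ w ∈ genWords, ∀ r ∈ w.reverse, r ∈ f4Allowed := by decide

theorem odda_hconj : ∀ v ∈ genWords, ∀ i < 6, gW v * gW (Tits.wA i) * (gW v)⁻¹ ∈ TA := by
  intro w hw i hi
  obtain ⟨v, hv, rfl⟩ := odda_genWords_idx w hw
  refine titspack_mem TA (fun j => gW (Tits.wA j)) PA odda_rep odda_mem_TA _ (Tits.conjW v i) ?_
  rw [gW_inv]
  exact repP_cast (repP_mul (repP_mul (repP_gW _ (odda_gen_allowed _ hw)) (odda_rep i))
    (repP_gW _ (odda_gen_rev_allowed _ hw))) (odda_conj_bits v hv i hi)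

/-- generation: identities of packed matrices -/
theorem odda_cos_bits : ∀ v < 8,
    (if Tits.cosB v = true then mulP (prodP ((Tits.gsW.getD v []).map PT1)) (prodP (([28, 25, 27] : List ℕ).map PT1))
      else prodP ((Tits.gsW.getD v []).map PT1)) = prodP ((Tits.cosW v).map fun l => PA (l / 2)) := by
  decide +kernel

theorem odda_hcos : ∀ v ∈ genWords, gW v ∈ TA ∨ gW v * (gW Cfsg.Agent.Lib.Helper36.wA)⁻¹ ∈ TA := by
  intro w hw
  obtain ⟨v, hv, rfl⟩ := odda_genWords_idx w hw
  have hb := odda_cos_bits v hv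
  by_cases hc : Tits.cosB v = true
  · right
    rw [if_pos hc] at hb
    refine titspack_mem TA (fun j => gW (Tits.wA j)) PA odda_rep odda_mem_TA _ (Tits.cosW v) ?_
    have e : (gW Cfsg.Agent.Lib.Helper36.wA)⁻¹ = gW [28, 25, 27] := gW_inv Cfsg.Agent.Lib.Helper36.wA
    rw [e]
    exact repP_cast (repP_mul (repP_gW _ (odda_gen_allowed _ hw)) (repP_gW [28, 25, 27] (by decide))) hb
  · left
    rw [if_neg hc] at hb
    refine titspack_mem TA (fun j => gW (Tits.wA j)) PA odda_rep odda_mem_TA _ (Tits.cosW v) ?_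
    exact repP_cast (repP_gW _ (odda_gen_allowed _ hw)) hb

/-- **the six involutions generate the Tits group** -/
theorem gA_closure : Subgroup.closure {y : TitsGroup | ∃ i < 6, y = gA i} = ⊤ :=
  tits_closure_top_fam 6 Tits.wA gA (fun i _ => titsVal_gA i) odda_hconj odda_hcos

end Cfsg.Agent.Lib.Helper1.TitsGen
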