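import Cfsg.Agent.Lib.Helper1.TitsOddA
import Cfsg.Agent.Lib.Helper92.Tits.ADefs

/-! # The Tits group: the 480 conjugation relators and the odd relator of helper92's presentation hold (helper1; S2115)

checked on packed bit matrices in the kernel. -/

set_option autoImplicit false

namespace Cfsg.Agent.Lib.Helper1.TitsGen

open Cfsg Cfsg.Lie Cfsg.Agent.Lib.Helper89.CosetCert Cfsg.Agent.Lib.Helper89.SafePres
open Cfsg.Agent.Lib.Helper92.Tits (srelsA xrelA)

theorem odd_valid_words : ((srelsA.map SRel.word).all relOKA) = true := by decide +kernel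

/-- `hvalid`: the conjugation relators hold in the Tits group -/
theorem odd_valid : ∀ r ∈ srelsA, ev gA r.word = 1 := by
  intro r hr
  exact gA_ev_eq_one_of_all _ odd_valid_words _ (List.mem_map.2 ⟨r, hr, rfl⟩)

/-- `hxvalid`: the odd relator `t₀ t₁ t₂` holds in the Tits group -/
theorem odd_xvalid : ∀ r ∈ [xrelA], ev gA r = 1 := gA_ev_eq_one_of_all [xrelA] (by decide +kernel)

end Cfsg.Agent.Lib.Helper1.TitsGen
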