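import Cfsg.Agent.Lib.Helper1.TitsEv
import Cfsg.Agent.Lib.Helper31.F4Pack

/-! # The Tits group: bridge from packed bit matrices (helper31's `F4Pack`) to the group (helper1; for S2115)

Identities between products of generators are checked on packed `52 × 52` bit matrices (one natural number of 2704
bits each, multiplied with big-number arithmetic in the kernel), and transported to `GL` and to the Tits group. -/

set_option autoImplicit false

namespace Cfsg.Agent.Lib.Helper1.TitsGen

open Cfsg Cfsg.Lie Cfsg.Agent.Lib.Helper18 Cfsg.Agent.Lib.Helper36 Cfsg.Agent.Lib.Helper89.CosetCert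
open Cfsg.Agent.Lib.Helper31.F4P

/-- the product of a list of packed matrices -/
def prodP : List ℕ → ℕ
  | [] => idP
  | A :: l => mulP A (prodP l)

/-- the packed matrix of the root element `x_r(1)` -/
def PT1 (r : ℕ) : ℕ := packRows (prodBits ([r].map f4Tab2))

theorem repP_gW_of_bits (w : List ℕ) (hw : ∀ r ∈ w, r ∈ f4Allowed) :
    RepP (gW w) (packRows (prodBits (w.map f4Tab2))) :=
  repP_of_list (gW_coe w hw)

theorem repP_gW (w : List ℕ) (hw : ∀ r ∈ w, r ∈ f4Allowed) : RepP (gW w) (prodP (w.map PT1)) := by
  induction w with
  | nil =>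
    rw [gW_nil]
    exact repP_one
  | cons r w ih =>
    have h1 : gW (r :: w) = gW [r] * gW w := by
      rw [← gW_append]; rfl
    rw [h1, List.map_cons]
    exact repP_mul (repP_gW_of_bits [r] (fun s hs => by
      rw [List.mem_singleton] at hs
      rw [hs]; exact hw r List.mem_cons_self)) (ih fun s hs => hw s (List.mem_cons_of_mem _ hs))

/-- the packed matrix of a product of generators `s (l / 2)` along a word -/
theorem repP_list_prod (s : ℕ → GL chevF4.Idx (ZMod 2)) (PA : ℕ → ℕ) (hs : ∀ j, RepP (s j) (PA j))
    (word : List ℕ) : RepP (word.map fun l => s (l / 2)).prod (prodP (word.map fun l => PA (l / 2))) := by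
  induction word with
  | nil => exact repP_one
  | cons l word ih =>
    rw [List.map_cons, List.prod_cons, List.map_cons]
    exact repP_mul (hs _) ih

/-- an element of `GL` whose packed matrix is a product of the `PA` along a word lies in any subgroup containing
the `s j` -/
theorem titspack_mem (T : Subgroup (GL chevF4.Idx (ZMod 2))) (s : ℕ → GL chevF4.Idx (ZMod 2)) (PA : ℕ → ℕ)
    (hs : ∀ j, RepP (s j) (PA j)) (hT : ∀ j, s j ∈ T) (x : GL chevF4.Idx (ZMod 2)) (word : List ℕ)
    (hx : RepP x (prodP (word.map fun l => PA (l / 2)))) : x ∈ T := by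
  rw [repP_ext hx (repP_list_prod s PA hs word)]
  apply Subgroup.list_prod_mem
  intro y hy
  obtain ⟨l, _, rfl⟩ := List.mem_map.1 hy
  exact hT _

/-! ## words in involutions of the Tits group -/

/-- the matrix of an element of the Tits group -/
def titsMat (x : TitsGroup) : Matrix chevF4.Idx chevF4.Idx (ZMod 2) :=
  ((titsVal x : GL chevF4.Idx (ZMod 2)) : Matrix chevF4.Idx chevF4.Idx (ZMod 2))

theorem titsMat_injective : Function.Injective titsMat := by
  intro x y h
  exact titsVal_injective (Units.ext h)

/-- the packed matrix of a word in involutions `g i` with packed matrices `PA i` -/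
theorem repP_ev_invol (g : ℕ → TitsGroup) (PA : ℕ → ℕ) (hg : ∀ i, RepP (titsVal (g i)) (PA i))
    (hinv : ∀ i, g i * g i = 1) (word : Word) :
    RepP (titsVal (ev g word)) (prodP (word.map fun l => PA (l / 2))) := by
  induction word with
  | nil =>
    rw [ev_nil, map_one]
    exact repP_one
  | cons l word ih =>
    have hl : lv g l = g (l / 2) := by
      unfold lv
      split_ifs
      · rfl
      · exact inv_eq_of_mul_eq_one_right (hinv _)
    rw [ev_cons, map_mul, hl, List.map_cons]
    exact repP_mul (hg _) ih

/-- a relator in involutions holds as soon as the packed matrices multiply to the identity -/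
theorem ev_eq_one_of_prodP (g : ℕ → TitsGroup) (PA : ℕ → ℕ) (hg : ∀ i, RepP (titsVal (g i)) (PA i))
    (hinv : ∀ i, g i * g i = 1) (word : Word)
    (h : prodP (word.map fun l => PA (l / 2)) = idP) : ev g word = 1 := by
  apply titsVal_injective
  rw [map_one]
  exact repP_ext (repP_cast (repP_ev_invol g PA hg hinv word) h) repP_one

end Cfsg.Agent.Lib.Helper1.TitsGen
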