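import Cfsg.Agent.Lib.Helper88.TrsDefs
import Cfsg.Agent.Lib.Helper88.Basic
import Cfsg.Agent.S5106

/-!
# Trs hive (S5156, owner helper88): leaf TRS-H4 `hyperfocal_eq_bot_of_subsingleton` (helper1)
-/

set_option autoImplicit false
set_option linter.unusedVariables false

namespace Cfsg.Agent.Lib.Helper88.Trs

open Cfsg Cfsg.FusionSystem

universe u

variable {Ω : Type*} [Group Ω] {S : Subgroup Ω} {p : ℕ} [Fact p.Prime]

/-- **TRS-H4**. -/
theorem hyperfocal_eq_bot_of_subsingleton [Finite S] (hS : IsPGroup p S) (E : FusionSystem S)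
    (hE : E.IsSaturated p) {Q : Subgroup Ω} (hQ : E.IsNormal Q) (hQc : E.IsCentric Q)
    (hA : Subsingleton ↥(E.autGroup Q)) : E.hyperfocalSubgroup p = ⊥ := by
  have hQS : Q ≤ S := hQ.1
  -- every map with source inside `Q` is an inclusion
  have key := (Cfsg.Agent.S5106.result p hS E hE Q hQS).1 hQ
  have hincl : ∀ (P : Subgroup Ω) (hPQ : P ≤ Q) (φ : P →* Ω), φ ∈ E.Hom P →
      ∀ x : P, φ x = (x : Ω) := by
    intro P hPQ φ hφ x
    obtain ⟨α, hα, hαx⟩ := key P hPQ φ hφ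
    have h1 : (⟨α, hα⟩ : ↥(E.autGroup Q)) = 1 := Subsingleton.elim _ _
    have hα1 : α = 1 := congrArg Subtype.val h1
    rw [← hαx x, hα1]
    rfl
  -- `S ≤ Q`
  have hSQ : S ≤ Q := by
    intro s hs
    have hconj : E.IsConj Q Q := by
      refine ⟨Q.subtype, Cfsg.Agent.Lib.Helper88.subtype_mem E hQS, ?_⟩
      exact Subgroup.range_subtype Q
    apply hQc.2 Q hconj
    refine ⟨hs, ?_⟩
    show s ∈ Subgroup.centralizer (Q : Set Ω)
    rw [Subgroup.mem_centralizer_iff]
    intro q hq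
    have h1 := hincl Q le_rfl (conjHom Q s) (E.conj_mem hQS hs) ⟨q, hq⟩
    have h2 : s * q * s⁻¹ = q := h1
    calc q * s = (s * q * s⁻¹) * s := by rw [h2]
      _ = s * q := by group
  -- all generators are trivial
  unfold hyperfocalSubgroup
  rw [Subgroup.closure_eq_bot_iff]
  rintro y ⟨P, α, x, hPS, -, rfl⟩
  have hα : P.subtype.comp (α : MulAut P).toMonoidHom ∈ E.Hom P :=
    (Cfsg.Agent.Lib.Helper88.mem_autGroup_iff E hPS (α : MulAut P)).1 α.2
  have h1 := hincl P (hPS.trans hSQ) _ hα x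
  have h2 : (((α : MulAut P) x : P) : Ω) = (x : Ω) := h1
  rw [Set.mem_singleton_iff, h2, inv_mul_cancel]

end Cfsg.Agent.Lib.Helper88.Trs
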