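import Cfsg.Agent.S0919
import Cfsg.Agent.S0936
import Cfsg.Agent.S0917
import Cfsg.Agent.S0908
import Cfsg.Agent.S0912
import Cfsg.Agent.S0938
import Cfsg.Agent.S1324
import Cfsg.Agent.Lib.Helper77.DefectGroup
import Cfsg.Agent.Lib.Helper3.Ortho

/-!
# Groups without non-principal blocks of large defect: local subgroups (helper1)
-/

set_option autoImplicit false

universe u

namespace Cfsg.Agent.Lib.Helper1.TwoDef

open Cfsg
open scoped ComplexConjugate

/-- every block has defect group of the right order -/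
theorem exists_defectGroup_card {G : Type u} [Group G] [Finite G] (p : ℕ) [Fact p.Prime]
    (M : Ideal AlgInt) (hM : IsPModular p M) (B : Set (IrrCharacter G)) (hB : IsPBlock M B) :
    ∃ D : Subgroup G, IsDefectGroup p M B D ∧ Nat.card D = p ^ blockDefect p B := by
  classical
  have := Fintype.ofFinite G
  obtain ⟨χ₀, rfl⟩ := hB
  obtain ⟨D, hD⟩ := Cfsg.Agent.Lib.Helper77.exists_isDefectGroup hM χ₀
  exact ⟨D, hD, Cfsg.Agent.S0908.result p M hM _ ⟨χ₀, rfl⟩ D hD⟩

/-- The defect of a block of a local subgroup is at most the defect of the induced block, and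
non-principal blocks induce non-principal blocks. -/
theorem local_defect_lt {G : Type u} [Group G] [Finite G] (p : ℕ) [Fact p.Prime]
    (M : Ideal AlgInt) (hM : IsPModular p M) (r : ℕ)
    (hyp : ∀ B : Set (IrrCharacter G), IsPBlock M B → B ≠ principalBlock M G →
      blockDefect p B < r)
    (Q H : Subgroup G) (hQ : IsPGroup p Q) (hQH : Q ≤ H)
    (hCH : Subgroup.centralizer (Q : Set G) ≤ H) (hHN : H ≤ Subgroup.normalizer (Q : Set G))
    (b : Set (IrrCharacter H)) (hb : IsPBlock M b) (hne : b ≠ principalBlock M H) :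
    blockDefect p b < r := by
  classical
  have hp : p.Prime := Fact.out
  have hdef := Cfsg.Agent.S0919.result p M hM Q H hQ hQH hCH hHN b hb
  obtain ⟨B, hind⟩ := hdef
  have hB : IsPBlock M B := hind.2.1
  have hBne : B ≠ principalBlock M G := by
    intro hBe
    apply hne
    rw [hBe] at hind
    exact (Cfsg.Agent.S0936.result p M hM H b ⟨_, hind⟩).mp hind
  have hlt := hyp B hB hBne
  obtain ⟨D₀, hD₀, hcard₀⟩ := exists_defectGroup_card p M hM b hb
  obtain ⟨E, hE, hle⟩ := Cfsg.Agent.S0917.result p M hM H b hb B hB hind D₀ hD₀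
  have hcardE := Cfsg.Agent.S0908.result p M hM B hB E hE
  have h1 : Nat.card (D₀.map H.subtype) = Nat.card D₀ :=
    Nat.card_congr (D₀.equivMapOfInjective H.subtype H.subtype_injective).symm.toEquiv
  have h2 : Nat.card (D₀.map H.subtype) ≤ Nat.card E := Subgroup.card_le_of_le hle
  rw [h1, hcard₀, hcardE] at h2
  have h3 : blockDefect p b ≤ blockDefect p B := (Nat.pow_le_pow_iff_right hp.one_lt).mp h2
  omega

/-- a normal `p`-subgroup bounds the defect of every block from below -/
theorem card_le_pow_defect {H : Type u} [Group H] [Finite H] (p : ℕ) [Fact p.Prime]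
    (M : Ideal AlgInt) (hM : IsPModular p M) (Q : Subgroup H) [Q.Normal] (hQ : IsPGroup p Q)
    (b : Set (IrrCharacter H)) (hb : IsPBlock M b) : Nat.card Q ≤ p ^ blockDefect p b := by
  obtain ⟨D, hD, hcard⟩ := exists_defectGroup_card p M hM b hb
  have h1 := Cfsg.Agent.S0912.result p M hM b hb D hD
  have h2 : Q ≤ pCore p H := le_sSup ⟨inferInstance, hQ⟩
  rw [← hcard]
  exact Subgroup.card_le_of_le (h2.trans h1)

/-- an element on which all irreducible characters are trivial is the identity -/
theorem eq_one_of_forall_irr {G : Type u} [Group G] [Finite G] (y : G)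
    (h : ∀ χ : IrrCharacter G, (χ : G → ℂ) y = (χ : G → ℂ) 1) : y = 1 := by
  classical
  have := Fintype.ofFinite G
  have := Fintype.ofFinite (IrrCharacter G)
  have hco := Cfsg.Agent.Lib.Helper3.column_orthogonality (G := G) 1 y
  have hco1 := Cfsg.Agent.Lib.Helper3.column_orthogonality (G := G) 1 1
  rw [if_pos (IsConj.refl 1)] at hco1
  have : ∑ χ : IrrCharacter G, (χ : G → ℂ) 1 * conj ((χ : G → ℂ) y) =
      ∑ χ : IrrCharacter G, (χ : G → ℂ) 1 * conj ((χ : G → ℂ) 1) :=
    Finset.sum_congr rfl fun χ _ => by rw [h χ]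
  rw [this, hco1] at hco
  by_contra hy
  have hnc : ¬ IsConj (1 : G) y := by
    intro hc
    exact hy (isConj_one_left.mp hc.symm)
  rw [if_neg hnc] at hco
  have hpos : 0 < Nat.card (Subgroup.centralizer ({(1 : G)} : Set G)) := Nat.card_pos
  have : (Nat.card (Subgroup.centralizer ({(1 : G)} : Set G)) : ℂ) ≠ 0 := by
    exact_mod_cast hpos.ne'
  exact this hco

end Cfsg.Agent.Lib.Helper1.TwoDef
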