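import Cfsg.Agent.Lib.Helper1.TwoDef1

/-!
# Groups without non-principal blocks of large defect: normal subgroups have even order (helper1)
-/

set_option autoImplicit false

universe u

namespace Cfsg.Agent.Lib.Helper1.TwoDef

open Cfsg
open scoped ComplexConjugate

/-- if all blocks are principal then every irreducible character lies in the principal block -/
theorem mem_principal_of_all {H : Type u} [Group H] [Finite H] (p : ℕ) [Fact p.Prime]
    (M : Ideal AlgInt) (hM : IsPModular p M)
    (hall : ∀ b : Set (IrrCharacter H), IsPBlock M b → b = principalBlock M H)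
    (χ : IrrCharacter H) : χ ∈ principalBlock M H := by
  classical
  have := Fintype.ofFinite H
  have hMp : M.IsPrime := hM.2.1.isPrime
  have h1 : χ ∈ blockOf M (χ : H → ℂ) := Cfsg.Agent.Lib.Helper77.self_mem_blockOf hMp χ
  rw [hall _ ⟨χ, rfl⟩] at h1
  exact h1

/-- a local subgroup with a large normal `p`-subgroup has only the principal block -/
theorem all_principal_of_big {G : Type u} [Group G] [Finite G] (p : ℕ) [Fact p.Prime]
    (M : Ideal AlgInt) (hM : IsPModular p M) (r : ℕ)
    (hyp : ∀ B : Set (IrrCharacter G), IsPBlock M B → B ≠ principalBlock M G →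
      blockDefect p B < r + 1)
    (Q H : Subgroup G) (hQ : IsPGroup p Q) (hQH : Q ≤ H)
    (hCH : Subgroup.centralizer (Q : Set G) ≤ H) (hHN : H ≤ Subgroup.normalizer (Q : Set G))
    (hcard : p ^ (r + 1) ≤ Nat.card Q) :
    ∀ b : Set (IrrCharacter H), IsPBlock M b → b = principalBlock M H := by
  intro b hb
  by_contra hne
  have hp : p.Prime := Fact.out
  have hlt := local_defect_lt p M hM (r + 1) hyp Q H hQ hQH hCH hHN b hb hne
  have hn : (Q.subgroupOf H).Normal :=
    (Subgroup.normal_subgroupOf_iff_le_normalizer hQH).mpr hHN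
  have hQ' : IsPGroup p (Q.subgroupOf H) := hQ.comap_subtype
  have h1 := card_le_pow_defect p M hM (Q.subgroupOf H) hQ' b hb
  have h2 : Nat.card (Q.subgroupOf H) = Nat.card Q :=
    Nat.card_congr (Subgroup.subgroupOfEquivOfLe hQH).toEquiv
  rw [h2] at h1
  have h3 : p ^ (r + 1) ≤ p ^ blockDefect p b := hcard.trans h1
  have h4 := (Nat.pow_le_pow_iff_right hp.one_lt).mp h3
  omega

/-- In a group with no non-principal `2`-block of defect `≥ r + 1` containing an elementary abelian
`2`-subgroup of order at least `2 ^ (r + 2)`, every non-trivial normal subgroup has even order. -/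
theorem even_card_of_normal {G : Type u} [Group G] [Finite G]
    (M : Ideal AlgInt) (hM : IsPModular 2 M) (r : ℕ)
    (hyp : ∀ B : Set (IrrCharacter G), IsPBlock M B → B ≠ principalBlock M G →
      blockDefect 2 B < r + 1)
    (E : Subgroup G) (hEc : IsMulCommutative E) (hE2 : ∀ x ∈ E, x * x = 1)
    (hEcard : 2 ^ (r + 2) ≤ Nat.card E)
    (X : Subgroup G) [hXn : X.Normal] (hX : X ≠ ⊥) : 2 ∣ Nat.card X := by
  classical
  have : Fact (Nat.Prime 2) := ⟨Nat.prime_two⟩
  have hMp : M.IsPrime := hM.2.1.isPrime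
  by_contra h2
  have h4 : 2 ^ 2 ≤ Nat.card E := by
    refine le_trans ?_ hEcard
    exact Nat.pow_le_pow_right (by norm_num) (by omega)
  have hnorm : E ≤ Subgroup.normalizer (X : Set G) := by
    rw [Subgroup.normalizer_eq_top]
    exact le_top
  have hS := Cfsg.Agent.S1324.result 2 E X
    ⟨hEc, fun a ha => by rw [pow_two]; exact hE2 a ha⟩ h4 h2 hnorm
  have hex : ∃ B : {B : Subgroup G // B ≤ E ∧ B.relIndex E ≤ 2},
      X ⊓ Subgroup.centralizer ((B : Subgroup G) : Set G) ≠ ⊥ := by
    by_contra hall
    push Not at hall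
    apply hX
    calc X = ⨆ B : {B : Subgroup G // B ≤ E ∧ B.relIndex E ≤ 2},
          X ⊓ Subgroup.centralizer ((B : Subgroup G) : Set G) := hS
      _ = ⊥ := iSup_eq_bot.mpr hall
  obtain ⟨⟨B, hBE, hBidx⟩, hBne⟩ := hex
  simp only at hBne
  -- the order of B
  have hBcard : 2 ^ (r + 1) ≤ Nat.card B := by
    have h1 := Subgroup.card_mul_index (B.subgroupOf E)
    have h2 : Nat.card (B.subgroupOf E) = Nat.card B :=
      Nat.card_congr (Subgroup.subgroupOfEquivOfLe hBE).toEquiv
    rw [h2] at h1
    have h3 : (B.subgroupOf E).index ≤ 2 := hBidx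
    have h5 : Nat.card E ≤ Nat.card B * 2 := by
      rw [← h1]
      exact Nat.mul_le_mul_left _ h3
    have h6 : 2 ^ (r + 2) = 2 ^ (r + 1) * 2 := by ring
    omega
  have hBH : B ≤ Subgroup.centralizer (B : Set G) := by
    intro x hx
    rw [Subgroup.mem_centralizer_iff]
    intro y hy
    have := hEc.is_comm.comm (⟨y, hBE hy⟩ : E) ⟨x, hBE hx⟩
    exact congrArg Subtype.val this
  have hBp : IsPGroup 2 B := by
    intro g
    refine ⟨1, ?_⟩
    apply Subtype.ext
    have := hE2 (g : G) (hBE g.2)
    simp only [pow_one, pow_two, Subgroup.coe_mul, Subgroup.coe_one]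
    exact this
  have hall := all_principal_of_big 2 M hM r hyp B (Subgroup.centralizer (B : Set G)) hBp hBH
    le_rfl (Subgroup.centralizer_le_normalizer _) hBcard
  -- the normal odd subgroup of the centralizer
  have hYn : (X.subgroupOf (Subgroup.centralizer (B : Set G))).Normal := hXn.subgroupOf _
  have hYodd : ¬ 2 ∣ Nat.card (X.subgroupOf (Subgroup.centralizer (B : Set G))) := by
    intro hd
    apply h2
    have h1 : Nat.card (X.subgroupOf (Subgroup.centralizer (B : Set G))) =
        Nat.card (X ⊓ Subgroup.centralizer (B : Set G) : Subgroup G) := by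
      rw [← Subgroup.inf_subgroupOf_right]
      exact Nat.card_congr (Subgroup.subgroupOfEquivOfLe inf_le_right).toEquiv
    rw [h1] at hd
    exact dvd_trans hd (Subgroup.card_dvd_of_le inf_le_left)
  obtain ⟨K, -, hK, -, -, hKmax⟩ := Cfsg.Agent.S0938.result 2 M hM
    (principalBlock M (Subgroup.centralizer (B : Set G)))
    (Cfsg.Agent.Lib.Helper81.isPBlock_principalBlock M)
    (Cfsg.Agent.Lib.Helper81.oneIrr _)
    (Cfsg.Agent.Lib.Helper81.oneIrr_mem_principalBlock hMp)
  have hYK := hKmax _ hYn hYodd (fun g _ => rfl)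
  obtain ⟨⟨y, hymem⟩, hy1⟩ := (Subgroup.ne_bot_iff_exists_ne_one).mp hBne
  have hyX : y ∈ X := hymem.1
  have hyH : y ∈ Subgroup.centralizer (B : Set G) := hymem.2
  have hyY : (⟨y, hyH⟩ : Subgroup.centralizer (B : Set G)) ∈
      X.subgroupOf (Subgroup.centralizer (B : Set G)) := by
    rw [Subgroup.mem_subgroupOf]
    exact hyX
  have hyK : ((⟨y, hyH⟩ : Subgroup.centralizer (B : Set G)) : Subgroup.centralizer (B : Set G)) ∈
      (K : Set (Subgroup.centralizer (B : Set G))) := hYK hyY
  rw [hK] at hyK
  have h1 := eq_one_of_forall_irr (⟨y, hyH⟩ : Subgroup.centralizer (B : Set G))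
    (fun χ => hyK χ (mem_principal_of_all 2 M hM hall χ))
  apply hy1
  apply Subtype.ext
  have h3 : y = 1 := congrArg Subtype.val h1
  exact h3

end Cfsg.Agent.Lib.Helper1.TwoDef
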