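import Cfsg.Agent.Lib.Helper1.TwoDef2
import Cfsg.Agent.S0941
import Cfsg.Agent.Lib.Helper16.DefectVal
import Cfsg.Agent.Lib.Helper77.InducedBlock2
import Cfsg.Agent.Lib.Helper79.Basic

/-!
# Groups without non-principal blocks of large defect: central quotients (helper1)
-/

set_option autoImplicit false

universe u

namespace Cfsg.Agent.Lib.Helper1.TwoDef

open Cfsg
open scoped ComplexConjugate

/-- Passing to the quotient by a central subgroup of order `2` lowers the defect bound. -/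
theorem quotient_hyp {H : Type u} [Group H] [Finite H]
    (M : Ideal AlgInt) (hM : IsPModular 2 M) (r : ℕ)
    (hyp : ∀ b : Set (IrrCharacter H), IsPBlock M b → b ≠ principalBlock M H →
      blockDefect 2 b < r + 1)
    (Z : Subgroup H) [Z.Normal] (hZc : Z ≤ Subgroup.center H) (hZ2 : Nat.card Z = 2) :
    ∀ b : Set (IrrCharacter (H ⧸ Z)), IsPBlock M b → b ≠ principalBlock M (H ⧸ Z) →
      blockDefect 2 b < r := by
  classical
  have : Fact (Nat.Prime 2) := ⟨Nat.prime_two⟩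
  have := Fintype.ofFinite H
  have := Fintype.ofFinite (H ⧸ Z)
  have hMp : M.IsPrime := hM.2.1.isPrime
  intro bbar hbbar hne
  obtain ⟨ψ₀, rfl⟩ := hbbar
  have hZp : IsPGroup 2 Z := IsPGroup.of_card (n := 1) (by rw [hZ2, pow_one])
  have hcent : Subgroup.centralizer (Z : Set H) = ⊤ := by
    rw [eq_top_iff]
    intro g _
    rw [Subgroup.mem_centralizer_iff]
    intro z hz
    exact ((Subgroup.mem_center_iff.mp (hZc hz)) g).symm
  have h941 := (Cfsg.Agent.S0941.result 2 M hM Z hZp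
    ⟨0, by rw [hcent, Subgroup.index_top, pow_zero]⟩).1
  -- the inflation
  obtain ⟨infl, hinfl⟩ : ∃ infl : IrrCharacter (H ⧸ Z) → IrrCharacter H,
      ∀ ψ : IrrCharacter (H ⧸ Z), ((infl ψ : IrrCharacter H) : H → ℂ) =
      (ψ : H ⧸ Z → ℂ) ∘ QuotientGroup.mk :=
    ⟨fun ψ => ⟨(ψ : H ⧸ Z → ℂ) ∘ QuotientGroup.mk,
      Cfsg.Agent.Lib.Helper79.isIrrCharacter_inflate Z ψ.2⟩, fun ψ => rfl⟩
  have hdeg : ∀ ψ : IrrCharacter (H ⧸ Z), charDegree ((infl ψ : IrrCharacter H) : H → ℂ) =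
      charDegree (ψ : H ⧸ Z → ℂ) := by
    intro ψ
    unfold charDegree
    rw [hinfl ψ]
    simp only [Function.comp_apply, QuotientGroup.mk_one]
  -- the block of the inflation is not principal
  have hbne : blockOf M ((infl ψ₀ : IrrCharacter H) : H → ℂ) ≠ principalBlock M H := by
    intro he
    apply hne
    have h1 : infl ψ₀ ∈ blockOf M ((infl ψ₀ : IrrCharacter H) : H → ℂ) :=
      Cfsg.Agent.Lib.Helper77.self_mem_blockOf hMp _
    rw [he] at h1
    have h2 : SameBlock M (fun _ : H => (1 : ℂ)) ((infl ψ₀ : IrrCharacter H) : H → ℂ) := h1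
    rw [hinfl ψ₀] at h2
    have e1 : ((Cfsg.Agent.Lib.Helper81.oneIrr (H ⧸ Z) : IrrCharacter (H ⧸ Z)) :
        H ⧸ Z → ℂ) ∘ QuotientGroup.mk = (fun _ : H => (1 : ℂ)) := by
      funext g
      simp only [Function.comp_apply]
      exact Cfsg.Agent.Lib.Helper81.oneIrr_apply _
    rw [← e1] at h2
    have h4 := (h941 (Cfsg.Agent.Lib.Helper81.oneIrr (H ⧸ Z)) ψ₀).mpr h2
    have h5 : ψ₀ ∈ blockOf M ((Cfsg.Agent.Lib.Helper81.oneIrr (H ⧸ Z) : IrrCharacter (H ⧸ Z)) :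
        H ⧸ Z → ℂ) := h4
    have h6 := Cfsg.Agent.Lib.Helper77.blockOf_eq_of_mem hMp h5
    have h7 : blockOf M ((Cfsg.Agent.Lib.Helper81.oneIrr (H ⧸ Z) : IrrCharacter (H ⧸ Z)) :
        H ⧸ Z → ℂ) = principalBlock M (H ⧸ Z) := rfl
    exact h6.trans h7
  have hlt := hyp _ ⟨infl ψ₀, rfl⟩ hbne
  have hge := card_le_pow_defect 2 M hM Z hZp _ ⟨infl ψ₀, rfl⟩
  rw [hZ2] at hge
  have hge1 : 1 ≤ blockDefect 2 (blockOf M ((infl ψ₀ : IrrCharacter H) : H → ℂ)) := by
    by_contra hcon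
    have : blockDefect 2 (blockOf M ((infl ψ₀ : IrrCharacter H) : H → ℂ)) = 0 := by omega
    rw [this] at hge
    norm_num at hge
  -- members of the block inflate into the block
  have hmem : ∀ ψ ∈ blockOf M (ψ₀ : H ⧸ Z → ℂ),
      infl ψ ∈ blockOf M ((infl ψ₀ : IrrCharacter H) : H → ℂ) := by
    intro ψ hψ
    have h1 := (h941 ψ₀ ψ).mp hψ
    rw [← hinfl ψ₀, ← hinfl ψ] at h1
    exact h1
  -- compare the minimal valuations
  have hne' : (blockOf M (ψ₀ : H ⧸ Z → ℂ)).Nonempty :=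
    ⟨ψ₀, Cfsg.Agent.Lib.Helper77.self_mem_blockOf hMp ψ₀⟩
  obtain ⟨ψ, hψ, hψmin⟩ := Cfsg.Agent.Lib.Helper16.exists_minDegVal 2 hne'
  have hmin := Cfsg.Agent.Lib.Helper16.minDegVal_le 2 (hmem ψ hψ)
  rw [hdeg ψ, hψmin] at hmin
  -- orders
  have hcard : Nat.card H = Nat.card (H ⧸ Z) * 2 := by
    rw [← hZ2]
    exact Subgroup.card_eq_card_quotient_mul_card_subgroup Z
  have hfac : (Nat.card H).factorization 2 = (Nat.card (H ⧸ Z)).factorization 2 + 1 := by
    rw [hcard, Nat.factorization_mul Nat.card_pos.ne' (by norm_num)]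
    simp [Nat.prime_two.factorization_self]
  rw [Cfsg.Agent.Lib.Helper16.blockDefect_eq] at hlt hge1 ⊢
  omega

end Cfsg.Agent.Lib.Helper1.TwoDef
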