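import Cfsg.Agent.Lib.Helper1.TwoDef3

/-!
# Groups without non-principal blocks of large defect: centralizers of involutions (helper1)
-/

set_option autoImplicit false

universe u

namespace Cfsg.Agent.Lib.Helper1.TwoDef

open Cfsg
open scoped ComplexConjugate

/-- the image of a subgroup in the quotient by a subgroup of order `2` -/
theorem card_le_two_mul_card_map {H : Type u} [Group H] [Finite H] (Z : Subgroup H) [Z.Normal]
    (hZ2 : Nat.card Z = 2) (K : Subgroup H) :
    Nat.card K ≤ 2 * Nat.card (K.map (QuotientGroup.mk' Z)) := by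
  have hsurj := QuotientGroup.mk'_surjective Z
  have h1 : ((K.map (QuotientGroup.mk' Z)).comap (QuotientGroup.mk' Z)).index =
      (K.map (QuotientGroup.mk' Z)).index := Subgroup.index_comap_of_surjective _ hsurj
  have h2 := Subgroup.card_mul_index ((K.map (QuotientGroup.mk' Z)).comap (QuotientGroup.mk' Z))
  have h3 := Subgroup.card_mul_index (K.map (QuotientGroup.mk' Z))
  have h4 : Nat.card H = Nat.card (H ⧸ Z) * Nat.card Z :=
    Subgroup.card_eq_card_quotient_mul_card_subgroup Z
  rw [hZ2] at h4
  have h5 : K ≤ (K.map (QuotientGroup.mk' Z)).comap (QuotientGroup.mk' Z) :=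
    Subgroup.le_comap_map _ _
  have h6 := Subgroup.card_le_of_le h5
  have hidx : (K.map (QuotientGroup.mk' Z)).index ≠ 0 := Subgroup.index_ne_zero_of_finite
  rw [h1] at h2
  have h7 : Nat.card ((K.map (QuotientGroup.mk' Z)).comap (QuotientGroup.mk' Z)) *
      (K.map (QuotientGroup.mk' Z)).index =
      (2 * Nat.card (K.map (QuotientGroup.mk' Z))) * (K.map (QuotientGroup.mk' Z)).index := by
    rw [h2, h4, ← h3]
    ring
  have h8 := Nat.eq_of_mul_eq_mul_right (Nat.pos_of_ne_zero hidx) h7
  omega

/-- In a group with no non-principal `2`-block of defect `≥ r + 1`, the centralizer of an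
involution centralizing a large elementary abelian subgroup is bounded (inductive step). -/
theorem card_centralizer_le {G : Type u} [Group G] [Finite G]
    (M : Ideal AlgInt) (hM : IsPModular 2 M) (r a N' : ℕ)
    (IH : ∀ (K : Type u) [Group K] [Finite K], (Nat.card K).factorization 2 ≤ a →
      (∀ b : Set (IrrCharacter K), IsPBlock M b → b ≠ principalBlock M K →
        blockDefect 2 b < r) →
      (∃ E : Subgroup K, IsMulCommutative E ∧ (∀ x ∈ E, x * x = 1) ∧
        2 ^ (r + 1) ≤ Nat.card E) → Nat.card K ≤ N')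
    (ha : (Nat.card G).factorization 2 ≤ a + 1)
    (hyp : ∀ B : Set (IrrCharacter G), IsPBlock M B → B ≠ principalBlock M G →
      blockDefect 2 B < r + 1)
    (E : Subgroup G) (hEc : IsMulCommutative E) (hE2 : ∀ x ∈ E, x * x = 1)
    (hEcard : 2 ^ (r + 2) ≤ Nat.card E)
    (s : G) (hs : orderOf s = 2) (hsE : ∀ x ∈ E, x * s = s * x) :
    Nat.card (Subgroup.centralizer ({s} : Set G)) ≤ 2 * N' := by
  classical
  have : Fact (Nat.Prime 2) := ⟨Nat.prime_two⟩
  have hsH : s ∈ Subgroup.centralizer ({s} : Set G) := by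
    rw [Subgroup.mem_centralizer_iff]
    intro y hy
    rw [Set.mem_singleton_iff.mp hy]
  have hQp : IsPGroup 2 (Subgroup.zpowers s) :=
    IsPGroup.of_card (n := 1) (by rw [Nat.card_zpowers, hs, pow_one])
  have hQH : Subgroup.zpowers s ≤ Subgroup.centralizer ({s} : Set G) :=
    (Subgroup.zpowers_le).mpr hsH
  have hCH : Subgroup.centralizer ((Subgroup.zpowers s : Subgroup G) : Set G) ≤
      Subgroup.centralizer ({s} : Set G) := by
    intro g hg
    rw [Subgroup.mem_centralizer_iff] at hg ⊢
    intro y hy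
    rw [Set.mem_singleton_iff.mp hy]
    exact hg s (Subgroup.mem_zpowers s)
  have hHN : Subgroup.centralizer ({s} : Set G) ≤
      Subgroup.normalizer ((Subgroup.zpowers s : Subgroup G) : Set G) := by
    refine le_trans ?_ (Subgroup.centralizer_le_normalizer _)
    intro g hg
    rw [Subgroup.mem_centralizer_iff] at hg ⊢
    intro y hy
    obtain ⟨k, rfl⟩ := Subgroup.mem_zpowers_iff.mp hy
    have hc : Commute s g := hg s rfl
    exact (hc.zpow_left k)
  have hypH := fun b hb hne => local_defect_lt 2 M hM (r + 1) hyp (Subgroup.zpowers s)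
    (Subgroup.centralizer ({s} : Set G)) hQp hQH hCH hHN b hb hne
  -- the central subgroup of order two
  obtain ⟨s', hs'⟩ : ∃ s' : Subgroup.centralizer ({s} : Set G), (s' : G) = s := ⟨⟨s, hsH⟩, rfl⟩
  have hs'c : ∀ g : Subgroup.centralizer ({s} : Set G), g * s' = s' * g := by
    intro g
    apply Subtype.ext
    have := (Subgroup.mem_centralizer_iff.mp g.2) s rfl
    rw [Subgroup.coe_mul, Subgroup.coe_mul, hs']
    exact this.symm
  have hZc : Subgroup.zpowers s' ≤ Subgroup.center (Subgroup.centralizer ({s} : Set G)) := by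
    rw [Subgroup.zpowers_le, Subgroup.mem_center_iff]
    exact hs'c
  have hZn : (Subgroup.zpowers s').Normal := by
    refine ⟨fun z hz g => ?_⟩
    have h1 := (Subgroup.mem_center_iff.mp (hZc hz)) g
    rw [h1, mul_inv_cancel_right]
    exact hz
  have hZ2 : Nat.card (Subgroup.zpowers s') = 2 := by
    rw [Nat.card_zpowers, ← hs]
    have h1 : orderOf (s' : G) = orderOf s' := Subgroup.orderOf_coe s'
    rw [← h1, hs']
  have hypQ := quotient_hyp M hM r hypH (Subgroup.zpowers s') hZc hZ2
  -- the image of E
  have hEH : E ≤ Subgroup.centralizer ({s} : Set G) := by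
    intro x hx
    rw [Subgroup.mem_centralizer_iff]
    intro y hy
    rw [Set.mem_singleton_iff.mp hy]
    exact (hsE x hx).symm
  have hK : Nat.card (E.subgroupOf (Subgroup.centralizer ({s} : Set G))) = Nat.card E :=
    Nat.card_congr (Subgroup.subgroupOfEquivOfLe hEH).toEquiv
  have hmap := card_le_two_mul_card_map (Subgroup.zpowers s') hZ2
    (E.subgroupOf (Subgroup.centralizer ({s} : Set G)))
  rw [hK] at hmap
  have hEbar : ∃ E' : Subgroup (Subgroup.centralizer ({s} : Set G) ⧸ Subgroup.zpowers s'),
      IsMulCommutative E' ∧ (∀ x ∈ E', x * x = 1) ∧ 2 ^ (r + 1) ≤ Nat.card E' := by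
    refine ⟨(E.subgroupOf (Subgroup.centralizer ({s} : Set G))).map
      (QuotientGroup.mk' (Subgroup.zpowers s')), inferInstance, ?_, ?_⟩
    · rintro _ ⟨y, hy, rfl⟩
      rw [← map_mul]
      have : y * y = 1 := by
        apply Subtype.ext
        rw [Subgroup.coe_mul]
        exact hE2 _ (Subgroup.mem_subgroupOf.mp hy)
      rw [this, map_one]
    · have h6 : 2 ^ (r + 2) = 2 * 2 ^ (r + 1) := by ring
      omega
  -- the 2-part of the order
  have hcard : Nat.card (Subgroup.centralizer ({s} : Set G)) =
      Nat.card (Subgroup.centralizer ({s} : Set G) ⧸ Subgroup.zpowers s') * 2 := by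
    rw [← hZ2]
    exact Subgroup.card_eq_card_quotient_mul_card_subgroup _
  have hfac : (Nat.card (Subgroup.centralizer ({s} : Set G))).factorization 2 =
      (Nat.card (Subgroup.centralizer ({s} : Set G) ⧸ Subgroup.zpowers s')).factorization 2 + 1 := by
    rw [hcard, Nat.factorization_mul Nat.card_pos.ne' (by norm_num)]
    simp [Nat.prime_two.factorization_self]
  have hdvd : Nat.card (Subgroup.centralizer ({s} : Set G)) ∣ Nat.card G :=
    Subgroup.card_subgroup_dvd_card _
  have hle := (Nat.factorization_le_iff_dvd Nat.card_pos.ne' Nat.card_pos.ne').mpr hdvd 2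
  have hfin := IH (Subgroup.centralizer ({s} : Set G) ⧸ Subgroup.zpowers s') (by omega) hypQ hEbar
  omega

end Cfsg.Agent.Lib.Helper1.TwoDef
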