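import Cfsg.Agent.S4476
import Cfsg.Agent.Lib.Helper32.PGroupCenter
import Cfsg.Agent.Lib.Helper69.Basic

/-!
# A Brauer–Fowler bound: groups all of whose non-trivial normal subgroups have even order and whose
central involutions of a Sylow `2`-subgroup have small centralizers (helper1)
-/

set_option autoImplicit false

universe u

namespace Cfsg.Agent.Lib.Helper1.TwoDef

open Cfsg
open scoped Pointwise

/-- A normal subgroup of even order contains an involution from the centre of a given Sylow
`2`-subgroup. -/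
theorem exists_central_involution {G : Type u} [Group G] [Finite G] (P : Sylow 2 G)
    (X : Subgroup G) [hXn : X.Normal] (hX : 2 ∣ Nat.card X) :
    ∃ w : G, w ∈ X ∧ orderOf w = 2 ∧ w ∈ (P : Subgroup G) ∧
      w ∈ Subgroup.centralizer ((P : Subgroup G) : Set G) := by
  classical
  have : Fact (Nat.Prime 2) := ⟨Nat.prime_two⟩
  -- an involution of X inside P
  obtain ⟨x, hx⟩ := exists_prime_orderOf_dvd_card' (G := X) 2 hX
  have hx' : orderOf (x : G) = 2 := by rw [Subgroup.orderOf_coe]; exact hx
  have hzp : IsPGroup 2 (Subgroup.zpowers (x : G)) :=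
    IsPGroup.of_card (n := 1) (by rw [Nat.card_zpowers, hx', pow_one])
  obtain ⟨Q, hQ⟩ := hzp.exists_le_sylow
  obtain ⟨g, hg⟩ := MulAction.exists_smul_eq G Q P
  have hxQ : (x : G) ∈ (Q : Subgroup G) := hQ (Subgroup.mem_zpowers _)
  have hgx : g * (x : G) * g⁻¹ ∈ (P : Subgroup G) := by
    rw [← hg, Sylow.coe_subgroup_smul]
    have := Subgroup.smul_mem_pointwise_smul (x : G) (MulAut.conj g) (Q : Subgroup G) hxQ
    rwa [MulAut.smul_def, MulAut.conj_apply] at this
  have hgxX : g * (x : G) * g⁻¹ ∈ X := hXn.conj_mem _ x.2 g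
  have hgx1 : g * (x : G) * g⁻¹ ≠ 1 := by
    intro h
    have h2 : (x : G) = 1 := by
      have := congrArg (fun y => g⁻¹ * y * g) h
      simp only [mul_one, inv_mul_cancel] at this
      rw [← this]
      group
    rw [h2, orderOf_one] at hx'
    omega
  -- the normal subgroup of P
  have hYn : (X.subgroupOf (P : Subgroup G)).Normal := hXn.subgroupOf _
  have hYne : X.subgroupOf (P : Subgroup G) ≠ ⊥ := by
    intro h
    have h1 : (⟨g * (x : G) * g⁻¹, hgx⟩ : (P : Subgroup G)) ∈ X.subgroupOf (P : Subgroup G) := by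
      rw [Subgroup.mem_subgroupOf]
      exact hgxX
    rw [h, Subgroup.mem_bot] at h1
    exact hgx1 (congrArg Subtype.val h1)
  obtain ⟨b, hbY, hbZ, hb1⟩ :=
    Cfsg.Agent.Lib.Helper32.exists_ne_one_mem_normal_inf_center P.isPGroup'
      (X.subgroupOf (P : Subgroup G)) hYne
  -- the subgroup Y ⊓ Z(P) is a nontrivial 2-group
  have hTp : IsPGroup 2 (X.subgroupOf (P : Subgroup G) ⊓ Subgroup.center (P : Subgroup G) :
      Subgroup (P : Subgroup G)) := P.isPGroup'.to_subgroup _
  have hTnt : Nontrivial (X.subgroupOf (P : Subgroup G) ⊓ Subgroup.center (P : Subgroup G) :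
      Subgroup (P : Subgroup G)) := by
    rw [Subgroup.nontrivial_iff_ne_bot]
    intro h
    have h1 : b ∈ (X.subgroupOf (P : Subgroup G) ⊓ Subgroup.center (P : Subgroup G) :
      Subgroup (P : Subgroup G)) := ⟨hbY, hbZ⟩
    rw [h, Subgroup.mem_bot] at h1
    exact hb1 h1
  have hdvd : 2 ∣ Nat.card (X.subgroupOf (P : Subgroup G) ⊓ Subgroup.center (P : Subgroup G) :
      Subgroup (P : Subgroup G)) := by
    obtain ⟨n, hn0, hn⟩ := hTp.nontrivial_iff_card.mp hTnt
    exact hn.symm ▸ dvd_pow_self _ (ne_of_gt hn0)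
  obtain ⟨t, ht⟩ := exists_prime_orderOf_dvd_card' 2 hdvd
  refine ⟨((t : (P : Subgroup G)) : G), ?_, ?_, (t : (P : Subgroup G)).2, ?_⟩
  · exact Subgroup.mem_subgroupOf.mp t.2.1
  · rw [Subgroup.orderOf_coe, Subgroup.orderOf_coe]
    exact ht
  · rw [Subgroup.mem_centralizer_iff]
    intro y hy
    have h1 := (Subgroup.mem_center_iff.mp t.2.2) ⟨y, hy⟩
    exact congrArg Subtype.val h1

end Cfsg.Agent.Lib.Helper1.TwoDef

namespace Cfsg.Agent.Lib.Helper1.TwoDef

open Cfsg
open scoped Pointwise

/-- **A Brauer–Fowler bound.** -/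
theorem card_le_of_central_involutions {G : Type u} [Group G] [Finite G] (n : ℕ) (P : Sylow 2 G)
    (h2 : 2 ∣ Nat.card G)
    (heven : ∀ X : Subgroup G, X.Normal → X ≠ ⊥ → 2 ∣ Nat.card X)
    (hcent : ∀ s : G, orderOf s = 2 → s ∈ (P : Subgroup G) →
      s ∈ Subgroup.centralizer ((P : Subgroup G) : Set G) →
      Nat.card (Subgroup.centralizer ({s} : Set G)) ≤ n) :
    Nat.card G ≤ n * (n ^ 2).factorial := by
  classical
  have := Fintype.ofFinite G
  obtain ⟨s₀, -, hs₀, hs₀P, hs₀C⟩ := exists_central_involution P ⊤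
    (by rwa [Subgroup.card_top])
  have hn₀ := hcent s₀ hs₀ hs₀P hs₀C
  obtain ⟨t, ht⟩ : ∃ t, Nat.card {x : G // orderOf x = 2} = t := ⟨_, rfl⟩
  have hidx : (Subgroup.centralizer ({s₀} : Set G)).index ≤ t := by
    rw [Cfsg.Agent.Lib.Helper69.index_centralizer_eq_card_isConj, ← ht]
    refine Nat.card_le_card_of_injective
      (fun y : {y : G // IsConj s₀ y} => (⟨y.1, ?_⟩ : {x : G // orderOf x = 2})) ?_
    · obtain ⟨c, hc⟩ := isConj_iff.mp y.2
      rw [← hc, ← hs₀]
      exact (MulAut.conj c).orderOf_eq s₀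
    · intro y₁ y₂ h
      apply Subtype.ext
      exact congrArg (fun z : {x : G // orderOf x = 2} => z.1) h
  have hG : Nat.card G ≤ n * t := by
    rw [← Subgroup.card_mul_index (Subgroup.centralizer ({s₀} : Set G))]
    exact Nat.mul_le_mul hn₀ hidx
  have ht0 : 0 < t := by
    rw [← ht]
    have : Nonempty {x : G // orderOf x = 2} := ⟨⟨s₀, hs₀⟩⟩
    exact Nat.card_pos
  obtain ⟨⟨x, hx1, hxle⟩, -⟩ := Cfsg.Agent.S4476.result (G := G) (even_iff_two_dvd.mpr h2) t ht
  have hgpos : 0 < Nat.card G := Nat.card_pos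
  have hxidx : (Subgroup.centralizer ({x} : Set G)).index ≤ n ^ 2 := by
    have htq : (0 : ℚ) < (t : ℚ) := by exact_mod_cast ht0
    have h1 : ((Nat.card G : ℚ) - 1) / t ≤ n := by
      rw [div_le_iff₀ htq]
      have : (Nat.card G : ℚ) ≤ (n : ℚ) * t := by exact_mod_cast hG
      linarith
    have h0 : (0 : ℚ) ≤ ((Nat.card G : ℚ) - 1) / t := by
      apply div_nonneg _ htq.le
      have : (1 : ℚ) ≤ (Nat.card G : ℚ) := by exact_mod_cast hgpos
      linarith
    have h3 : (((Nat.card G : ℚ) - 1) / t) ^ 2 ≤ (n : ℚ) ^ 2 := pow_le_pow_left₀ h0 h1 2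
    have h4 : ((Subgroup.centralizer ({x} : Set G)).index : ℚ) ≤ ((n ^ 2 : ℕ) : ℚ) := by
      push_cast
      exact hxle.trans h3
    exact_mod_cast h4
  -- the core of the centralizer
  have hLidx : (Subgroup.centralizer ({x} : Set G)).normalCore.index ≤ (n ^ 2).factorial := by
    have h : (Subgroup.centralizer ({x} : Set G)).normalCore.index ∣
        ((Subgroup.centralizer ({x} : Set G)).index).factorial := by
      rw [Subgroup.normalCore_eq_ker, Subgroup.index_ker, Subgroup.index_eq_card,
        ← Nat.card_perm]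
      exact Subgroup.card_subgroup_dvd_card
        (MulAction.toPermHom G (G ⧸ Subgroup.centralizer ({x} : Set G))).range
    exact (Nat.le_of_dvd (Nat.factorial_pos _) h).trans (Nat.factorial_le hxidx)
  -- the normal closure of x has even order
  have hXne : Subgroup.normalClosure ({x} : Set G) ≠ ⊥ := by
    intro h
    have h1 : x ∈ Subgroup.normalClosure ({x} : Set G) :=
      Subgroup.subset_normalClosure (Set.mem_singleton x)
    rw [h, Subgroup.mem_bot] at h1
    exact hx1 h1
  have hXeven := heven _ Subgroup.normalClosure_normal hXne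
  obtain ⟨w, hwX, hw, hwP, hwC⟩ := exists_central_involution P
    (Subgroup.normalClosure ({x} : Set G)) hXeven
  have hnw := hcent w hw hwP hwC
  -- the core centralizes the normal closure
  have hsub : Subgroup.normalClosure ({x} : Set G) ≤
      Subgroup.centralizer (((Subgroup.centralizer ({x} : Set G)).normalCore : Subgroup G) :
        Set G) := by
    apply Subgroup.normalClosure_le_normal
    intro y hy
    rw [Set.mem_singleton_iff.mp hy]
    rw [SetLike.mem_coe, Subgroup.mem_centralizer_iff]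
    intro l hl
    have h1 := (Subgroup.normalCore_le _) hl
    rw [Subgroup.mem_centralizer_iff] at h1
    exact (h1 x rfl).symm
  have hLle : (Subgroup.centralizer ({x} : Set G)).normalCore ≤
      Subgroup.centralizer ({w} : Set G) := by
    intro l hl
    rw [Subgroup.mem_centralizer_iff]
    intro y hy
    rw [Set.mem_singleton_iff.mp hy]
    have h1 := hsub hwX
    rw [Subgroup.mem_centralizer_iff] at h1
    exact (h1 l hl).symm
  have hLcard : Nat.card (Subgroup.centralizer ({x} : Set G)).normalCore ≤ n :=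
    (Subgroup.card_le_of_le hLle).trans hnw
  rw [← Subgroup.card_mul_index (Subgroup.centralizer ({x} : Set G)).normalCore]
  exact Nat.mul_le_mul hLcard hLidx

end Cfsg.Agent.Lib.Helper1.TwoDef
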