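import Cfsg.Agent.Lib.Helper1.TwoDef4
import Cfsg.Agent.Lib.Helper1.TwoDef5
import Cfsg.Agent.S4718

/-!
# Groups without non-principal `2`-blocks of large defect are bounded (helper1)
-/

set_option autoImplicit false

universe u

namespace Cfsg.Agent.Lib.Helper1.TwoDef

open Cfsg

/-- The main induction. -/
theorem main (r : ℕ) : ∀ a : ℕ, ∃ N : ℕ, ∀ (G : Type u) [Group G] [Finite G]
    (M : Ideal AlgInt), IsPModular 2 M → (Nat.card G).factorization 2 ≤ a →
    (∀ B : Set (IrrCharacter G), IsPBlock M B → B ≠ principalBlock M G → blockDefect 2 B < r) →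
    (∃ E : Subgroup G, IsMulCommutative E ∧ (∀ x ∈ E, x * x = 1) ∧ 2 ^ (r + 1) ≤ Nat.card E) →
    Nat.card G ≤ N := by
  have hp2 : Fact (Nat.Prime 2) := ⟨Nat.prime_two⟩
  induction r with
  | zero =>
    intro a
    choose Nf hNf using fun a' => Cfsg.Agent.S4718.result.{u} 2 a'
    refine ⟨(Finset.range (a + 1)).sup Nf, ?_⟩
    intro G _ _ M hM ha hyp _
    have h1 := hNf _ G M hM rfl (fun B hB => by
      by_contra hne
      have := hyp B hB hne
      omega)
    refine le_trans h1 ?_
    exact Finset.le_sup (f := Nf) (Finset.mem_range.mpr (by omega))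
  | succ r ih =>
    intro a
    rcases a with _ | a'
    · refine ⟨0, ?_⟩
      intro G _ _ M hM ha hyp hE
      exfalso
      obtain ⟨E, hEc, hE2, hEcard⟩ := hE
      have hEp : IsPGroup 2 E := by
        intro g
        refine ⟨1, ?_⟩
        apply Subtype.ext
        have := hE2 (g : G) g.2
        simp only [pow_one, pow_two, Subgroup.coe_mul, Subgroup.coe_one]
        exact this
      have h4 : 1 < Nat.card E := by
        have : 2 ^ 1 ≤ 2 ^ (r + 1 + 1) := Nat.pow_le_pow_right (by norm_num) (by omega)
        omega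
      rcases hEp.card_eq_or_dvd with h | h
      · omega
      · have hd : 2 ∣ Nat.card G := dvd_trans h (Subgroup.card_subgroup_dvd_card E)
        have hpos : 0 < (Nat.card G).factorization 2 :=
          Nat.Prime.factorization_pos_of_dvd Nat.prime_two Nat.card_pos.ne' hd
        omega
    · obtain ⟨N', hN'⟩ := ih a'
      refine ⟨(2 * N') * ((2 * N') ^ 2).factorial, ?_⟩
      intro G _ _ M hM ha hyp hE
      obtain ⟨E, hEc, hE2, hEcard⟩ := hE
      have hEp : IsPGroup 2 E := by
        intro g
        refine ⟨1, ?_⟩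
        apply Subtype.ext
        have := hE2 (g : G) g.2
        simp only [pow_one, pow_two, Subgroup.coe_mul, Subgroup.coe_one]
        exact this
      obtain ⟨P, hEP⟩ := hEp.exists_le_sylow
      have h4 : 1 < Nat.card E := by
        have : 2 ^ 1 ≤ 2 ^ (r + 1 + 1) := Nat.pow_le_pow_right (by norm_num) (by omega)
        omega
      have h2 : 2 ∣ Nat.card G := by
        rcases hEp.card_eq_or_dvd with h | h
        · omega
        · exact dvd_trans h (Subgroup.card_subgroup_dvd_card E)
      have heven : ∀ X : Subgroup G, X.Normal → X ≠ ⊥ → 2 ∣ Nat.card X := by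
        intro X hXn hX
        exact even_card_of_normal M hM r hyp E hEc hE2 hEcard X hX
      have hcent : ∀ s : G, orderOf s = 2 → s ∈ (P : Subgroup G) →
          s ∈ Subgroup.centralizer ((P : Subgroup G) : Set G) →
          Nat.card (Subgroup.centralizer ({s} : Set G)) ≤ 2 * N' := by
        intro s hs _ hsC
        refine card_centralizer_le M hM r a' N'
          (fun K _ _ hK hyK hEK => hN' K M hM hK hyK hEK) ha hyp E hEc hE2 hEcard s hs ?_
        intro x hx
        exact (Subgroup.mem_centralizer_iff.mp hsC) x (hEP hx)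
      exact card_le_of_central_involutions (2 * N') P h2 heven hcent

/-- The bound of Brauer for groups without non-principal `2`-blocks of large defect. -/
theorem bound (a : ℕ) : ∃ N : ℕ, ∀ (G : Type u) [Group G] [Finite G] (M : Ideal AlgInt) (r : ℕ)
    (P : Sylow 2 G), IsPModular 2 M → Nat.card P = 2 ^ a →
    (∀ B : Set (IrrCharacter G), IsPBlock M B → B ≠ principalBlock M G → blockDefect 2 B < r) →
    (∃ E : Subgroup G, E ≤ (P : Subgroup G) ∧ IsMulCommutative E ∧ (∀ x ∈ E, x * x = 1) ∧
      Nat.card E = 2 ^ (r + 1)) → Nat.card G ≤ N := by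
  have hp2 : Fact (Nat.Prime 2) := ⟨Nat.prime_two⟩
  choose Nf hNf using fun r => main.{u} r a
  refine ⟨(Finset.range (a + 1)).sup Nf, ?_⟩
  intro G _ _ M r P hM hP hyp hE
  obtain ⟨E, hEP, hEc, hE2, hEcard⟩ := hE
  have hfac : (Nat.card G).factorization 2 = a := by
    have h1 := P.card_eq_multiplicity
    rw [hP] at h1
    exact (Nat.pow_right_injective (le_refl 2) h1).symm
  have hra : r + 1 ≤ a := by
    have h1 : Nat.card E ≤ Nat.card (P : Subgroup G) := Subgroup.card_le_of_le hEP
    rw [hEcard] at h1
    have h2 : Nat.card (P : Subgroup G) = 2 ^ a := hP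
    rw [h2] at h1
    exact (Nat.pow_le_pow_iff_right (by norm_num)).mp h1
  have h1 := hNf r G M hM hfac.le hyp ⟨E, hEc, hE2, hEcard.ge⟩
  refine le_trans h1 ?_
  exact Finset.le_sup (f := Nf) (Finset.mem_range.mpr (by omega))

end Cfsg.Agent.Lib.Helper1.TwoDef
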